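import Cfsg.Agent.Lib.RegGen.Axes

/-!
Three dimensions: the upper unitriangular group of a flag, the stabiliser of a point, and a criterion for a
subgroup to be no larger than another by the orbit of a point.
-/

set_option autoImplicit false
set_option linter.unusedSectionVars false

namespace CfsgLib.Classical.ThreeMax

open Matrix
open scoped MatrixGroups commutatorElement

variable {F : Type*} [Field F]

local notation "S" => SpecialLinearGroup (Fin 3) F
local notation "m[" g "]" => (((g : SpecialLinearGroup (Fin 3) F) : Matrix (Fin 3) (Fin 3) F))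

/-- A unitriangular matrix. -/
def u (a b c : F) : S := ⟨!![1, a, c; 0, 1, b; 0, 0, 1], by simp [Matrix.det_fin_three]⟩

@[simp] theorem u_coe (a b c : F) : ((u a b c : S) : Matrix (Fin 3) (Fin 3) F) = !![1, a, c; 0, 1, b; 0, 0, 1] :=
  rfl

theorem u_mul (a b c a' b' c' : F) : u a b c * u a' b' c' = u (a + a') (b + b') (c + c' + a * b') :=
  by
    ext i j
    fin_cases i <;> fin_cases j <;> simp [Matrix.mul_apply, Fin.sum_univ_three] <;> ring

theorem u_zero : u (0 : F) 0 0 = 1 :=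
  by ext i j; fin_cases i <;> fin_cases j <;> simp [u]

theorem u_inv (a b c : F) : (u a b c : S)⁻¹ = u (-a) (-b) (a * b - c) :=
  inv_eq_of_mul_eq_one_right (by rw [u_mul, ← u_zero]; congr 1 <;> ring)

theorem u_comm (a b c a' b' c' : F) : ⁅(u a b c : S), u a' b' c'⁆ = u 0 0 (a * b' - a' * b) := by
  rw [commutatorElement_def, u_inv, u_inv, u_mul, u_mul, u_mul]
  congr 1 <;> ring

theorem u_ext {a b c a' b' c' : F} (h : (u a b c : S) = u a' b' c') : a = a' ∧ b = b' ∧ c = c' := by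
  have h' := congrArg (fun g : S => (g : Matrix (Fin 3) (Fin 3) F)) h
  refine ⟨by simpa using congrFun (congrFun h' 0) 1, by simpa using congrFun (congrFun h' 1) 2,
    by simpa using congrFun (congrFun h' 0) 2⟩

/-- Exchanges the first and the last coordinate. -/
def w : S := ⟨!![0, 0, 1; 0, -1, 0; 1, 0, 0], by simp [Matrix.det_fin_three]⟩

@[simp] theorem w_coe : ((w : S) : Matrix (Fin 3) (Fin 3) F) = !![0, 0, 1; 0, -1, 0; 1, 0, 0] := rfl

theorem w_mul_w : (w : S) * w = 1 :=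
  by ext i j; fin_cases i <;> fin_cases j <;> simp [w_coe, Matrix.mul_apply, Fin.sum_univ_three]

/-- The stabiliser of the first coordinate point. -/
def ptStab : Subgroup S where
  carrier := {g | m[g] 1 0 = 0 ∧ m[g] 2 0 = 0}
  one_mem' := by simp
  mul_mem' := by
    rintro g h ⟨g1, g2⟩ ⟨h1, h2⟩
    simp [Matrix.mul_apply, Fin.sum_univ_three, g1, g2, h1, h2]
  inv_mem' := by
    rintro g ⟨g1, g2⟩
    simp [SpecialLinearGroup.coe_inv, Matrix.adjugate_fin_three, g1, g2]

theorem mem_ptStab {g : S} : g ∈ ptStab ↔ m[g] 1 0 = 0 ∧ m[g] 2 0 = 0 := Iff.rfl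

theorem u_mem_ptStab (a b c : F) : (u a b c : S) ∈ ptStab := by simp [mem_ptStab]

/-- Triangular elements. -/
def Tri (g : S) : Prop := m[g] 1 0 = 0 ∧ m[g] 2 0 = 0 ∧ m[g] 2 1 = 0

theorem Tri.diag {g : S} (h : Tri g) : m[g] 0 0 * m[g] 1 1 * m[g] 2 2 = 1 := by
  have := g.det_coe
  rw [Matrix.det_fin_three, h.1, h.2.1, h.2.2] at this
  linear_combination this

theorem Tri.ne_zero {g : S} (h : Tri g) : m[g] 0 0 ≠ 0 ∧ m[g] 1 1 ≠ 0 ∧ m[g] 2 2 ≠ 0 := by
  have := h.diag
  refine ⟨fun e => ?_, fun e => ?_, fun e => ?_⟩ <;> simp [e] at this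

theorem Tri.inv {g : S} (h : Tri g) : Tri g⁻¹ := by
  refine ⟨?_, ?_, ?_⟩ <;> simp [SpecialLinearGroup.coe_inv, Matrix.adjugate_fin_three, h.1, h.2.1, h.2.2]

theorem Tri.inv_diag {g : S} (h : Tri g) :
    m[g⁻¹] 0 0 = m[g] 1 1 * m[g] 2 2 ∧ m[g⁻¹] 1 1 = m[g] 0 0 * m[g] 2 2 ∧ m[g⁻¹] 2 2 = m[g] 0 0 * m[g] 1 1 := by
  refine ⟨?_, ?_, ?_⟩ <;> simp [SpecialLinearGroup.coe_inv, Matrix.adjugate_fin_three, h.1, h.2.1, h.2.2]

theorem Tri.mul {g g' : S} (h : Tri g) (h' : Tri g') : Tri (g * g') ∧ m[g * g'] 0 0 = m[g] 0 0 * m[g'] 0 0 ∧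
    m[g * g'] 1 1 = m[g] 1 1 * m[g'] 1 1 ∧ m[g * g'] 2 2 = m[g] 2 2 * m[g'] 2 2 ∧
    m[g * g'] 0 1 = m[g] 0 0 * m[g'] 0 1 + m[g] 0 1 * m[g'] 1 1 ∧
    m[g * g'] 1 2 = m[g] 1 1 * m[g'] 1 2 + m[g] 1 2 * m[g'] 2 2 := by
  simp [Tri, Matrix.mul_apply, Fin.sum_univ_three, h.1, h.2.1, h.2.2, h'.1, h'.2.1, h'.2.2]

theorem tri_u (a b c : F) : Tri (u a b c : S) := by simp [Tri]

/-- A triangular element with unit diagonal is unitriangular. -/
theorem Tri.eq_u {g : S} (h : Tri g) (h0 : m[g] 0 0 = 1) (h1 : m[g] 1 1 = 1) :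
    g = u (m[g] 0 1) (m[g] 1 2) (m[g] 0 2) := by
  have h2 : m[g] 2 2 = 1 := by have := h.diag; rwa [h0, h1, one_mul, one_mul] at this
  ext i j
  fin_cases i <;> fin_cases j <;> simp [h.1, h.2.1, h.2.2, h0, h1, h2]

/-- A triangular element acts on the two root coordinates by the ratios of its diagonal. -/
theorem Tri.conj_u {g : S} (h : Tri g) (a b c : F) :
    ∃ c', g * u a b c * g⁻¹ = u (m[g] 0 0 / m[g] 1 1 * a) (m[g] 1 1 / m[g] 2 2 * b) c' := by
  obtain ⟨n0, n1, n2⟩ := h.ne_zero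
  obtain ⟨m1, e00, e11, e22, e01, e12⟩ := h.mul (tri_u a b c)
  obtain ⟨k, f00, f11, f22, f01, f12⟩ := m1.mul h.inv
  obtain ⟨i0, i1, i2⟩ := h.inv_diag
  have hd := h.diag
  have hi01 : m[g⁻¹] 0 1 = -(m[g] 0 1 * m[g] 2 2) := by
    simp [SpecialLinearGroup.coe_inv, Matrix.adjugate_fin_three, h.2.2]
  have hi12 : m[g⁻¹] 1 2 = -(m[g] 0 0 * m[g] 1 2) := by
    simp [SpecialLinearGroup.coe_inv, Matrix.adjugate_fin_three, h.1]
  refine ⟨m[g * u a b c * g⁻¹] 0 2, (k.eq_u ?_ ?_).trans (congrArg₂ (fun x y => u x y _) ?_ ?_)⟩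
  · rw [f00, e00, i0]; simp; linear_combination hd
  · rw [f11, e11, i1]; simp; linear_combination hd
  · rw [f01, e00, e01, i1, hi01, div_mul_eq_mul_div, eq_div_iff n1]
    simp
    linear_combination (m[g] 0 0 * a) * hd
  · rw [f12, e11, e12, i2, hi12, div_mul_eq_mul_div, eq_div_iff n2]
    simp
    linear_combination (m[g] 1 1 * b) * hd

/-- An element of the point stabiliser takes the long root group to transvections with the same centre. -/
theorem conj_z {g : S} (h : g ∈ ptStab) (c : F) :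
    g * u 0 0 c * g⁻¹ = u (m[g] 0 0 * c * m[g⁻¹] 2 1) 0 (m[g] 0 0 * c * m[g⁻¹] 2 2) := by
  have hi := ptStab.inv_mem h
  have e1 : m[g] * m[g⁻¹] = 1 := by
    show m[g * g⁻¹] = 1
    rw [mul_inv_cancel]; rfl
  have hz : ((u 0 0 c : S) : Matrix (Fin 3) (Fin 3) F) = 1 + Matrix.single 0 2 c := by
    ext i j; fin_cases i <;> fin_cases j <;> simp [Matrix.single_apply]
  suffices e : m[g * u 0 0 c * g⁻¹] = m[u (m[g] 0 0 * c * m[g⁻¹] 2 1) 0 (m[g] 0 0 * c * m[g⁻¹] 2 2)] by
    ext i j; exact congrFun (congrFun e i) j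
  show m[g] * m[u 0 0 c] * m[g⁻¹] = _
  rw [hz, Matrix.mul_add, Matrix.mul_one, Matrix.add_mul, e1, u_coe]
  obtain ⟨g1, g2⟩ := h
  obtain ⟨-, i2⟩ := hi
  have i2' : (m[g]).adjugate 2 0 = 0 := i2
  ext i j
  fin_cases i <;> fin_cases j <;>
    simp [Matrix.mul_apply, Fin.sum_univ_three, Matrix.single_apply, g1, g2, i2']

/-- The long root group of the flag and two movers give everything. -/
theorem top_of_z {M : Subgroup S} (hz : ∀ c : F, u 0 0 c ∈ M) (hw : (w : S) ∈ M) {a b c : F} (ha : a ≠ 0)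
    (hb : b ≠ 0) (hv : u a b c ∈ M) : M = ⊤ := by
  have hF : CfsgLib.RegGen.Full M ![(1 : F), 0, 0] ![0, 0, 1] := by
    refine ⟨by simp [dotProduct, Fin.sum_univ_three], fun d => ?_⟩
    convert hz d using 1
    refine Subtype.ext ?_
    rw [CfsgLib.RootSub.TSL.tv_val, u_coe]
    ext i j
    fin_cases i <;> fin_cases j <;> simp [vecMulVec_apply]
  refine CfsgLib.RegGen.top_of_full_three hF hw (M.mul_mem hv hw) (y := ![0, 0, 1]) (g := ![1, 0, 0])
    (z := ![c, b, 1]) (h := ![1, -a, a * b - c]) ?_ ?_ ?_ ?_ ?_ ?_ ?_ ?_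
  · funext i; fin_cases i <;> simp [Matrix.mulVec, dotProduct, Fin.sum_univ_three]
  · funext i; fin_cases i <;> simp [Matrix.vecMul, dotProduct, Fin.sum_univ_three]
  · funext i
    fin_cases i <;> simp [Matrix.mulVec, Matrix.mul_apply, dotProduct, Fin.sum_univ_three]
  · funext i
    fin_cases i <;> simp [Matrix.vecMul, Matrix.mul_apply, dotProduct, Fin.sum_univ_three] <;> ring
  · simp [dotProduct, Fin.sum_univ_three]
  · simp [dotProduct, Fin.sum_univ_three]
  · simp [Matrix.det_fin_three, hb]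
  · simp [Matrix.det_fin_three, ha]

theorem index_ptStab_le [Finite F] : (ptStab : Subgroup S).index ≤ Nat.card F ^ 2 + Nat.card F + 1 := by
  let f : S → Projectivization F (Fin 3 → F) := fun g => Projectivization.mk F (m[g] *ᵥ Pi.single 0 1) (by
    intro e
    have h1 : m[g⁻¹] * m[g] = 1 := by show m[g⁻¹ * g] = 1; rw [inv_mul_cancel]; rfl
    have := congrArg (fun v => m[g⁻¹] *ᵥ v) e
    simp only [mulVec_mulVec, h1, one_mulVec, mulVec_zero] at this
    exact one_ne_zero (α := F) (by simpa using congrFun this 0))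
  have key : ∀ g g' : S, f g = f g' → g⁻¹ * g' ∈ ptStab := by
    intro g g' e
    obtain ⟨l, hl⟩ := (Projectivization.mk_eq_mk_iff' F _ _ _ _).1 e.symm
    have h2 : m[g⁻¹ * g'] *ᵥ Pi.single 0 1 = l • (Pi.single 0 1 : Fin 3 → F) := by
      have h1 : m[g⁻¹] * m[g] = 1 := by show m[g⁻¹ * g] = 1; rw [inv_mul_cancel]; rfl
      show (m[g⁻¹] * m[g']) *ᵥ _ = _
      rw [← mulVec_mulVec, ← hl, mulVec_smul, mulVec_mulVec, h1, one_mulVec]
    exact ⟨by simpa using congrFun h2 1, by simpa using congrFun h2 2⟩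
  rw [Subgroup.index_eq_card]
  refine (Nat.card_le_card_of_injective (fun x : S ⧸ (ptStab : Subgroup S) => f x.out) fun x y e => ?_).trans ?_
  · rw [← x.out_eq', ← y.out_eq']
    exact QuotientGroup.eq.2 (key _ _ e)
  · rw [Projectivization.card_of_finrank F (Fin 3 → F) (Module.finrank_fin_fun F), Finset.sum_range_succ,
      Finset.sum_range_succ, Finset.sum_range_one, pow_zero, pow_one]
    omega

section Orbit

variable {G : Type*} [Group G] [Finite G]

/-- A semiregular group fixing one coset: the index is one modulo its order. -/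
theorem exists_relIndex_eq {H A U : Subgroup G} (hUH : U ≤ H) (hUA : U ≤ A)
    (hsemi : ∀ g ∈ H, g ∉ A → ∀ x ∈ U, g⁻¹ * x * g ∈ A → x = 1) :
    ∃ j, A.relIndex H = 1 + j * Nat.card U := by
  classical
  let X := H ⧸ A.subgroupOf H
  let i : U →* H := Subgroup.inclusion hUH
  letI : MulAction U X := MulAction.compHom X i
  let x₀ : X := ((1 : H) : X)
  have hfix : ∀ x : U, x • x₀ = x₀ := fun x => by
    show i x • ((1 : H) : X) = _
    rw [MulAction.Quotient.smul_coe, smul_eq_mul, mul_one]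
    exact QuotientGroup.eq.2 (by simpa [Subgroup.mem_subgroupOf, i] using A.inv_mem (hUA x.2))
  let Y : SubMulAction U X :=
    { carrier := {x₀}ᶜ
      smul_mem' := fun x y hy e => hy (by
        have := congrArg (fun z => x⁻¹ • z) (Set.mem_singleton_iff.1 e)
        simpa [hfix] using this) }
  have hfree : ∀ (x : U) (y : Y), x • y = y → x = 1 := by
    rintro x ⟨y, hy⟩ e
    obtain ⟨g, rfl⟩ := QuotientGroup.mk_surjective y
    have e' : i x • (g : X) = (g : X) := congrArg Subtype.val e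
    rw [MulAction.Quotient.smul_coe, smul_eq_mul, QuotientGroup.eq, Subgroup.mem_subgroupOf] at e'
    have hgA : (g : G) ∉ A := fun hm => hy (QuotientGroup.eq.2 (by
      simpa [Subgroup.mem_subgroupOf] using hm))
    have := hsemi g g.2 hgA x⁻¹ (U.inv_mem x.2) (by simpa [i, mul_assoc] using e')
    exact Subtype.ext (by simpa using this)
  have hY : Nat.card U ∣ Nat.card Y := by
    haveI := Fintype.ofFinite (MulAction.orbitRel.Quotient U Y)
    rw [(Nat.card_congr (MulAction.selfEquivSigmaOrbits U Y)).trans Nat.card_sigma]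
    refine Finset.dvd_sum fun q _ => ?_
    have hb : Nat.card U = Nat.card (MulAction.orbit U q.out) :=
      Nat.card_congr (Equiv.ofBijective (fun x : U => (⟨x • q.out, MulAction.mem_orbit _ x⟩ : MulAction.orbit U q.out))
        ⟨fun x y e => inv_mul_eq_one.1 (hfree (x⁻¹ * y) q.out (by
          rw [mul_smul, inv_smul_eq_iff]; exact (congrArg Subtype.val e).symm)),
         fun ⟨_, x, rfl⟩ => ⟨x, rfl⟩⟩)
    rw [hb]
  obtain ⟨j, hj⟩ := hY
  refine ⟨j, ?_⟩
  have h1 : Nat.card Y = Nat.card X - 1 := by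
    show Nat.card ({x₀}ᶜ : Set X) = _
    rw [Nat.card_coe_set_eq, Set.ncard_compl, Set.ncard_singleton]
  have h2 : 0 < Nat.card X := Nat.card_pos
  rw [mul_comm j, ← hj, h1]
  show Nat.card X = _
  omega

/-- The orbit of a point is too small for a proper overgroup. -/
theorem eq_of_orbit {H M A U : Subgroup G} (hHM : H ≤ M) (hMA : ∀ g ∈ M, g ∈ A → g ∈ H) (hUH : U ≤ H)
    (hUA : U ≤ A) (hsemi : ∀ g ∈ M, g ∉ A → ∀ x ∈ U, g⁻¹ * x * g ∈ A → x = 1) (hne : ¬ H ≤ A)
    (hN : A.index < (Nat.card U + 1) ^ 2) : M = H := by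
  obtain ⟨i, hi⟩ := exists_relIndex_eq hUH hUA fun g hg => hsemi g (hHM hg)
  obtain ⟨j, hj⟩ := exists_relIndex_eq (hUH.trans hHM) hUA hsemi
  have he : A ⊓ M = A ⊓ H := le_antisymm (fun g hg => ⟨hg.1, hMA g hg.2 hg.1⟩) (inf_le_inf_left A hHM)
  have hm : A.relIndex M = A.relIndex H * H.relIndex M := by
    rw [← Subgroup.inf_relIndex_right A M, he, ← Subgroup.relIndex_mul_relIndex (A ⊓ H) H M inf_le_right hHM,
      Subgroup.inf_relIndex_right]
  have hle : A.relIndex M ≤ A.index := by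
    rw [← Subgroup.relIndex_top_right A]
    exact Subgroup.relIndex_le_of_le_right le_top (by rw [Subgroup.relIndex_top_right]; exact Subgroup.index_ne_zero_of_finite)
  have hi0 : i ≠ 0 := by
    rintro rfl
    exact hne (Subgroup.relIndex_eq_one.1 (by simpa using hi))
  set u := Nat.card U
  have hu : 0 < u := Nat.card_pos
  obtain ⟨k, hk⟩ : ∃ k, k = H.relIndex M := ⟨_, rfl⟩
  rw [← hk, hi, hj] at hm
  have hbig : u + 1 ≤ 1 + i * u := by
    have : 1 * u ≤ i * u := Nat.mul_le_mul_right u (Nat.pos_of_ne_zero hi0)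
    omega
  have hk1 : k = 1 := by
    have hklt : k < u + 1 := by
      by_contra hk'
      push Not at hk'
      have := Nat.mul_le_mul hbig hk'
      rw [pow_two] at hN
      omega
    have hk0 : k ≠ 0 := fun e => by rw [e, mul_zero] at hm; omega
    have hmod : k % u = 1 % u := by
      have := congrArg (fun x => x % u) hm
      simpa [add_mul, one_mul, mul_comm i u, mul_assoc, Nat.add_mul_mod_self_left, Nat.add_mul_mod_self_right] using this.symm
    rcases Nat.lt_or_ge 1 u with hu1 | hu1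
    · rcases Nat.lt_or_ge k u with h | h
      · rw [Nat.mod_eq_of_lt h, Nat.mod_eq_of_lt hu1] at hmod; exact hmod
      · obtain rfl : k = u := by omega
        rw [Nat.mod_self, Nat.mod_eq_of_lt hu1] at hmod
        omega
    · omega
  exact le_antisymm (Subgroup.relIndex_eq_one.1 (hk1 ▸ hk.symm)) hHM

end Orbit

end CfsgLib.Classical.ThreeMax
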