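import Cfsg.Agent.Lib.Classical.SubspaceStab
import Cfsg.Prelude.Def_GeometricClasses

/-!
Maximality in the special linear group from a dichotomy for its subgroups, and change of coordinates.
-/

set_option autoImplicit false

namespace CfsgLib.Classical.ThreeMax

open Matrix
open scoped MatrixGroups
open CfsgLib.Classical.MinIndex (mem_specialLinear)

variable {F : Type*} [Field F] [Finite F] {n : ℕ}

/-- Maximality of `X ⊓ SL` from a dichotomy inside `SL`. -/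
theorem isMaximalIn_of_SL {X : Subgroup (GL (Fin n) F)}
    (hne : ∃ s : SpecialLinearGroup (Fin n) F, (s : GL (Fin n) F) ∉ X)
    (h : ∀ M : Subgroup (SpecialLinearGroup (Fin n) F),
      (∀ s : SpecialLinearGroup (Fin n) F, (s : GL (Fin n) F) ∈ X → s ∈ M) →
        M = ⊤ ∨ ∀ s ∈ M, (s : GL (Fin n) F) ∈ X) :
    Cfsg.Geo.IsMaximalIn (Cfsg.Geo.specialLinear (Fin n) F) (X ⊓ Cfsg.Geo.specialLinear (Fin n) F) := by
  obtain ⟨g, hg⟩ := hne
  refine ⟨lt_of_le_not_ge inf_le_right fun hle => hg (hle (mem_specialLinear.2 ⟨g, rfl⟩)).1,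
    fun M hM hM' => ?_⟩
  rcases h (M.comap SpecialLinearGroup.toGL) (fun s hs => hM ⟨hs, mem_specialLinear.2 ⟨s, rfl⟩⟩) with h | h
  · refine Or.inr (le_antisymm hM' fun x hx => ?_)
    obtain ⟨s, rfl⟩ := mem_specialLinear.1 hx
    exact (show s ∈ M.comap SpecialLinearGroup.toGL from h ▸ Subgroup.mem_top s)
  · refine Or.inl (le_antisymm (fun x hx => ?_) hM)
    obtain ⟨s, rfl⟩ := mem_specialLinear.1 (hM' hx)
    exact ⟨h s hx, mem_specialLinear.2 ⟨s, rfl⟩⟩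

/-- Maximality in `SL` does not depend on coordinates. -/
theorem isMaximalIn_conj {X Y : Subgroup (GL (Fin n) F)} (P : GL (Fin n) F)
    (hXY : ∀ g, g ∈ Y ↔ P⁻¹ * g * P ∈ X)
    (h : Cfsg.Geo.IsMaximalIn (Cfsg.Geo.specialLinear (Fin n) F) (X ⊓ Cfsg.Geo.specialLinear (Fin n) F)) :
    Cfsg.Geo.IsMaximalIn (Cfsg.Geo.specialLinear (Fin n) F) (Y ⊓ Cfsg.Geo.specialLinear (Fin n) F) := by
  have hN : (Cfsg.Geo.specialLinear (Fin n) F).Normal := MonoidHom.normal_ker _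
  have hY : ∀ g, g ∈ X ↔ P * g * P⁻¹ ∈ Y := fun g => by rw [hXY]; simp [mul_assoc]
  obtain ⟨hlt, hmax⟩ := h
  refine ⟨lt_of_le_not_ge inf_le_right fun hle => ?_, fun M hM hM' => ?_⟩
  · obtain ⟨x, hx, hx'⟩ := SetLike.exists_of_lt hlt
    exact hx' ⟨(hY x).2 (hle (hN.conj_mem x hx P)).1, hx⟩
  obtain ⟨M', hM'd⟩ : ∃ M', M' = M.comap (MulAut.conj P).toMonoidHom := ⟨_, rfl⟩
  have mem : ∀ g, g ∈ M' ↔ P * g * P⁻¹ ∈ M := fun g => by rw [hM'd]; rfl
  have back : ∀ g, P * (P⁻¹ * g * P) * P⁻¹ = g := fun g => by group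
  have backSL : ∀ g ∈ Cfsg.Geo.specialLinear (Fin n) F, P⁻¹ * g * P ∈ Cfsg.Geo.specialLinear (Fin n) F :=
    fun g hg => by simpa using hN.conj_mem g hg P⁻¹
  rcases hmax M' (fun g hg => (mem g).2 (hM ⟨(hY g).1 hg.1, hN.conj_mem g hg.2 P⟩))
    (fun g hg => by
      have := backSL _ (hM' ((mem g).1 hg))
      simpa [mul_assoc] using this) with h | h
  · refine Or.inl (le_antisymm (fun g hg => ⟨?_, hM' hg⟩) hM)
    have : P⁻¹ * g * P ∈ M' := (mem _).2 (by rw [back]; exact hg)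
    rw [h] at this
    exact (hXY g).2 this.1
  · refine Or.inr (le_antisymm hM' fun g hg => ?_)
    have : P⁻¹ * g * P ∈ M' := h ▸ backSL g hg
    rw [mem, back] at this
    exact this

end CfsgLib.Classical.ThreeMax
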