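import Cfsg.Agent.Lib.Classical.ThreeMax.HermSL
import Cfsg.Agent.Lib.Classical.UnitaryRegBasis

/-!
Hermitian coordinates of dimension three: two isotropic vectors and a unit one.
-/

set_option autoImplicit false

namespace CfsgLib.Classical.ThreeMax.HermSL

open Matrix Cfsg CfsgLib.Classical.Herm
open CfsgLib.ClassicalAut (Unitary.Conj)
open CfsgLib.Classical.URegGen (HB exists_hb)
open scoped MatrixGroups

variable {F : Type*} [Field F] [Finite F] {q : ℕ}

/-- The standard hermitian form in hyperbolic coordinates. -/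
theorem exists_frame (K : Unitary.Conj F q) : ∃ P : GL (Fin 3) F, ∀ x y,
    hermForm 3 F q ((P : Matrix (Fin 3) (Fin 3) F) *ᵥ x) ((P : Matrix (Fin 3) (Fin 3) F) *ᵥ y) = hj K x y := by
  obtain ⟨B⟩ := exists_hb K 1
  have hef : hermForm 3 F q (B.E 0) (B.Fv 0) = 1 := by simpa using B.ef K one_pos one_pos (i := 0) (j := 0)
  have hfe : hermForm 3 F q (B.Fv 0) (B.E 0) = 1 := by simpa using B.fe 0 0 one_pos one_pos
  let T : Matrix (Fin 3) (Fin 3) F := (Matrix.of ![B.E 0, B.z, B.Fv 0])ᵀ
  have e : ∀ x : Fin 3 → F, T *ᵥ x = x 0 • B.E 0 + x 1 • B.z + x 2 • B.Fv 0 := fun x => by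
    funext i
    simp [T, Matrix.mulVec, dotProduct, Fin.sum_univ_three]
    ring
  have key : ∀ x y, hermForm 3 F q (T *ᵥ x) (T *ᵥ y) = hj K x y := by
    intro x y
    rw [e, e, hj]
    simp only [h_add_left K, h_add_right K, h_smul_left K, h_smul_right K, B.ee, B.ff, B.zz, hef, hfe, B.ze,
      B.zf, B.ez K, B.fz K, mul_zero, add_zero, zero_add, mul_one]
  have hT : IsUnit T := by
    refine Matrix.mulVec_injective_iff_isUnit.1 fun x y hxy => ?_
    have h0 : ∀ w, hj K (x - y) w = 0 := fun w => by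
      rw [← key, mulVec_sub, hxy, sub_self, h_zero_left K]
    have a := h0 ![0, 0, 1]
    have b := h0 ![0, 1, 0]
    have c := h0 ![1, 0, 0]
    simp [hj, sub_eq_zero] at a b c
    funext i
    fin_cases i <;> assumption
  exact ⟨hT.unit, key⟩

end CfsgLib.Classical.ThreeMax.HermSL
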