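import Cfsg.Agent.Lib.Classical.ThreeMax.Flag
import Cfsg.Agent.Lib.ClassicalAut.UnitarySpace

/-!
The similarity group of a hermitian form of dimension three in `SL₃`: either all transvections of an isotropic
point lie in an overgroup, or the orbit of that point is too small.
-/

set_option autoImplicit false
set_option linter.unusedSectionVars false

namespace CfsgLib.Classical.ThreeMax.HermSL

open Matrix
open CfsgLib.ClassicalAut (Unitary.Conj)
open scoped MatrixGroups commutatorElement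

variable {F : Type*} [Field F] [Finite F] {q : ℕ}

local notation "S" => SpecialLinearGroup (Fin 3) F
local notation "m[" g "]" => (((g : SpecialLinearGroup (Fin 3) F) : Matrix (Fin 3) (Fin 3) F))

variable (K : Unitary.Conj F q)

/-- The standard form. -/
def hj (x y : Fin 3 → F) : F := x 0 * K.bar (y 2) + x 1 * K.bar (y 1) + x 2 * K.bar (y 0)

/-- Similarities of the standard form. -/
def Sim (g : S) : Prop := ∃ c : F, c ≠ 0 ∧ ∀ x y, hj K (m[g] *ᵥ x) (m[g] *ᵥ y) = c * hj K x y

theorem sim_u {a c : F} (h : c + K.bar c + a * K.bar a = 0) : Sim K (u a (-K.bar a) c : S) := by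
  refine ⟨1, one_ne_zero, fun x y => ?_⟩
  simp [hj, Matrix.mulVec, dotProduct, Fin.sum_univ_three, K.bar_bar]
  linear_combination (x 2 * K.bar (y 2)) * h

theorem sim_w : Sim K (w : S) := by
  refine ⟨1, one_ne_zero, fun x y => ?_⟩
  simp [hj, Matrix.mulVec, dotProduct, Fin.sum_univ_three]
  ring

/-- A torus element. -/
def dg (a b c : F) (h : a * b * c = 1) : S :=
  ⟨Matrix.diagonal ![a, b, c], by simpa [Matrix.det_diagonal, Fin.prod_univ_three] using h⟩

theorem dg_coe (a b c : F) (h : a * b * c = 1) : m[dg a b c h] = Matrix.diagonal ![a, b, c] := rfl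

theorem sim_dg {a b c : F} (h : a * b * c = 1) (h1 : b * K.bar b = a * K.bar c) : Sim K (dg a b c h) := by
  have h1' : b * K.bar b = c * K.bar a := by
    have := congrArg K.bar h1
    rw [map_mul, map_mul, K.bar_bar, K.bar_bar] at this
    linear_combination this
  refine ⟨b * K.bar b, fun e => ?_, fun x y => ?_⟩
  · rcases mul_eq_zero.1 e with e | e
    · simp [e] at h
    · simp [(map_eq_zero K.bar).1 e] at h
  · simp [dg_coe, hj, Matrix.mulVec_diagonal]
    linear_combination (-(x 0) * K.bar (y 2)) * h1 + (-(x 2) * K.bar (y 0)) * h1'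

/-- A parameter with a given first root coordinate. -/
theorem exists_par (a : F) : ∃ c, c + K.bar c + a * K.bar a = 0 := by
  obtain ⟨y, hy⟩ := K.exists_trace
  refine ⟨-(y / (y + K.bar y)) * (a * K.bar a), ?_⟩
  simp only [map_mul, map_neg, map_div₀, map_add, K.bar_bar]
  rw [add_comm (K.bar y) y]
  field_simp
  ring

variable {M : Subgroup (SpecialLinearGroup (Fin 3) F)}
  (hM : ∀ g : SpecialLinearGroup (Fin 3) F, Sim K g → g ∈ M)
include hM

theorem z_skew (hne : M ≠ ⊤) {c : F} (hc : u 0 0 c ∈ M) : c + K.bar c = 0 := by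
  by_contra hc0
  let X : AddSubgroup F :=
    { carrier := {x | u 0 0 x ∈ M}
      zero_mem' := show u 0 0 (0 : F) ∈ M from u_zero (F := F) ▸ M.one_mem
      add_mem' := fun {x y} (hx : u 0 0 x ∈ M) (hy : u 0 0 y ∈ M) =>
        show u 0 0 (x + y) ∈ M by simpa [u_mul] using M.mul_mem hx hy
      neg_mem' := fun {x} (hx : u 0 0 x ∈ M) => show u 0 0 (-x) ∈ M by simpa [u_inv] using M.inv_mem hx }
  have skew : ∀ s, s + K.bar s = 0 → s ∈ X := fun s hs => by
    have := hM _ (sim_u K (a := 0) (c := s) (by simpa using hs))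
    show u 0 0 s ∈ M
    simpa using this
  have norms : ∀ l : F, c * (l * K.bar l) ∈ X := by
    intro l
    rcases eq_or_ne l 0 with rfl | hl
    · simpa using X.zero_mem
    have hl' : K.bar l ≠ 0 := (map_ne_zero K.bar).2 hl
    have hd : l * (K.bar l / l) * (K.bar l)⁻¹ = 1 := by field_simp
    have hs : Sim K (dg l (K.bar l / l) (K.bar l)⁻¹ hd : S) := sim_dg K hd (by
      rw [map_div₀, K.bar_bar, map_inv₀, K.bar_bar]; field_simp)
    have hT : Tri (dg l (K.bar l / l) (K.bar l)⁻¹ hd : S) := by simp [Tri, dg_coe]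
    have := M.mul_mem (M.mul_mem (hM _ hs) hc) (M.inv_mem (hM _ hs))
    rw [conj_z ⟨hT.1, hT.2.1⟩, hT.inv.2.2, (hT.inv_diag).2.2] at this
    show u 0 0 (c * (l * K.bar l)) ∈ M
    convert this using 1
    simp [dg_coe]
    field_simp
  obtain ⟨a, ha⟩ := exists_par K (1 : F)
  have hv := hM _ (sim_u K ha)
  refine hne (top_of_z (fun x => ?_) (hM _ (sim_w K)) one_ne_zero (by simp) hv)
  obtain ⟨l, hl⟩ := K.exists_norm ((x + K.bar x) / (c + K.bar c))
    (by rw [map_div₀, map_add, map_add, K.bar_bar, K.bar_bar, add_comm (K.bar x), add_comm (K.bar c)])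
  show x ∈ X
  have h := X.add_mem (norms l) (skew (x - c * (l * K.bar l)) (by
    rw [map_sub, map_mul, map_mul, K.bar_bar, hl, mul_comm (K.bar l) l, hl]
    field_simp
    ring))
  simpa using h

theorem unip_sim (hne : M ≠ ⊤) {a b c : F} (h : u a b c ∈ M) :
    b = -K.bar a ∧ c + K.bar c + a * K.bar a = 0 := by
  have tr : ∀ s : F, s * (K.bar a + b) + K.bar (s * (K.bar a + b)) = 0 := by
    intro s
    obtain ⟨g, hg⟩ := exists_par K s
    have hu := hM _ (sim_u K hg)
    have h1 : ⁅(u a b c : S), u s (-K.bar s) g⁆ ∈ M := by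
      rw [commutatorElement_def]
      exact M.mul_mem (M.mul_mem (M.mul_mem h hu) (M.inv_mem h)) (M.inv_mem hu)
    rw [u_comm] at h1
    have h2 := z_skew K hM hne h1
    rw [map_sub, map_mul, map_mul, map_neg, K.bar_bar] at h2
    rw [map_mul, map_add, K.bar_bar]
    linear_combination -h2
  have hb : K.bar a + b = 0 := by
    by_contra hne0
    obtain ⟨y, hy⟩ := K.exists_trace
    have := tr (y / (K.bar a + b))
    rw [div_mul_cancel₀ _ hne0] at this
    exact hy this
  have hb' : b = -K.bar a := by linear_combination hb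
  refine ⟨hb', ?_⟩
  obtain ⟨g, hg⟩ := exists_par K a
  have h1 := M.mul_mem h (M.inv_mem (hM _ (sim_u K hg)))
  rw [u_inv, u_mul, hb'] at h1
  have h2 : u 0 0 (c + (a * -K.bar a - g) + a * - -K.bar a) ∈ M := by convert h1 using 2 <;> ring
  have h3 := z_skew K hM hne h2
  simp only [map_add, map_sub, map_mul, map_neg, K.bar_bar] at h3
  linear_combination h3 + hg

theorem tri_mem_sim (hne : M ≠ ⊤) {x : S} (hx : x ∈ M) (hT : Tri x) : Sim K x := by
  obtain ⟨n0, n1, n2⟩ := hT.ne_zero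
  obtain ⟨g, hg⟩ := exists_par K (1 : F)
  obtain ⟨c', hc'⟩ := hT.conj_u (1 : F) (-K.bar 1) g
  have h1 : u (m[x] 0 0 / m[x] 1 1 * 1) (m[x] 1 1 / m[x] 2 2 * -K.bar 1) c' ∈ M :=
    hc' ▸ M.mul_mem (M.mul_mem hx (hM _ (sim_u K hg))) (M.inv_mem hx)
  obtain ⟨e, -⟩ := unip_sim K hM hne h1
  rw [map_one, mul_neg, mul_one, mul_one, neg_inj, map_div₀,
    div_eq_div_iff n2 ((map_ne_zero K.bar).2 n1)] at e
  have hb : m[x] 1 1 * K.bar (m[x] 1 1) = m[x] 0 0 * K.bar (m[x] 2 2) := by
    have e' := congrArg K.bar e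
    rw [map_mul, map_mul, K.bar_bar, K.bar_bar] at e'
    linear_combination e'
  set D : S := dg _ _ _ hT.diag with hD
  have hDs : Sim K D := sim_dg K hT.diag hb
  have hDT : Tri D := by simp [Tri, hD, dg_coe]
  obtain ⟨hT', f0, f1, -, -⟩ := hDT.inv.mul hT
  have e0 : m[D⁻¹ * x] 0 0 = 1 := by
    rw [f0, hDT.inv_diag.1]; simp [hD, dg_coe]; linear_combination hT.diag
  have e1 : m[D⁻¹ * x] 1 1 = 1 := by
    rw [f1, hDT.inv_diag.2.1]; simp [hD, dg_coe]; linear_combination hT.diag
  have hy : D⁻¹ * x ∈ M := M.mul_mem (M.inv_mem (hM _ hDs)) hx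
  rw [hT'.eq_u e0 e1] at hy
  obtain ⟨h12, hc⟩ := unip_sim K hM hne hy
  obtain ⟨k, hk, hks⟩ := hDs
  obtain ⟨k', hk', hks'⟩ := sim_u K hc
  rw [← h12, ← hT'.eq_u e0 e1] at hks'
  refine ⟨k * k', mul_ne_zero hk hk', fun v v' => ?_⟩
  rw [show x = D * (D⁻¹ * x) from (mul_inv_cancel_left D x).symm]
  show hj K ((m[D] * m[D⁻¹ * x]) *ᵥ v) ((m[D] * m[D⁻¹ * x]) *ᵥ v') = _
  rw [← mulVec_mulVec, ← mulVec_mulVec, hks, hks', mul_assoc]

theorem tri_of_stab (hne : M ≠ ⊤) {x : S} (hx : x ∈ M) (hA : x ∈ ptStab) : Tri x := by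
  obtain ⟨g1, g2⟩ := mem_ptStab.1 hA
  by_contra hT
  have hx21 : m[x] 2 1 ≠ 0 := fun e => hT ⟨g1, g2, e⟩
  obtain ⟨θ, hθ0, hθ⟩ : ∃ θ : F, θ ≠ 0 ∧ θ + K.bar θ = 0 := by
    obtain ⟨y, hy⟩ := K.exists_moved
    exact ⟨y - K.bar y, sub_ne_zero.2 (Ne.symm hy), by rw [map_sub, K.bar_bar]; ring⟩
  have hz : u 0 0 θ ∈ M := by
    have := hM _ (sim_u K (a := 0) (c := θ) (by simpa using hθ))
    simpa using this
  have h1 := M.mul_mem (M.mul_mem hx hz) (M.inv_mem hx)
  rw [conj_z hA] at h1
  obtain ⟨e, -⟩ := unip_sim K hM hne h1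
  have hdet := Matrix.SpecialLinearGroup.det_coe x
  rw [Matrix.det_fin_three, g1, g2] at hdet
  have h00 : m[x] 0 0 ≠ 0 := fun e0 => by simp [e0] at hdet
  have h0 : m[x⁻¹] 2 1 = 0 := by
    have := e.symm
    rw [neg_eq_zero, map_eq_zero] at this
    exact (mul_eq_zero.1 this).resolve_left (mul_ne_zero h00 hθ0)
  have : (m[x]).adjugate 2 1 = 0 := h0
  simp [Matrix.adjugate_fin_three, g1, g2, hx21, h00] at this

theorem le_sim_or_top : M = ⊤ ∨ ∀ g ∈ M, Sim K g := by
  by_cases hne : M = ⊤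
  · exact Or.inl hne
  right
  let H : Subgroup S :=
    { carrier := {g | Sim K g}
      one_mem' := ⟨1, one_ne_zero, fun v v' => by simp⟩
      mul_mem' := by
        rintro a b ⟨c, hc, ha⟩ ⟨d, hd, hb⟩
        refine ⟨c * d, mul_ne_zero hc hd, fun v v' => ?_⟩
        show hj K ((m[a] * m[b]) *ᵥ v) ((m[a] * m[b]) *ᵥ v') = _
        rw [← mulVec_mulVec, ← mulVec_mulVec, ha, hb, mul_assoc]
      inv_mem' := by
        rintro a ⟨c, hc, ha⟩
        refine ⟨c⁻¹, inv_ne_zero hc, fun v v' => ?_⟩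
        have h1 : m[a] * m[a⁻¹] = 1 := by show m[a * a⁻¹] = 1; rw [mul_inv_cancel]; rfl
        have h := ha (m[a⁻¹] *ᵥ v) (m[a⁻¹] *ᵥ v')
        rw [mulVec_mulVec, mulVec_mulVec, h1, one_mulVec, one_mulVec] at h
        rw [h, ← mul_assoc, inv_mul_cancel₀ hc, one_mul] }
  let Ug : Subgroup S :=
    { carrier := {g | ∃ a c, c + K.bar c + a * K.bar a = 0 ∧ g = u a (-K.bar a) c}
      one_mem' := ⟨0, 0, by simp, by rw [← u_zero]; simp⟩
      mul_mem' := by
        rintro _ _ ⟨a, c, h, rfl⟩ ⟨a', c', h', rfl⟩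
        refine ⟨a + a', c + c' + a * -K.bar a', ?_, by rw [u_mul, map_add, neg_add]⟩
        simp only [map_add, map_mul, map_neg, K.bar_bar]
        linear_combination h + h'
      inv_mem' := by
        rintro _ ⟨a, c, h, rfl⟩
        refine ⟨-a, a * -K.bar a - c, ?_, by rw [u_inv, map_neg]⟩
        simp only [map_sub, map_mul, map_neg, K.bar_bar]
        linear_combination -h }
  have hcard : Nat.card F ≤ Nat.card Ug := by
    choose g hg using exists_par K
    exact Nat.card_le_card_of_injective (fun a : F => (⟨u a (-K.bar a) (g a), a, g a, hg a, rfl⟩ : Ug))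
      fun a b e => (u_ext (congrArg Subtype.val e)).1
  have key : M = H := by
    refine eq_of_orbit (A := ptStab) (U := Ug) (fun g hg => hM g hg)
      (fun g hg hgA => tri_mem_sim K hM hne hg (tri_of_stab K hM hne hg hgA))
      (by rintro _ ⟨a, c, h, rfl⟩; exact sim_u K h)
      (by rintro _ ⟨a, c, -, rfl⟩; exact u_mem_ptStab _ _ _) ?_ ?_ ?_
    · rintro g hgM hgA _ ⟨a, c, hac, rfl⟩ hfix
      obtain ⟨f1, f2⟩ := mem_ptStab.1 hfix
      have heT : Tri (g⁻¹ * u a (-K.bar a) c * g) :=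
        tri_of_stab K hM hne (M.mul_mem (M.mul_mem (M.inv_mem hgM) (hM _ (sim_u K hac))) hgM) hfix
      have heM : g⁻¹ * u a (-K.bar a) c * g ∈ M :=
        M.mul_mem (M.mul_mem (M.inv_mem hgM) (hM _ (sim_u K hac))) hgM
      set e := g⁻¹ * u a (-K.bar a) c * g with he
      have hge : g * e = u a (-K.bar a) c * g := by rw [he]; group
      have hcol : ∀ i, m[g] i 0 * m[e] 0 0 = m[(u a (-K.bar a) c : S) * g] i 0 := fun i => by
        rw [← hge]; simp [Matrix.mul_apply, Fin.sum_univ_three, f1, f2]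
      have e0 := hcol 0
      have e1 := hcol 1
      have e2 := hcol 2
      simp [Matrix.mul_apply, Fin.sum_univ_three, -mul_eq_left₀, -mul_right_eq_self₀] at e0 e1 e2
      suffices a = 0 ∧ c = 0 by rw [this.1, this.2, ← u_zero]; simp
      by_cases h20 : m[g] 2 0 = 0
      · have h10 : m[g] 1 0 ≠ 0 := fun h => hgA (mem_ptStab.2 ⟨h, h20⟩)
        have e00 : m[e] 0 0 = 1 := mul_left_cancel₀ h10 (by rw [mul_one, e1, h20]; ring)
        rw [e00, h20] at e0
        have ha : a = 0 := (mul_eq_zero.1 (by linear_combination -e0 : a * m[g] 1 0 = 0)).resolve_right h10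
        refine ⟨ha, ?_⟩
        -- the transvection `e`
        have hi : ∀ i j, m[e] i j = (1 : Matrix (Fin 3) (Fin 3) F) i j + c * (m[g⁻¹] i 0 * m[g] 2 j) := by
          intro i j
          have h1 : m[g⁻¹] * m[g] = 1 := by show m[g⁻¹ * g] = 1; rw [inv_mul_cancel]; rfl
          rw [← h1]
          show (m[g⁻¹] * m[u a (-K.bar a) c] * m[g]) i j = _
          simp [Matrix.mul_apply, Fin.sum_univ_three, ha, -Matrix.SpecialLinearGroup.coe_inv]
          ring
        by_contra hc0
        have t21 := heT.2.2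
        rw [hi] at t21
        simp [hc0, -Matrix.SpecialLinearGroup.coe_inv] at t21
        have hd : m[g⁻¹] 1 0 * m[g] 2 1 + m[g⁻¹] 2 0 * m[g] 2 2 = 0 := by
          have h1 : (m[g] * m[g⁻¹]) 2 0 = 0 := by
            have : m[g] * m[g⁻¹] = 1 := by show m[g * g⁻¹] = 1; rw [mul_inv_cancel]; rfl
            rw [this]; simp
          simp [Matrix.mul_apply, Fin.sum_univ_three, h20, -Matrix.SpecialLinearGroup.coe_inv] at h1
          linear_combination h1
        have hgi : ¬ (m[g⁻¹] 1 0 = 0 ∧ m[g⁻¹] 2 0 = 0) := fun h =>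
          hgA ((Subgroup.inv_mem_iff ptStab).1 (mem_ptStab.2 h))
        have hr : ¬ (m[g] 2 1 = 0 ∧ m[g] 2 2 = 0) := fun h => by
          have := Matrix.SpecialLinearGroup.det_coe g
          rw [Matrix.det_fin_three, h20, h.1, h.2] at this
          simp at this
        -- the two diagonal products vanish
        have hdiag := heT.diag
        rw [e00, hi, hi] at hdiag
        simp [-Matrix.SpecialLinearGroup.coe_inv] at hdiag
        have hp1 : m[g⁻¹] 1 0 * m[g] 2 1 = 0 := by
          have : (c * (m[g⁻¹] 1 0 * m[g] 2 1)) ^ 2 = 0 := by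
            linear_combination -hdiag + (c + c * c * (m[g⁻¹] 1 0 * m[g] 2 1)) * hd
          simpa [hc0, -Matrix.SpecialLinearGroup.coe_inv] using this
        have hp2 : m[g⁻¹] 2 0 * m[g] 2 2 = 0 := by linear_combination hd - hp1
        have hp20 : m[g⁻¹] 2 0 = 0 := by
          by_contra h
          exact hr ⟨t21.resolve_left h, (mul_eq_zero.1 hp2).resolve_left h⟩
        have hp10 : m[g⁻¹] 1 0 ≠ 0 := fun h => hgi ⟨h, hp20⟩
        have r1 : m[g] 2 1 = 0 := (mul_eq_zero.1 hp1).resolve_left hp10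
        have r2 : m[g] 2 2 ≠ 0 := fun h => hr ⟨r1, h⟩
        have e11 : m[e] 1 1 = 1 := by rw [hi, r1]; simp
        rw [heT.eq_u e00 e11] at heM
        obtain ⟨hb, -⟩ := unip_sim K hM hne heM
        rw [hi, hi, r1] at hb
        simp [hc0, hp10, r2, -Matrix.SpecialLinearGroup.coe_inv] at hb
      · have e00 : m[e] 0 0 = 1 := mul_left_cancel₀ h20 (by rw [mul_one, e2])
        rw [e00] at e0 e1
        have ha : a = 0 := by
          have : K.bar a * m[g] 2 0 = 0 := by linear_combination e1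
          exact (map_eq_zero K.bar).1 ((mul_eq_zero.1 this).resolve_right h20)
        refine ⟨ha, ?_⟩
        rw [ha] at e0
        exact (mul_eq_zero.1 (by linear_combination -e0 : c * m[g] 2 0 = 0)).resolve_right h20
    · intro hle
      have := mem_ptStab.1 (hle (show (w : S) ∈ H from sim_w K))
      simp at this
    · refine lt_of_le_of_lt index_ptStab_le (lt_of_lt_of_le ?_ (Nat.pow_le_pow_left (Nat.add_le_add_right hcard 1) 2))
      have := Finite.one_lt_card (α := F)
      nlinarith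
  intro g hg
  have : g ∈ H := key ▸ hg
  exact this

end CfsgLib.Classical.ThreeMax.HermSL
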