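import Cfsg.Agent.Lib.Classical.ThreeMax.HermFrame
import Cfsg.Agent.Lib.Classical.ThreeMax.Glue
import Cfsg.Agent.Lib.Classical.LinearHerm

/-!
The similarity group of every unitary form of dimension three is maximal in `SL₃`.
-/

set_option autoImplicit false

namespace CfsgLib.Classical.ThreeMax.HermSL

open Matrix Cfsg
open CfsgLib.ClassicalAut (Unitary.Conj)
open CfsgLib.Classical.HermSim (exists_coord)
open scoped MatrixGroups

variable {F : Type*} [Field F] [Finite F]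

/-- The similarity group of a unitary form is maximal in `SL₃`. -/
theorem isMaximalIn (σ : F ≃+* F) (f : (Fin 3 → F) → (Fin 3 → F) → F) (hf : Cfsg.Geo.IsUnitaryForm σ f) :
    Cfsg.Geo.IsMaximalIn (Cfsg.Geo.specialLinear (Fin 3) F)
      (Cfsg.Geo.similarityGroup f ⊓ Cfsg.Geo.specialLinear (Fin 3) F) := by
  obtain ⟨q, ⟨K⟩, P₁, hP₁⟩ := exists_coord σ f hf
  obtain ⟨P₂, hP₂⟩ := exists_frame K
  obtain ⟨P, hPdef⟩ : ∃ P : GL (Fin 3) F, P = P₁ * P₂ := ⟨_, rfl⟩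
  have hP : ∀ x y, f ((P : Matrix (Fin 3) (Fin 3) F) *ᵥ x) ((P : Matrix (Fin 3) (Fin 3) F) *ᵥ y) = hj K x y :=
    fun x y => by rw [hPdef, Units.val_mul, ← mulVec_mulVec, ← mulVec_mulVec, hP₁, hP₂]
  refine isMaximalIn_conj P (X := Cfsg.Geo.similarityGroup (hj K)) (fun g => ?_) ?_
  · have e : ∀ x, (g : Matrix (Fin 3) (Fin 3) F) *ᵥ ((P : Matrix (Fin 3) (Fin 3) F) *ᵥ x) =
        (P : Matrix (Fin 3) (Fin 3) F) *ᵥ (((P⁻¹ * g * P : GL (Fin 3) F) : Matrix (Fin 3) (Fin 3) F) *ᵥ x) := by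
      intro x
      rw [mulVec_mulVec, mulVec_mulVec, ← Units.val_mul, ← Units.val_mul, ← mul_assoc, ← mul_assoc,
        mul_inv_cancel, one_mul]
    constructor
    · rintro ⟨c, hc⟩
      exact ⟨c, fun x y => by rw [← hP, ← hP, ← e, ← e, hc]⟩
    · rintro ⟨c, hc⟩
      refine ⟨c, fun x y => ?_⟩
      obtain ⟨x', rfl⟩ : ∃ x', x = (P : Matrix (Fin 3) (Fin 3) F) *ᵥ x' :=
        ⟨(↑P⁻¹ : Matrix (Fin 3) (Fin 3) F) *ᵥ x, by rw [mulVec_mulVec, Units.mul_inv, one_mulVec]⟩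
      obtain ⟨y', rfl⟩ : ∃ y', y = (P : Matrix (Fin 3) (Fin 3) F) *ᵥ y' :=
        ⟨(↑P⁻¹ : Matrix (Fin 3) (Fin 3) F) *ᵥ y, by rw [mulVec_mulVec, Units.mul_inv, one_mulVec]⟩
      rw [e, e, hP, hP, hc]
  refine isMaximalIn_of_SL ⟨u 0 1 0, fun ⟨c, hc⟩ => ?_⟩ fun M hM => ?_
  · have h1 := hc ![0, 1, 0] ![0, 1, 0]
    have h3 := hc ![0, 0, 1] ![0, 0, 1]
    have e : ((SpecialLinearGroup.toGL (u (0 : F) 1 0) : GL (Fin 3) F) : Matrix (Fin 3) (Fin 3) F) =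
        !![1, 0, 0; 0, 1, 1; 0, 0, 1] := rfl
    rw [e] at h1 h3
    simp [hj, Matrix.mulVec, dotProduct, Fin.sum_univ_three] at h1 h3
  rcases le_sim_or_top K (M := M) (fun g ⟨c, hc, h⟩ => hM g ⟨Units.mk0 c hc, h⟩) with h | h
  · exact Or.inl h
  · refine Or.inr fun s hs => ?_
    obtain ⟨c, hc, h⟩ := h s hs
    exact ⟨Units.mk0 c hc, h⟩

end CfsgLib.Classical.ThreeMax.HermSL
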