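import Cfsg.Agent.Lib.Classical.MonomialMax

set_option autoImplicit false
set_option linter.unusedSectionVars false

/-!
The monomial subgroup of `SL₃(q)` is maximal for `q ≥ 5`. An overgroup other than the whole group has no
transvection with a coordinate centre or axis, so a zero of an element forces a zero of its inverse; this makes
every element with a zero entry monomial. An element without zeros conjugates a diagonal element to a monomial
three-cycle, which restricts the cross ratios of all such elements too much.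
-/

namespace CfsgLib.Classical.ThreeMax.MonSL

open Matrix CfsgLib.Classical.SLMon
open CfsgLib.Classical.MonMax (Mon mons mem_mons mons_pmat dia dia_mem trs InT_neg InT_smul_left InT_conj'
  Fixes mons_le_trs trs_eq_top)
open scoped MatrixGroups

variable {F : Type*} [Field F]

local notation "S" => SpecialLinearGroup (Fin 3) F
local notation "m[" g "]" => (((g : SpecialLinearGroup (Fin 3) F) : Matrix (Fin 3) (Fin 3) F))

theorem third : ∀ a b : Fin 3, ∃ o, o ≠ a ∧ o ≠ b := by decide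

theorem cycle : ∀ τ : Equiv.Perm (Fin 3), (∀ x, τ x ≠ x) →
    (∀ x, τ (τ (τ x)) = x) ∧ ∀ a b, a ≠ b → τ a = b ∨ τ b = a := by decide

theorem perm_fix : ∀ τ : Equiv.Perm (Fin 3), τ 0 = 0 → (τ 1 = 1 ∧ τ 2 = 2) ∨ (τ 1 = 2 ∧ τ 2 = 1) := by
  decide

section Homology

variable (a : F)

/-- The parameter of the homology `hom`. -/
def al : F := (a ^ 3)⁻¹ - 1

/-- The diagonal element `a⁻²` at `j` and `a` elsewhere. -/
def hom (ha : a ≠ 0) (j : Fin 3) : S := dia (fun x => if x = j then (a * a)⁻¹ else a) (by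
  rw [Fin.prod_univ_three]
  fin_cases j <;> simp <;> field_simp)

theorem hom_mem (ha : a ≠ 0) (j : Fin 3) : hom a ha j ∈ (mons : Subgroup S) := dia_mem _ _

theorem hom_coe (ha : a ≠ 0) (j : Fin 3) :
    m[hom a ha j] = a • R (al a • Pi.single j 1) (Pi.single j 1) := by
  ext r c
  simp only [hom, dia, R, al, Matrix.smul_apply, Matrix.add_apply, vecMulVec_apply, Pi.smul_apply,
    smul_eq_mul, diagonal_apply, Matrix.one_apply, Pi.single_apply]
  split_ifs <;> simp_all
  field_simp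

theorem hom_mul (ha : a ≠ 0) (j : Fin 3) : hom a ha j * hom a⁻¹ (inv_ne_zero ha) j = 1 := by
  refine Subtype.ext ?_
  show diagonal _ * diagonal _ = 1
  rw [diagonal_mul_diagonal, ← diagonal_one]
  congr 1
  funext x
  split_ifs <;> field_simp

end Homology

attribute [-simp] SpecialLinearGroup.coe_inv

theorem dia_val (d : Fin 3 → F) (h : ∏ i, d i = 1) : m[dia d h] = diagonal d := rfl

theorem inv_val (g : S) : m[g⁻¹] = (m[g]).adjugate := rfl

theorem mul_val (g h : S) : m[g * h] = m[g] * m[h] := rfl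

theorem mul_inv_coe (g : S) : m[g] * m[g⁻¹] = 1 := congrArg Subtype.val (mul_inv_cancel g)

theorem inv_mul_coe (g : S) : m[g⁻¹] * m[g] = 1 := congrArg Subtype.val (inv_mul_cancel g)

theorem left_perm (k : Fin 3) : ∃ s ∈ (mons : Subgroup S), ∀ g : S, ∀ l, m[s * g] 0 l = 0 ↔ m[g] k l = 0 := by
  obtain ⟨s, d, hs, -, hd⟩ := exists_pmat_SL (F := F) (Equiv.swap (0 : Fin 3) k) 0
  refine ⟨s, mons_pmat hs, fun g l => ?_⟩
  rw [mul_val, hs, Matrix.mul_apply, Finset.sum_eq_single k]
  · simp [pmat_apply, hd k]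
  · intro b _ hb
    rw [pmat_apply, if_neg, zero_mul]
    exact fun e => hb ((Equiv.swap (0 : Fin 3) k).injective (e.symm.trans (Equiv.swap_apply_right 0 k).symm))
  · simp

theorem right_perm (j : Fin 3) : ∃ s ∈ (mons : Subgroup S), ∀ g : S, ∀ k, m[g * s] k 0 = 0 ↔ m[g] k j = 0 := by
  obtain ⟨s, d, hs, -, hd⟩ := exists_pmat_SL (F := F) (Equiv.swap (0 : Fin 3) j) 0
  refine ⟨s, mons_pmat hs, fun g k => ?_⟩
  rw [mul_val, hs, Matrix.mul_apply, Finset.sum_eq_single j]
  · simp [pmat_apply, hd 0]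
  · intro b _ hb
    rw [pmat_apply, Equiv.swap_apply_left, if_neg hb, mul_zero]
  · simp

theorem exists_nine [Fintype F] (h5 : 5 ≤ Fintype.card F) : ∃ a : F, a ≠ 0 ∧ a ^ 3 ≠ 1 ∧ a ^ 9 ≠ 1 := by
  obtain ⟨g, hg⟩ := IsCyclic.exists_generator (α := Fˣ)
  refine ⟨g, g.ne_zero, ?_⟩
  have key : (g : F) ^ 9 ≠ 1 := fun e => by
    have ho : orderOf g = Fintype.card F - 1 := by
      rw [orderOf_eq_card_of_forall_mem_zpowers hg, Nat.card_units, Nat.card_eq_fintype_card]
    have hd : Fintype.card F - 1 ∣ 9 := ho ▸ orderOf_dvd_of_pow_eq_one (Units.ext (by simpa using e))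
    have hle := Nat.le_of_dvd (by norm_num) hd
    have h10 : Fintype.card F = 10 := by
      obtain ⟨c, hc⟩ : ∃ c, c = Fintype.card F - 1 := ⟨_, rfl⟩
      rw [← hc] at hd hle
      interval_cases c <;> omega
    obtain ⟨p, hp0⟩ := CharP.exists F
    obtain ⟨n, hp, hpn⟩ := FiniteField.card F p
    rw [h10] at hpn
    have h2 := (Nat.prime_dvd_prime_iff_eq Nat.prime_two hp).1
      (Nat.prime_two.dvd_of_dvd_pow (hpn ▸ (by norm_num : 2 ∣ 10)))
    have h5 := (Nat.prime_dvd_prime_iff_eq (by norm_num : Nat.Prime 5) hp).1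
      ((by norm_num : Nat.Prime 5).dvd_of_dvd_pow (hpn ▸ (by norm_num : 5 ∣ 10)))
    omega
  exact ⟨fun e => key (by rw [show 9 = 3 * 3 from rfl, pow_mul, e, one_pow]), key⟩

theorem top_of_root {K : Subgroup S} (hK : mons ≤ K) {i l : Fin 3} (hil : i ≠ l) {c : F}
    (hc : c ≠ 0) (h : InT K (Pi.single i 1) (c • Pi.single l 1)) : K = ⊤ := by
  refine eq_top_of_transvection_mem K fun a b hab c' => InT.smul_root ?_ hab
  obtain ⟨τ, hτi, hτl⟩ : ∃ τ : Equiv.Perm (Fin 3), τ i = a ∧ τ l = b := by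
    have key : ∀ i l a b : Fin 3, i ≠ l → a ≠ b → ∃ τ : Equiv.Perm (Fin 3), τ i = a ∧ τ l = b := by decide
    exact key i l a b hil hab
  obtain ⟨s, d, hs, -, hd⟩ := exists_pmat_SL (F := F) τ i
  have h1 : InT K (d i • Pi.single a 1) (((d l)⁻¹ * c) • Pi.single b 1) := by
    refine InT_conj' h (hK (mons_pmat hs)) ?_ ?_
    · rw [hs, pmat_mulVec]
      funext k
      rcases eq_or_ne k a with rfl | e
      · simp [← hτi]
      · have e' : τ.symm k ≠ i := fun f => e (by rw [← hτi, ← f, Equiv.apply_symm_apply])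
        simp [e, e']
    · rw [hs, vecMul_pmat]
      funext k
      rcases eq_or_ne k l with rfl | e
      · simp [hτl]; field_simp [hd k]
      · have e' : τ k ≠ b := fun f => e (τ.injective (f.trans hτl.symm))
        simp [e, e']
  have h2 := InT_smul_left (hd i) h1
  rw [smul_smul] at h2
  set c₁ := d i * ((d l)⁻¹ * c)
  have hc₁ : c₁ ≠ 0 := mul_ne_zero (hd i) (mul_ne_zero (inv_ne_zero (hd l)) hc)
  rcases eq_or_ne c' 0 with rfl | hc'
  · refine ⟨by simp, ?_⟩
    convert K.one_mem using 1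
    exact Subtype.ext (by simp [Tv, R_zero_right])
  obtain ⟨o, hoa, hob⟩ := third a b
  let D := Function.update (Function.update (fun _ => (1 : F)) a (c' / c₁)) o (c₁ / c')
  have hD : ∏ k, D k = 1 := by rw [MonMax.prod_two hoa.symm]; field_simp
  have h3 : InT K ((c' / c₁) • Pi.single a 1) (c₁ • Pi.single b 1) := by
    refine InT_conj' h2 (hK (dia_mem D hD)) ?_ ?_
    · funext k
      show (diagonal D *ᵥ _) k = _
      rw [mulVec_diagonal]
      rcases eq_or_ne k a with rfl | e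
      · simp [D, hoa.symm]
      · simp [e]
    · funext k
      show (_ ᵥ* diagonal D) k = _
      rw [vecMul_diagonal]
      rcases eq_or_ne k b with rfl | e
      · simp [D, hab.symm, hob.symm]
      · simp [e]
  have h4 := InT_smul_left (div_ne_zero hc' hc₁) h3
  rwa [smul_smul, div_mul_cancel₀ _ hc₁] at h4

variable [Fintype F]

/-- No transvection with a coordinate centre. -/
theorem no_elation (h5 : 5 ≤ Fintype.card F) {K : Subgroup S} (hK : mons ≤ K) (hne : K ≠ ⊤) {j : Fin 3}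
    {ρ : Fin 3 → F} (h : InT K (Pi.single j 1) ρ) : ρ = 0 := by
  obtain ⟨a, ha, ha3, -⟩ := exists_nine h5
  funext l
  show ρ l = 0
  rcases eq_or_ne l j with rfl | hlj
  · simpa using h.1
  by_contra hl
  set d : Fin 3 → F := fun x => if x = l then (a * a)⁻¹ else a with hd
  have hdne : ∀ k, d k ≠ 0 := fun k => by
    simp only [d]; split_ifs <;> simp [ha]
  have h1 : InT K (a • Pi.single j 1) (fun k => ρ k * (d k)⁻¹) := by
    refine InT_conj' h (hK (hom_mem a ha l)) ?_ ?_
    · funext k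
      show (diagonal d *ᵥ Pi.single j 1) k = _
      rw [mulVec_diagonal]
      rcases eq_or_ne k j with rfl | e
      · simp [d, hlj.symm]
      · simp [e]
    · funext k
      show ((fun k => ρ k * (d k)⁻¹) ᵥ* diagonal d) k = _
      rw [vecMul_diagonal, mul_assoc, inv_mul_cancel₀ (hdne k), mul_one]
  have h2 := (InT_smul_left ha h1).add_right (InT_neg h)
  refine hne (top_of_root hK hlj.symm (mul_ne_zero hl (sub_ne_zero.2 ha3)) ?_)
  convert h2 using 1
  funext k
  rcases eq_or_ne k l with rfl | e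
  · simp [d]; ring
  · simp [d, e]; field_simp; ring

variable {K : Subgroup (SpecialLinearGroup (Fin 3) F)} (h5 : 5 ≤ Fintype.card F) (hK : mons ≤ K) (hne : K ≠ ⊤)
include h5 hK hne

/-- A zero of an element is a zero of the transposed inverse. -/
theorem zero_inv {g : S} (hg : g ∈ K) {k j : Fin 3} (h : m[g] k j = 0) : m[g⁻¹] j k = 0 := by
  by_contra hφk
  obtain ⟨a, ha, ha3, -⟩ := exists_nine h5
  set v := m[g] *ᵥ Pi.single j 1 with hv
  set φ := Pi.single j 1 ᵥ* m[g⁻¹] with hφ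
  have hφv : φ ⬝ᵥ v = 1 := by
    rw [hφ, hv, dotProduct_mulVec, vecMul_vecMul, inv_mul_coe, vecMul_one, single_dotProduct, one_mul,
      Pi.single_eq_same]
  have hvk : (Pi.single k 1 : Fin 3 → F) ⬝ᵥ v = 0 := by
    simp [v, mulVec_single_one, h]
  have hx : ∀ b (hb : b ≠ 0), m[g * hom b hb j * g⁻¹] = b • R (al b • v) φ := fun b hb => by
    rw [mul_val, mul_val, hom_coe, Matrix.mul_smul, Matrix.smul_mul, conj_R (mul_inv_coe g), mulVec_smul]
  set α := al a with hα
  set β := al a⁻¹ with hβ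
  have hαβ : α + β + α * β = 0 := by simp only [α, β, al]; field_simp; ring
  have hAA : R (α • v) φ * R (β • v) φ = 1 := by
    rw [R_mul_same_right, dotProduct_smul, hφv, smul_eq_mul, mul_one, smul_smul, ← add_smul,
      ← add_smul, show α + β + β * α = 0 by rw [mul_comm β]; exact hαβ, zero_smul, R_zero_left]
  set z : S := g * hom a ha j * g⁻¹ * hom a ha k * (g * hom a⁻¹ (inv_ne_zero ha) j * g⁻¹) *
    hom a⁻¹ (inv_ne_zero ha) k with hz
  have hzK : z ∈ K := by
    have hh : ∀ b (hb : b ≠ 0) i, hom b hb i ∈ K := fun b hb i => hK (hom_mem b hb i)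
    exact K.mul_mem (K.mul_mem (K.mul_mem (K.mul_mem (K.mul_mem hg (hh _ _ _)) (K.inv_mem hg)) (hh _ _ _))
      (K.mul_mem (K.mul_mem hg (hh _ _ _)) (K.inv_mem hg))) (hh _ _ _)
  set c := (1 + β) * (α * α * φ k) with hc
  have hzval : m[z] = R (c • v) (Pi.single k 1) := by
    rw [hz, mul_val, mul_val, mul_val, hx a ha, hx a⁻¹ (inv_ne_zero ha), hom_coe, hom_coe]
    simp only [Matrix.smul_mul, Matrix.mul_smul, smul_smul]
    rw [show a⁻¹ * (a⁻¹ * (a * a)) = 1 by field_simp, one_smul, conj_R hAA, R_mulVec, vecMul_R]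
    simp only [dotProduct_smul, hvk, smul_zero, zero_smul, add_zero]
    rw [R_mul_same_right]
    simp only [dotProduct_smul, dotProduct_single, smul_eq_mul, mul_one, Pi.single_eq_same]
    congr 1
    funext i
    simp only [Pi.add_apply, Pi.smul_apply, smul_eq_mul, c, α, β] at hαβ ⊢
    linear_combination (Pi.single k (1 : F) : Fin 3 → F) i * hαβ
  have hT : InT (trs K) (Pi.single k 1) (c • v) := by
    have hp : (c • v) ⬝ᵥ (Pi.single k 1 : Fin 3 → F) = 0 := by
      rw [dotProduct_comm, dotProduct_smul, hvk, smul_zero]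
    refine ⟨hp, ?_⟩
    show SpecialLinearGroup.transpose (Tv _ _ hp) ∈ K
    convert hzK using 1
    refine Subtype.ext ?_
    rw [hzval]
    exact R_transpose _ _
  have := no_elation h5 (mons_le_trs hK) (fun e => hne (trs_eq_top e)) hT
  have hα0 : α ≠ 0 := sub_ne_zero.2 fun e => ha3 (inv_eq_one.1 e)
  have hβ0 : (1 : F) + β ≠ 0 := by simp only [β, al]; simp [ha]
  rcases smul_eq_zero.1 this with e | e
  · simp [c, hβ0, hα0] at e
    exact hφk (by simpa [φ, single_one_vecMul] using e)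
  · simp [e] at hφv

theorem fixes_row {g : S} (hg : g ∈ K) {j : Fin 3} (hf : Fixes j m[g]) {l : Fin 3} (hl : l ≠ j) :
    m[g] j l = 0 := by
  have := zero_inv h5 hK hne (K.inv_mem hg) (Fixes.inv hf l hl)
  rwa [inv_inv] at this

section Levi

variable {x : SpecialLinearGroup (Fin 3) F}

theorem levi_inv (h01 : m[x] 0 1 = 0) (h02 : m[x] 0 2 = 0) (h10 : m[x] 1 0 = 0) (h20 : m[x] 2 0 = 0) :
    (m[x]).adjugate 1 1 = m[x] 0 0 * m[x] 2 2 ∧ (m[x]).adjugate 2 2 = m[x] 0 0 * m[x] 1 1 ∧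
    (m[x]).adjugate 1 2 = -(m[x] 0 0 * m[x] 1 2) ∧ (m[x]).adjugate 2 1 = -(m[x] 0 0 * m[x] 2 1) ∧
    m[x] 0 0 * (m[x] 1 1 * m[x] 2 2 - m[x] 1 2 * m[x] 2 1) = 1 := by
  have hd := x.det_coe
  rw [Matrix.det_fin_three, h01, h02, h10, h20] at hd
  refine ⟨?_, ?_, ?_, ?_, by linear_combination hd⟩ <;>
    simp [Matrix.adjugate_fin_three, h01, h02, h10, h20]

theorem levi_zero (hx : x ∈ K) (h01 : m[x] 0 1 = 0) (h02 : m[x] 0 2 = 0) (h10 : m[x] 1 0 = 0)
    (h20 : m[x] 2 0 = 0) (hm : ¬ Mon m[x]) :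
    m[x] 1 1 ≠ 0 ∧ m[x] 1 2 ≠ 0 ∧ m[x] 2 1 ≠ 0 ∧ m[x] 2 2 ≠ 0 := by
  obtain ⟨i11, i22, i12, i21, hd⟩ := levi_inv h5 hK hne h01 h02 h10 h20
  have h00 : m[x] 0 0 ≠ 0 := left_ne_zero_of_mul_eq_one hd
  have d1 : m[x] 1 2 = 0 → m[x] 2 1 = 0 → False := fun e1 e2 => hm ⟨1, fun k l h => by
    fin_cases k <;> fin_cases l <;> simp_all⟩
  have d2 : m[x] 1 1 = 0 → m[x] 2 2 = 0 → False := fun e1 e2 => hm ⟨Equiv.swap 1 2, fun k l h => by
    fin_cases k <;> fin_cases l <;> simp_all <;> decide⟩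
  refine ⟨fun e => d2 e ?_, fun e => d1 e ?_, fun e => d1 ?_ e, fun e => d2 ?_ e⟩
  · simpa [inv_val, i11, h00] using zero_inv h5 hK hne hx e
  · simpa [inv_val, i21, h00] using zero_inv h5 hK hne hx e
  · simpa [inv_val, i12, h00] using zero_inv h5 hK hne hx e
  · simpa [inv_val, i22, h00] using zero_inv h5 hK hne hx e

theorem levi_sum (hx : x ∈ K) (h01 : m[x] 0 1 = 0) (h02 : m[x] 0 2 = 0) (h10 : m[x] 1 0 = 0)
    (h20 : m[x] 2 0 = 0) (hm : ¬ Mon m[x]) :
    m[x] 1 1 * m[x] 2 2 + m[x] 1 2 * m[x] 2 1 = 0 := by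
  obtain ⟨ha, hb, hc, hd'⟩ := levi_zero h5 hK hne hx h01 h02 h10 h20 hm
  obtain ⟨i11, i22, i12, i21, hd⟩ := levi_inv h5 hK hne h01 h02 h10 h20
  have h00 : m[x] 0 0 ≠ 0 := left_ne_zero_of_mul_eq_one hd
  set t1 := m[x] 1 2 * m[x] 2 1 with ht1
  set t2 := m[x] 1 1 * m[x] 2 2 with ht2
  have n1 : t1 ≠ 0 := mul_ne_zero hb hc
  have n2 : t2 ≠ 0 := mul_ne_zero ha hd'
  set t : S := dia ![(t1 * t2)⁻¹, t1, t2] (by simp [Fin.prod_univ_three]; field_simp) with ht
  have hy : x * t * x⁻¹ ∈ K := K.mul_mem (K.mul_mem hx (hK (dia_mem _ _))) (K.inv_mem hx)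
  have e11 : m[x * t * x⁻¹] 1 1 = 0 := by
    rw [mul_val, mul_val]
    simp [inv_val, t, dia_val, Matrix.mul_apply, Fin.sum_univ_three, i11, i21, h10, t1, t2]
    ring
  have e := zero_inv h5 hK hne hy e11
  rw [show (x * t * x⁻¹)⁻¹ = x * t⁻¹ * x⁻¹ by group] at e
  have htinv : m[t⁻¹] = diagonal ![t1 * t2, t1⁻¹, t2⁻¹] := by
    have : t⁻¹ = dia ![t1 * t2, t1⁻¹, t2⁻¹] (by simp [Fin.prod_univ_three]; field_simp) := by
      refine inv_eq_of_mul_eq_one_right (Subtype.ext ?_)
      show diagonal _ * diagonal _ = 1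
      rw [diagonal_mul_diagonal, ← diagonal_one]
      congr 1
      funext i; fin_cases i <;> simp <;> field_simp
    rw [this]; rfl
  rw [mul_val, mul_val, htinv, Matrix.mul_apply, Fin.sum_univ_three] at e
  simp [inv_val, Matrix.mul_apply, Fin.sum_univ_three, h10, i11, i21] at e
  field_simp at e
  have hne' : t2 - t1 ≠ 0 := fun e' => by
    rw [e'] at hd; simp at hd
  have : (t2 - t1) * (t2 + t1) = 0 := mul_left_cancel₀ h00 (by linear_combination e)
  exact (mul_eq_zero.1 this).resolve_left hne'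

/-- Over five elements there is no non-monomial block element either. -/
theorem levi_five (hc5 : Fintype.card F = 5) {X : S} (hX : X ∈ K)
    (e : m[X] = !![2, 0, 0; 0, 1, 1; 0, 1, -1]) : False := by
  have five : (5 : F) = 0 := by
    have := FiniteField.cast_card_eq_zero F
    rw [hc5] at this
    exact_mod_cast this
  let Q : S := ⟨!![0, -1, 0; -1, 0, 0; 0, 0, -1], by simp [Matrix.det_fin_three]⟩
  have hQ : Q ∈ K := hK ⟨Equiv.swap 0 1, fun k l h => by fin_cases k <;> fin_cases l <;> simp_all [Q] <;> decide⟩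
  have hY : m[X * (Q * X * Q)] = !![2, 0, 2; 1, 2, -1; -1, 2, 1] := by
    rw [mul_val, mul_val, mul_val, e]
    ext i j
    fin_cases i <;> fin_cases j <;> simp [Q, Matrix.mul_apply, Fin.sum_univ_three]
  have hM : X * (Q * X * Q) * (X * (Q * X * Q)) ∈ K := by
    have := K.mul_mem hX (K.mul_mem (K.mul_mem hQ hX) hQ)
    exact K.mul_mem this this
  have hM' : m[X * (Q * X * Q) * (X * (Q * X * Q))] = !![2, 4, 6; 5, 2, -1; -1, 6, -3] := by
    rw [mul_val, hY]
    ext i j
    fin_cases i <;> fin_cases j <;> simp [Matrix.mul_apply, Fin.sum_univ_three] <;> norm_num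
  have h := zero_inv h5 hK hne hM (k := 1) (j := 0) (by rw [hM']; simpa using five)
  rw [inv_val, hM', Matrix.adjugate_fin_three] at h
  simp at h
  ring_nf at h
  exact one_ne_zero (α := F) (by linear_combination 2 * h - 19 * five)

/-- An element of the block stabiliser is monomial. -/
theorem levi_mon (hx : x ∈ K) (h01 : m[x] 0 1 = 0) (h02 : m[x] 0 2 = 0) (h10 : m[x] 1 0 = 0)
    (h20 : m[x] 2 0 = 0) : Mon m[x] := by
  by_contra hm
  obtain ⟨ha, hb, hc, hd'⟩ := levi_zero h5 hK hne hx h01 h02 h10 h20 hm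
  obtain ⟨-, -, -, -, hd⟩ := levi_inv h5 hK hne h01 h02 h10 h20
  have hs := levi_sum h5 hK hne hx h01 h02 h10 h20 hm
  set a := m[x] 1 1
  set b := m[x] 1 2
  set c := m[x] 2 1
  set d := m[x] 2 2
  set e := m[x] 0 0
  have h00 : e ≠ 0 := left_ne_zero_of_mul_eq_one hd
  have h2 : (2 : F) ≠ 0 := fun h => by
    have : a * d - b * c = 0 := by linear_combination a * d * h - hs
    rw [this, mul_zero] at hd
    exact zero_ne_one hd
  have key : ∀ u : F, u ≠ 0 → (u * d) ^ 4 = a ^ 4 := by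
    intro u hu
    set t : S := dia ![u⁻¹, 1, u] (by simp [Fin.prod_univ_three, hu]) with ht
    have hC : x * t * x ∈ K := K.mul_mem (K.mul_mem hx (hK (dia_mem _ _))) hx
    have c01 : m[x * t * x] 0 1 = 0 := by simp [mul_val, t, dia_val, Matrix.mul_apply, Fin.sum_univ_three, h01, h02]
    have c02 : m[x * t * x] 0 2 = 0 := by simp [mul_val, t, dia_val, Matrix.mul_apply, Fin.sum_univ_three, h01, h02]
    have c10 : m[x * t * x] 1 0 = 0 := by simp [mul_val, t, dia_val, Matrix.mul_apply, Fin.sum_univ_three, h10, h20]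
    have c20 : m[x * t * x] 2 0 = 0 := by simp [mul_val, t, dia_val, Matrix.mul_apply, Fin.sum_univ_three, h10, h20]
    have c11 : m[x * t * x] 1 1 = a * (a - u * d) := by
      simp [mul_val, t, dia_val, Matrix.mul_apply, Fin.sum_univ_three, h01, h10, a, d]
      linear_combination u * hs
    have c22 : m[x * t * x] 2 2 = d * (u * d - a) := by
      simp [mul_val, t, dia_val, Matrix.mul_apply, Fin.sum_univ_three, h02, h20, a, d]
      linear_combination hs
    have c12 : m[x * t * x] 1 2 = b * (a + u * d) := by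
      simp [mul_val, t, dia_val, Matrix.mul_apply, Fin.sum_univ_three, h02, h10, a, b, d]
      ring
    have c21 : m[x * t * x] 2 1 = c * (a + u * d) := by
      simp [mul_val, t, dia_val, Matrix.mul_apply, Fin.sum_univ_three, h01, h20, a, c, d]
      ring
    by_cases hmC : Mon m[x * t * x]
    · have : a * (a - u * d) = 0 ∨ b * (a + u * d) = 0 := by
        obtain ⟨τ, hτ⟩ := hmC
        by_contra hh
        push Not at hh
        have := (hτ 1 1 (c11 ▸ hh.1)).symm.trans (hτ 1 2 (c12 ▸ hh.2))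
        exact absurd (τ.injective this) (by decide)
      rcases this with h | h
      · rw [← sub_eq_zero.1 ((mul_eq_zero.1 h).resolve_left ha)]
      · rw [eq_neg_of_add_eq_zero_left ((mul_eq_zero.1 h).resolve_left hb)]; ring
    · have hsum := levi_sum h5 hK hne hC c01 c02 c10 c20 hmC
      rw [c11, c22, c12, c21] at hsum
      have h3 : 2 * (a * d) * (a ^ 2 + (u * d) ^ 2) = 0 := by
        linear_combination -hsum + (a + u * d) ^ 2 * hs
      have h4 := (mul_eq_zero.1 h3).resolve_left (mul_ne_zero h2 (mul_ne_zero ha hd'))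
      linear_combination ((u * d) ^ 2 - a ^ 2) * h4
  have hc5 : Fintype.card F = 5 := by
    obtain ⟨g, hg⟩ := IsCyclic.exists_generator (α := Fˣ)
    have ho : orderOf g = Fintype.card F - 1 := by
      rw [orderOf_eq_card_of_forall_mem_zpowers hg, Nat.card_units, Nat.card_eq_fintype_card]
    have h1 := key 1 one_ne_zero
    have hg4 : (g : F) ^ 4 = 1 := by
      have := key g g.ne_zero
      rw [mul_pow, ← h1, one_mul] at this
      exact mul_right_cancel₀ (pow_ne_zero 4 hd') (this.trans (one_mul _).symm)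
    have hdv : Fintype.card F - 1 ∣ 4 := ho ▸ orderOf_dvd_of_pow_eq_one (Units.ext (by simpa using hg4))
    have := Nat.le_of_dvd (by norm_num) hdv
    omega
  have five : (5 : F) = 0 := by
    have := FiniteField.cast_card_eq_zero F
    rw [hc5] at this
    exact_mod_cast this
  set s := a / b with hsdef
  have hs0 : s ≠ 0 := div_ne_zero ha hb
  let L : S := dia ![a * c, a⁻¹, c⁻¹] (by simp [Fin.prod_univ_three]; field_simp)
  let M : S := dia ![s⁻¹, 1, s] (by simp [Fin.prod_univ_three, hs0])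
  refine levi_five h5 hK hne hc5 (X := L * x * M)
    (K.mul_mem (K.mul_mem (hK (dia_mem _ _)) hx) (hK (dia_mem _ _))) ?_
  ext i j
  fin_cases i <;> fin_cases j <;>
    simp [mul_val, L, M, dia_val, Matrix.mul_apply, Fin.sum_univ_three, h01, h02, h10, h20]
  · show a * c * e * s⁻¹ = 2
    rw [hsdef, inv_div]
    field_simp
    linear_combination 2 * hd - (2 * e) * hs + (b * c * e) * five
  · show a⁻¹ * a = 1
    field_simp
  · show a⁻¹ * b * s = 1
    rw [hsdef]; field_simp
  · show c⁻¹ * c = 1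
    field_simp
  · show c⁻¹ * d * s = -1
    rw [hsdef]; field_simp
    linear_combination hs

end Levi

/-- An element fixing a coordinate point is monomial. -/
theorem fixes_mon {x : S} (hx : x ∈ K) {j : Fin 3} (hf : Fixes j m[x]) : Mon m[x] := by
  obtain ⟨s, hs, hsl⟩ := left_perm (F := F) j
  obtain ⟨r, hr, hrr⟩ := right_perm (F := F) j
  have hy : s * x * r ∈ K := K.mul_mem (K.mul_mem (hK hs) hx) (hK hr)
  have z : ∀ k, k ≠ 0 → m[s * x * r] k 0 = 0 := by
    intro k hk
    rw [hrr]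
    rw [mem_mons] at hs
    obtain ⟨τ, hτ⟩ := hs
    rw [mul_val, Matrix.mul_apply]
    refine Finset.sum_eq_zero fun b _ => ?_
    by_cases hb : b = j
    · subst hb
      rw [show m[s] k b = 0 from ?_, zero_mul]
      by_contra hne'
      obtain ⟨b', hb'⟩ : ∃ b', m[s] 0 b' ≠ 0 := by
        by_contra h
        push Not at h
        exact one_ne_zero (α := F) (s.det_coe.symm.trans (det_eq_zero_of_row_eq_zero 0 h))
      have : b' = b := by
        by_contra hbb
        have h1 := (hsl 1 b').2 (Matrix.one_apply_ne (Ne.symm hbb))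
        rw [mul_one] at h1
        exact hb' h1
      subst this
      exact hk ((hτ k b' hne').trans (hτ 0 b' hb').symm)
    · rw [hf b hb, mul_zero]
  have hfy : Fixes 0 m[s * x * r] := z
  have hm := levi_mon h5 hK hne hy (fixes_row h5 hK hne hy hfy (l := 1) (by decide))
    (fixes_row h5 hK hne hy hfy (l := 2) (by decide)) (z 1 (by decide)) (z 2 (by decide))
  have := Subgroup.mul_mem _ (Subgroup.mul_mem _ (Subgroup.inv_mem _ hs) (mem_mons.2 hm)) (Subgroup.inv_mem _ hr)
  rw [show s⁻¹ * (s * x * r) * r⁻¹ = x by group] at this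
  exact mem_mons.1 this

/-- A column with one entry makes an element monomial. -/
theorem col_mon {x : S} (hx : x ∈ K) {j k : Fin 3} (h : ∀ i, i ≠ k → m[x] i j = 0) : Mon m[x] := by
  obtain ⟨s, d, hs, -, -⟩ := exists_pmat_SL (F := F) (Equiv.swap j k) j
  have hf : Fixes j m[s * x] := by
    intro i hi
    rw [mul_val, Matrix.mul_apply]
    refine Finset.sum_eq_zero fun b _ => ?_
    by_cases hb : b = k
    · subst hb
      rw [hs, pmat_apply, Equiv.swap_apply_right, if_neg hi, zero_mul]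
    · rw [h b hb, mul_zero]
  have hm := fixes_mon h5 hK hne (K.mul_mem (hK (mons_pmat hs)) hx) hf
  have := Subgroup.mul_mem _ (Subgroup.inv_mem _ (mons_pmat hs)) (mem_mons.2 hm)
  rw [inv_mul_cancel_left] at this
  exact mem_mons.1 this

theorem half {g : S} (hg : g ∈ K) (hm : ¬ Mon m[g]) (h00 : m[g] 0 0 = 0) :
    2 * (m[g] 1 0 * m[g⁻¹] 0 1) = 1 ∧ 2 * (m[g] 2 0 * m[g⁻¹] 0 2) = 1 := by
  obtain ⟨a, ha, ha3, -⟩ := exists_nine h5
  have hi := zero_inv h5 hK hne hg h00
  set α := al a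
  have hα : α ≠ 0 := sub_ne_zero.2 fun e => ha3 (inv_eq_one.1 e)
  set x : S := g * hom a ha 0 * g⁻¹ with hxdef
  have hxK : x ∈ K := K.mul_mem (K.mul_mem hg (hK (hom_mem a ha 0))) (K.inv_mem hg)
  have hxv : ∀ r c, m[x] r c = a * ((1 : Matrix (Fin 3) (Fin 3) F) r c + α * m[g] r 0 * m[g⁻¹] 0 c) := by
    intro r c
    rw [hxdef, mul_val, mul_val, hom_coe, Matrix.mul_smul, Matrix.smul_mul, conj_R (mul_inv_coe g),
      mulVec_smul, mulVec_single_one, single_one_vecMul]
    simp only [R, Matrix.smul_apply, Matrix.add_apply, vecMulVec_apply, Pi.smul_apply, smul_eq_mul,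
      Matrix.col_apply, Matrix.row_apply, α]
  have hsum : m[g] 1 0 * m[g⁻¹] 0 1 + m[g] 2 0 * m[g⁻¹] 0 2 = 1 := by
    have := congrFun (congrFun (inv_mul_coe g) 0) 0
    rw [Matrix.mul_apply, Fin.sum_univ_three, h00] at this
    simp only [mul_zero, zero_add, Matrix.one_apply_eq] at this
    linear_combination this
  have hf : Fixes 0 m[x] := fun k hk => by simp [hxv, hi, hk]
  obtain ⟨τ, hτ⟩ := fixes_mon h5 hK hne hxK hf
  have hτ0 : τ 0 = 0 := (hτ 0 0 (by simp [hxv, h00, ha])).symm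
  rcases perm_fix τ hτ0 with ⟨e1, e2⟩ | ⟨e1, e2⟩
  · exfalso
    have z12 : m[x] 1 2 = 0 := by
      by_contra h
      exact absurd ((hτ 1 2 h).trans e2) (by decide)
    have z21 : m[x] 2 1 = 0 := by
      by_contra h
      exact absurd ((hτ 2 1 h).trans e1) (by decide)
    simp [hxv, ha, hα] at z12 z21
    have : m[g] 1 0 = 0 ∨ m[g] 2 0 = 0 := by
      by_contra hh
      push Not at hh
      exact one_ne_zero (α := F) (by
        linear_combination -hsum + m[g] 1 0 * (z21.resolve_left hh.2) + m[g] 2 0 * (z12.resolve_left hh.1))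
    have hc : ∀ i : Fin 3, i = 0 ∨ i = 1 ∨ i = 2 := by decide
    rcases this with h | h
    · refine hm (col_mon h5 hK hne hg (j := 0) (k := 2) fun i hi => ?_)
      rcases hc i with rfl | rfl | rfl
      exacts [h00, h, absurd rfl hi]
    · refine hm (col_mon h5 hK hne hg (j := 0) (k := 1) fun i hi => ?_)
      rcases hc i with rfl | rfl | rfl
      exacts [h00, absurd rfl hi, h]
  · have z11 : m[x] 1 1 = 0 := by
      by_contra h
      exact absurd ((hτ 1 1 h).trans e1) (by decide)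
    have z22 : m[x] 2 2 = 0 := by
      by_contra h
      exact absurd ((hτ 2 2 h).trans e2) (by decide)
    simp [hxv, ha] at z11 z22
    have he : m[g] 1 0 * m[g⁻¹] 0 1 = m[g] 2 0 * m[g⁻¹] 0 2 :=
      mul_left_cancel₀ hα (by linear_combination z11 - z22)
    exact ⟨by linear_combination hsum + he, by linear_combination hsum - he⟩

/-- An element with a zero entry is monomial. -/
theorem zero_mon {g : S} (hg : g ∈ K) {k j : Fin 3} (h : m[g] k j = 0) : Mon m[g] := by
  by_contra hm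
  obtain ⟨s, hs, hsl⟩ := left_perm (F := F) k
  obtain ⟨r, hr, hrr⟩ := right_perm (F := F) j
  have hG : s * g * r ∈ K := K.mul_mem (K.mul_mem (hK hs) hg) (hK hr)
  have h00 : m[s * g * r] 0 0 = 0 := (hrr _ _).2 ((hsl _ _).2 h)
  have hmG : ¬ Mon m[s * g * r] := fun hh => hm (by
    have := Subgroup.mul_mem _ (Subgroup.mul_mem _ (Subgroup.inv_mem _ hs) (mem_mons.2 hh)) (Subgroup.inv_mem _ hr)
    rw [show s⁻¹ * (s * g * r) * r⁻¹ = g by group] at this
    exact mem_mons.1 this)
  have hmG' : ¬ Mon m[(s * g * r)⁻¹] := fun hh => hmG (by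
    have := MonMax.Mon.inv hh
    rwa [inv_inv] at this)
  obtain ⟨p1, p2⟩ := half h5 hK hne hG hmG h00
  have i00 := zero_inv h5 hK hne hG h00
  obtain ⟨p1', p2'⟩ := half h5 hK hne (K.inv_mem hG) hmG' i00
  rw [inv_inv] at p1' p2'
  generalize s * g * r = G at hG h00 i00 p1 p2 p1' p2'
  have j00 := i00
  have r1 := p1'
  have r2 := p2'
  have i12 : m[G⁻¹] 1 2 = m[G] 0 2 * m[G] 1 0 := by
    simp [inv_val, Matrix.adjugate_fin_three, h00]
  simp [inv_val, Matrix.adjugate_fin_three, h00] at p1 p2 p1' p2' i00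
  set a1 := m[G] 0 1 * m[G] 1 2 * m[G] 2 0 with h1def
  set a2 := m[G] 0 2 * m[G] 1 1 * m[G] 2 0 with h2def
  set a3 := m[G] 0 1 * m[G] 1 0 * m[G] 2 2 with h3def
  set a4 := m[G] 0 2 * m[G] 1 0 * m[G] 2 1 with h4def
  have q12 : 2 * a1 - 2 * a2 = 1 := by linear_combination p2
  have q43 : 2 * a4 - 2 * a3 = 1 := by linear_combination p1
  have q13 : 2 * a1 - 2 * a3 = 1 := by linear_combination p1'
  have q42 : 2 * a4 - 2 * a2 = 1 := by linear_combination p2'
  have h2 : (2 : F) ≠ 0 := fun e => one_ne_zero (α := F) (by linear_combination (a1 - a2) * e - q12)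
  have e32 : a3 = a2 := mul_left_cancel₀ h2 (by linear_combination q12 - q13)
  have e41 : a4 = a1 := mul_left_cancel₀ h2 (by linear_combination q42 - q12)
  have rk : a1 * a4 = a2 * a3 := by
    simp only [a1, a2, a3, a4]
    linear_combination -(m[G] 0 1 * m[G] 0 2 * m[G] 1 0 * m[G] 2 0) * i00
  rw [e32, e41] at rk
  have hA : 4 * a4 = 1 := by
    have : a1 + a2 = 0 := by linear_combination -(a1 + a2) * q12 + 2 * rk
    linear_combination 4 * e41 + q12 + 2 * this
  have n02 : m[G] 0 2 ≠ 0 := fun e => by simp [a4, e] at hA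
  have n21 : m[G] 2 1 ≠ 0 := fun e => by simp [a4, e] at hA
  have n01 : m[G] 0 1 ≠ 0 := fun e => by simp [e] at p1'
  set n2 := -(m[G] 0 1 * m[G] 0 1) / (m[G] 0 2 * m[G] 2 1) with hn2
  have hn0 : n2 ≠ 0 := by
    rw [hn2]; exact div_ne_zero (neg_ne_zero.2 (mul_ne_zero n01 n01)) (mul_ne_zero n02 n21)
  obtain ⟨N, NN⟩ : ∃ N : S, m[N] = !![0, -n2⁻¹, 0; 1, 0, 0; 0, 0, n2] :=
    ⟨⟨!![0, -n2⁻¹, 0; 1, 0, 0; 0, 0, n2], by simp [Matrix.det_fin_three, hn0]⟩, rfl⟩
  have hN : N ∈ K := hK ⟨Equiv.swap 0 1, fun k l h => by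
    rw [NN] at h; fin_cases k <;> fin_cases l <;> simp_all <;> decide⟩
  have hM : m[G * N * G] 0 1 = 0 := by
    simp [mul_val, NN, Matrix.mul_apply, Fin.sum_univ_three, h00, hn2]
    field_simp
    ring
  have hN' : m[N⁻¹] = !![0, 1, 0; -n2, 0, 0; 0, 0, n2⁻¹] := by
    rw [inv_val, NN, Matrix.adjugate_fin_three]
    ext i j
    fin_cases i <;> fin_cases j <;> simp [hn0]
  have hM' := zero_inv h5 hK hne (K.mul_mem (K.mul_mem hG hN) hG) hM
  rw [show (G * N * G)⁻¹ = G⁻¹ * N⁻¹ * G⁻¹ by group, mul_val, mul_val, hN'] at hM'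
  simp only [inv_val] at hM' j00 i12 r1 r2
  simp [Matrix.mul_apply, Fin.sum_univ_three, i12, j00, hn2] at hM'
  field_simp at hM'
  set A := (m[G]).adjugate
  have E : -(A 1 0 * m[G] 0 1) ^ 2 + a4 * (A 2 0 * m[G] 0 2) = 0 := by
    simp only [a4]; linear_combination -hM'
  exact one_ne_zero (α := F) (by
    linear_combination -8 * E - 2 * (2 * (A 1 0 * m[G] 0 1) + 1) * r1
      + 2 * (A 2 0 * m[G] 0 2) * hA + r2)

omit h5 hK hne in
/-- Among four units two differ by a cube. -/
theorem cube_pigeon (f : Fin 4 → Fˣ) : ∃ a b, a ≠ b ∧ ∃ s : Fˣ, f b = f a * s ^ 3 := by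
  classical
  set H := (powMonoidHom 3 : Fˣ →* Fˣ).range with hH
  have hcard : Nat.card (Fˣ ⧸ H) ≤ 3 := by
    have h1 := H.index_mul_card
    have h2 := Subgroup.card_mul_index (powMonoidHom 3 : Fˣ →* Fˣ).ker
    rw [Subgroup.index_ker] at h2
    have h3 : Nat.card (powMonoidHom 3 : Fˣ →* Fˣ).ker ≤ 3 := by
      have : (powMonoidHom 3 : Fˣ →* Fˣ).ker = rootsOfUnity 3 F := by
        ext x; simp [mem_rootsOfUnity, powMonoidHom_apply]
      rw [this]
      exact card_rootsOfUnity F 3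
    rw [← Subgroup.index_eq_card]
    have h4 : H.index * Nat.card H = Nat.card (powMonoidHom 3 : Fˣ →* Fˣ).ker * Nat.card H := by
      rw [h1, ← h2]
    exact (Nat.eq_of_mul_eq_mul_right Nat.card_pos h4).le.trans h3
  obtain ⟨a, b, hab, e⟩ := Fintype.exists_ne_map_eq_of_card_lt (fun i => (QuotientGroup.mk (f i) : Fˣ ⧸ H))
    (by rw [Fintype.card_fin, ← Nat.card_eq_fintype_card]; omega)
  obtain ⟨s, hs⟩ := QuotientGroup.eq.1 e
  exact ⟨a, b, hab, s, by rw [← powMonoidHom_apply, hs, mul_inv_cancel_left]⟩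

/-- The cross ratios of rows and columns and the diagonal products of an element with its inverse. -/
theorem cycle_props {g : S} (hg : g ∈ K) (hm : ¬ Mon m[g]) :
    (∀ r r' a b, a ≠ b → (m[g] r b * m[g] r' a) ^ 3 = (m[g] r a * m[g] r' b) ^ 3) ∧
    ∀ a, 3 * (m[g⁻¹] a 0 * m[g] 0 a) = 1 := by
  have hnz : ∀ i j, m[g] i j ≠ 0 := fun i j e => hm (zero_mon h5 hK hne hg e)
  -- an element with two coinciding classes of columns
  obtain ⟨j, k, hjk, σ, hσ⟩ : ∃ j k : Fin 3, j ≠ k ∧ ∃ σ : Fˣ,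
      ∏ i, m[g] i k = (∏ i, m[g] i j) * (σ : F) ^ 3 := by
    by_contra hno
    push Not at hno
    classical
    -- a point of a coordinate line which goes to a point without zero coordinates
    obtain ⟨c, -, hc⟩ := Finset.exists_mem_notMem_of_card_lt_card (t := (Finset.univ : Finset F))
      (s := {0, -(m[g] 0 0) / m[g] 0 1, -(m[g] 1 0) / m[g] 1 1, -(m[g] 2 0) / m[g] 2 1})
      (by rw [Finset.card_univ]; exact Finset.card_le_four.trans_lt (by omega))
    simp only [Finset.mem_insert, Finset.mem_singleton, not_or] at hc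
    set w : Fin 3 → F := fun i => m[g] i 0 + c * m[g] i 1 with hw
    have hw0 : ∀ i, w i ≠ 0 := by
      intro i e
      have e' : c = -(m[g] i 0) / m[g] i 1 := by
        rw [eq_div_iff (hnz i 1)]; simp only [w] at e; linear_combination e
      fin_cases i
      exacts [hc.2.1 e', hc.2.2.1 e', hc.2.2.2 e']
    let f : Fin 4 → Fˣ := Fin.cons (Units.mk0 _ (Finset.prod_ne_zero_iff.2 fun i (_ : i ∈ Finset.univ) => hw0 i))
      fun j => Units.mk0 _ (Finset.prod_ne_zero_iff.2 fun i (_ : i ∈ Finset.univ) => hnz i j)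
    have hf0 : (f 0 : F) = ∏ i, w i := rfl
    have hfs : ∀ j : Fin 3, (f j.succ : F) = ∏ i, m[g] i j := fun j => rfl
    obtain ⟨a, b, hab, σ, hσ⟩ := cube_pigeon f
    obtain ⟨j, τ, hτ⟩ : ∃ (j : Fin 3) (τ : Fˣ), ∏ i, w i = (∏ i, m[g] i j) * (τ : F) ^ 3 := by
      have hv : (f b : F) = f a * (σ : F) ^ 3 := by rw [hσ]; simp
      rcases Fin.eq_zero_or_eq_succ a with rfl | ⟨a, rfl⟩ <;>
        rcases Fin.eq_zero_or_eq_succ b with rfl | ⟨b, rfl⟩
      · exact absurd rfl hab
      · refine ⟨b, σ⁻¹, ?_⟩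
        rw [hf0, hfs] at hv
        rw [hv, Units.val_inv_eq_inv_val, inv_pow, mul_inv_cancel_right₀ (pow_ne_zero 3 σ.ne_zero)]
      · exact ⟨a, σ, hv⟩
      · exact absurd hv (hno a b (fun e => hab (by rw [e])) σ)
    set t : S := dia (fun i => w i / ((τ : F) * m[g] i j)) (by
      have := Finset.prod_ne_zero_iff.2 fun i (_ : i ∈ Finset.univ) => hnz i j
      rw [Finset.prod_div_distrib, Finset.prod_mul_distrib, hτ, Finset.prod_const, Finset.card_univ,
        Fintype.card_fin, mul_comm, div_self (mul_ne_zero (pow_ne_zero 3 τ.ne_zero) this)]) with ht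
    have hh : g⁻¹ * t * g ∈ K := K.mul_mem (K.mul_mem (K.inv_mem hg) (hK (dia_mem _ _))) hg
    have hcol : ∀ i, m[g⁻¹ * t * g] i j = (τ : F)⁻¹ * (![1, c, 0] : Fin 3 → F) i := by
      intro i
      have e : m[g⁻¹ * t * g] *ᵥ Pi.single j 1 = (τ : F)⁻¹ • (![1, c, 0] : Fin 3 → F) := by
        have e1 : m[g] *ᵥ ![1, c, 0] = w := by
          funext r
          simp [w, Matrix.mulVec, dotProduct, Fin.sum_univ_three]
          ring
        have e2 : m[t] *ᵥ (m[g] *ᵥ Pi.single j 1) = (τ : F)⁻¹ • w := by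
          funext r
          rw [ht, dia_val, mulVec_diagonal, mulVec_single_one]
          simp only [Matrix.col_apply, Pi.smul_apply, smul_eq_mul]
          field_simp [hnz r j]
        rw [mul_val, mul_val, ← mulVec_mulVec, ← mulVec_mulVec, e2, mulVec_smul, ← e1, mulVec_mulVec,
          inv_mul_coe, one_mulVec]
      rw [mulVec_single_one] at e
      exact congrFun e i
    obtain ⟨π, hπ⟩ := zero_mon h5 hK hne hh (k := 2) (j := j) (by simp [hcol])
    have := (hπ 0 j (by simp [hcol])).trans (hπ 1 j (by simp [hcol, hc.1])).symm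
    exact absurd this (by decide)
  set t : S := dia (fun i => m[g] i k / ((σ : F) * m[g] i j)) (by
    have := Finset.prod_ne_zero_iff.2 fun i (_ : i ∈ Finset.univ) => hnz i j
    rw [Finset.prod_div_distrib, Finset.prod_mul_distrib, hσ, Finset.prod_const, Finset.card_univ,
      Fintype.card_fin, mul_comm, div_self (mul_ne_zero (pow_ne_zero 3 σ.ne_zero) this)]) with ht
  set T := fun i => m[g] i k / ((σ : F) * m[g] i j) with hT
  set h : S := g⁻¹ * t * g with hh
  have hhK : h ∈ K := K.mul_mem (K.mul_mem (K.inv_mem hg) (hK (dia_mem _ _))) hg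
  have hcol : ∀ i, m[h] i j = (σ : F)⁻¹ * (Pi.single k 1 : Fin 3 → F) i := by
    intro i
    have e : m[h] *ᵥ Pi.single j 1 = (σ : F)⁻¹ • (Pi.single k 1 : Fin 3 → F) := by
      have e2 : m[t] *ᵥ (m[g] *ᵥ Pi.single j 1) = (σ : F)⁻¹ • (m[g] *ᵥ Pi.single k 1) := by
        funext r
        rw [ht, dia_val, mulVec_diagonal, mulVec_single_one, mulVec_single_one]
        simp only [Matrix.col_apply, Pi.smul_apply, smul_eq_mul]
        field_simp [hnz r j]
      rw [hh, mul_val, mul_val, ← mulVec_mulVec, ← mulVec_mulVec, e2, mulVec_smul, mulVec_mulVec,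
        inv_mul_coe, one_mulVec]
    rw [mulVec_single_one] at e
    exact congrFun e i
  have hkj : m[h] k j ≠ 0 := by simp [hcol]
  obtain ⟨τ, hτ⟩ := zero_mon h5 hK hne hhK (k := j) (j := j) (by simp [hcol, hjk])
  have hgh : m[g] * m[h] = m[t] * m[g] := by
    rw [hh, mul_val, mul_val, ← mul_assoc, ← mul_assoc, mul_inv_coe, one_mul]
  have hhg : m[h] * m[g⁻¹] = m[g⁻¹] * m[t] := by
    rw [hh, mul_val, mul_val, mul_assoc, mul_inv_coe, mul_one]
  have hd : ∀ l, m[h] (τ l) l ≠ 0 := by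
    intro l e
    refine one_ne_zero (α := F) (h.det_coe.symm.trans (det_eq_zero_of_column_eq_zero l fun i => ?_))
    by_contra hi
    exact hi ((hτ i l hi).symm ▸ e)
  -- one step of the cycle
  have step : ∀ r l, m[g] r (τ l) * m[h] (τ l) l = T r * m[g] r l := by
    intro r l
    have := congrFun (congrFun hgh r) l
    rw [ht, dia_val, diagonal_mul, Matrix.mul_apply, Finset.sum_eq_single (τ l)] at this
    · exact this
    · intro b _ hb
      rw [show m[h] b l = 0 from by_contra fun hi => hb (hτ b l hi), mul_zero]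
    · simp
  have step' : ∀ l r, m[h] (τ l) l * m[g⁻¹] l r = m[g⁻¹] (τ l) r * T r := by
    intro l r
    have := congrFun (congrFun hhg (τ l)) r
    rw [ht, dia_val, mul_diagonal, Matrix.mul_apply, Finset.sum_eq_single l] at this
    · exact this
    · intro b _ hb
      rw [show m[h] (τ l) b = 0 from by_contra fun hi => hb (τ.injective (hτ _ b hi)).symm, zero_mul]
    · simp
  have hfree : ∀ x, τ x ≠ x := by
    intro x e
    have hTx : ∀ r, T r = m[h] x x := fun r => by
      have := step r x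
      rw [e, mul_comm (m[g] r x)] at this
      exact (mul_right_cancel₀ (hnz r x) this).symm
    have e1 : m[t] * m[g] = m[g] * (m[h] x x • (1 : Matrix (Fin 3) (Fin 3) F)) := by
      ext r l
      rw [ht, dia_val, diagonal_mul, Matrix.mul_smul, mul_one, Matrix.smul_apply, smul_eq_mul]
      exact congrArg (· * m[g] r l) (hTx r)
    apply hkj
    have e2 : m[h] = m[h] x x • (1 : Matrix (Fin 3) (Fin 3) F) := by
      have := congrArg (m[g⁻¹] * ·) (hgh.trans e1)
      simp only [← mul_assoc, inv_mul_coe, one_mul] at this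
      exact this
    rw [e2, Matrix.smul_apply, Matrix.one_apply_ne hjk.symm, smul_zero]
  obtain ⟨hc3, hsucc⟩ := cycle τ hfree
  have hT3 : ∀ r, T r ^ 3 = m[h] (τ 0) 0 * m[h] (τ (τ 0)) (τ 0) * m[h] (τ (τ (τ 0))) (τ (τ 0)) := by
    intro r
    have e1 := step r 0
    have e2 := step r (τ 0)
    have e3 := step r (τ (τ 0))
    rw [hc3] at e3 ⊢
    refine mul_right_cancel₀ (hnz r 0) ?_
    linear_combination (-(T r ^ 2)) * e1 - (T r * m[h] (τ 0) 0) * e2
      - (m[h] (τ 0) 0 * m[h] (τ (τ 0)) (τ 0)) * e3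
  have core : ∀ r r' a, (m[g] r (τ a) * m[g] r' a) ^ 3 = (m[g] r a * m[g] r' (τ a)) ^ 3 := by
    intro r r' a
    have e1 := congrArg (· ^ 3) (step r a)
    have e2 := congrArg (· ^ 3) (step r' a)
    simp only [mul_pow, hT3] at e1 e2
    rw [mul_pow, mul_pow]
    refine mul_right_cancel₀ (pow_ne_zero 3 (hd a)) ?_
    linear_combination m[g] r' a ^ 3 * e1 - m[g] r a ^ 3 * e2
  refine ⟨fun r r' a b hab => ?_, fun a => ?_⟩
  · rcases hsucc a b hab with rfl | rfl
    · exact core r r' a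
    · exact (core r r' b).symm
  · have hp : ∀ l, m[g⁻¹] (τ l) 0 * m[g] 0 (τ l) = m[g⁻¹] l 0 * m[g] 0 l := fun l => by
      have e1 := step 0 l
      have e2 := step' l 0
      have hT0 : T 0 ≠ 0 := div_ne_zero (hnz _ _) (mul_ne_zero σ.ne_zero (hnz _ _))
      refine mul_right_cancel₀ (mul_ne_zero (hd l) hT0) ?_
      linear_combination (m[g⁻¹] (τ l) 0 * T 0) * e1 - (T 0 * m[g] 0 l) * e2
    have hsum := congrFun (congrFun (mul_inv_coe g) 0) 0
    rw [Matrix.mul_apply, Fin.sum_univ_three, Matrix.one_apply_eq] at hsum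
    have hall : ∀ b, m[g⁻¹] b 0 * m[g] 0 b = m[g⁻¹] a 0 * m[g] 0 a := fun b => by
      rcases eq_or_ne b a with rfl | hba
      · rfl
      rcases hsucc b a hba with rfl | rfl
      · exact (hp b).symm
      · exact hp a
    linear_combination hsum - hall 0 - hall 1 - hall 2

/-- Every element of a proper overgroup is monomial. -/
theorem mon_all {g : S} (hg : g ∈ K) : Mon m[g] := by
  by_contra hm
  have hnz : ∀ i j, m[g] i j ≠ 0 := fun i j e => hm (zero_mon h5 hK hne hg e)
  have hnz' : ∀ i j, m[g⁻¹] i j ≠ 0 := fun i j e => hm (by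
    have := MonMax.Mon.inv (zero_mon h5 hK hne (K.inv_mem hg) e)
    rwa [inv_inv] at this)
  obtain ⟨a, ha, ha3, ha9⟩ := exists_nine h5
  obtain ⟨-, hp⟩ := cycle_props h5 hK hne hg hm
  set α := al a with hαdef
  have hα : α ≠ 0 := sub_ne_zero.2 fun e => ha3 (inv_eq_one.1 e)
  set x : S := g⁻¹ * hom a ha 0 * g with hxdef
  have hx : x ∈ K := K.mul_mem (K.mul_mem (K.inv_mem hg) (hK (hom_mem a ha 0))) hg
  have hxv : ∀ r c, m[x] r c = a * ((1 : Matrix (Fin 3) (Fin 3) F) r c + α * m[g⁻¹] r 0 * m[g] 0 c) := by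
    intro r c
    rw [hxdef, mul_val, mul_val, hom_coe, Matrix.mul_smul, Matrix.smul_mul, conj_R (inv_mul_coe g),
      mulVec_smul, mulVec_single_one, single_one_vecMul]
    simp only [R, Matrix.smul_apply, Matrix.add_apply, vecMulVec_apply, Pi.smul_apply, smul_eq_mul,
      Matrix.col_apply, Matrix.row_apply, α]
  have hnz'' : ∀ i j, (m[g]).adjugate i j ≠ 0 := hnz'
  have hxm : ¬ Mon m[x] := fun ⟨τ, hτ⟩ => by
    have h1 := hτ 1 0 (by simp [hxv, ha, hα, hnz, hnz''])
    have h2 := hτ 2 0 (by simp [hxv, ha, hα, hnz, hnz''])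
    exact absurd (h1.trans h2.symm) (by decide)
  have hx' := (cycle_props h5 hK hne hx hxm).1 0 1 2 0 (by decide)
  simp [hxv] at hx'
  set p := m[g⁻¹] 0 0 * m[g] 0 0 with hpdef
  have hne0 : a ^ 2 * (α * m[g⁻¹] 1 0 * m[g] 0 2) ≠ 0 :=
    mul_ne_zero (pow_ne_zero 2 ha) (mul_ne_zero (mul_ne_zero hα (hnz' _ _)) (hnz _ _))
  have e : (1 + α * p) ^ 3 = (α * p) ^ 3 :=
    mul_right_cancel₀ (pow_ne_zero 3 hne0) (by simp only [p]; linear_combination hx')
  have hp0 : 3 * p = 1 := hp 0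
  have h3 : (3 : F) ≠ 0 := fun h => by rw [h, zero_mul] at hp0; exact zero_ne_one hp0
  have eq : α ^ 2 + 3 * α + 3 = 0 := by
    refine mul_left_cancel₀ (mul_ne_zero h3 h3) ?_
    linear_combination 27 * e - (27 * α * p + 9 * α ^ 2 * (3 * p + 1) + 0) * hp0
      - (27 * α - 27 * α * p) * hp0
  apply ha9
  have hcube : (α + 1) ^ 3 = 1 := by linear_combination α * eq
  simp only [α, al, sub_add_cancel, inv_pow, inv_eq_one, ← pow_mul] at hcube
  exact hcube

omit hK hne in
theorem le_mons_or_top (hK : mons ≤ K) : K = ⊤ ∨ ∀ g ∈ K, Mon m[g] :=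
  or_iff_not_imp_left.2 fun hne _ hg => mon_all h5 hK hne hg

end CfsgLib.Classical.ThreeMax.MonSL
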