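import Cfsg.Agent.Lib.Classical.ThreeMax.MonSL
import Cfsg.Agent.Lib.Classical.DecompMax

set_option autoImplicit false
set_option linter.unusedSectionVars false

/-!
The stabiliser of a decomposition of a three space into lines is maximal in `SL₃(q)` for `q ≥ 5`.
-/

namespace CfsgLib.Classical.ThreeMax.MonSL

open Matrix CfsgLib.Classical.SLMon
open CfsgLib.Classical
open scoped MatrixGroups

variable {F : Type*} [Field F] [Fintype F]

/-- Renaming the indices. -/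
def ren : SpecialLinearGroup (Fin 3) F →* SpecialLinearGroup (Fin 3 × Fin 1) F where
  toFun g := ⟨g.1.submatrix Prod.fst Prod.fst, by
    rw [show g.1.submatrix Prod.fst Prod.fst = g.1.submatrix (Equiv.prodUnique (Fin 3) (Fin 1))
      (Equiv.prodUnique (Fin 3) (Fin 1)) from rfl, det_submatrix_equiv_self, g.det_coe]⟩
  map_one' := Subtype.ext (by
    show (1 : Matrix (Fin 3) (Fin 3) F).submatrix _ _ = 1
    exact submatrix_one_equiv (Equiv.prodUnique (Fin 3) (Fin 1)))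
  map_mul' a b := Subtype.ext (by
    show (a.1 * b.1).submatrix Prod.fst Prod.fst = a.1.submatrix _ _ * b.1.submatrix _ _
    exact (submatrix_mul_equiv a.1 b.1 Prod.fst (Equiv.prodUnique (Fin 3) (Fin 1)) Prod.fst).symm)

theorem ren_surj (h : SpecialLinearGroup (Fin 3 × Fin 1) F) : ∃ g, ren g = h := by
  let E := Equiv.prodUnique (Fin 3) (Fin 1)
  refine ⟨⟨h.1.submatrix E.symm E.symm, by rw [det_submatrix_equiv_self, h.det_coe]⟩, Subtype.ext ?_⟩
  ext a b
  show h.1 (E.symm a.1) (E.symm b.1) = h.1 a b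
  rw [show E.symm a.1 = a from E.symm_apply_apply a, show E.symm b.1 = b from E.symm_apply_apply b]

theorem ren_mon (g : SpecialLinearGroup (Fin 3) F) :
    MonMax.Mon g.1 ↔ ren g ∈ LinBlocks.bstab (F := F) (κ := Fin 3) (μ := Fin 1) :=
  ⟨fun ⟨τ, hτ⟩ => ⟨τ, fun a b h => hτ a.1 b.1 h⟩,
    fun ⟨σ, hσ⟩ => ⟨σ, fun k l h => hσ (k, 0) (l, 0) h⟩⟩

theorem isMaximalIn {D : Fin 3 → Submodule F (Fin 3 → F)} (hq : 5 ≤ Fintype.card F)
    (hD : Cfsg.Geo.IsMDecomposition 1 D) :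
    Cfsg.Geo.IsMaximalIn (Cfsg.Geo.specialLinear (Fin 3) F)
      (Cfsg.Geo.decompositionStabilizer D ⊓ Cfsg.Geo.specialLinear (Fin 3) F) := by
  obtain ⟨-, f, -, hmem, hrange⟩ := DecompMax.exists_model hD
  have hrange' : ∀ g, g ∈ Cfsg.Geo.specialLinear (Fin 3) F ↔ ∃ s, f (ren s) = g := fun g => by
    rw [hrange]
    exact ⟨fun ⟨s, hs⟩ => (ren_surj s).elim fun r hr => ⟨r, hr ▸ hs⟩, fun ⟨s, hs⟩ => ⟨_, hs⟩⟩
  refine ⟨lt_of_le_not_ge inf_le_right fun hle => ?_, fun M hM hM' => ?_⟩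
  · obtain ⟨σ, hσ⟩ := (ren_mon _).2 ((hmem (ren (SpecialLinearGroup.transvection
      (show (0 : Fin 3) ≠ 1 by decide) (1 : F)))).1 (hle ((hrange' _).2 ⟨_, rfl⟩)).1)
    have h1 := hσ 1 1 (by simp [SpecialLinearGroup.transvection_coe, Matrix.transvection])
    have h2 := hσ 0 1 (by simp [SpecialLinearGroup.transvection_coe, Matrix.transvection])
    exact absurd (h1.trans h2.symm) (by decide)
  rcases le_mons_or_top hq (K := M.comap (f.comp ren)) (fun g hg =>
      hM ⟨(hmem _).2 ((ren_mon g).1 hg), (hrange' _).2 ⟨g, rfl⟩⟩) with h | h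
  · refine Or.inr (le_antisymm hM' fun g hg => ?_)
    obtain ⟨s, rfl⟩ := (hrange' g).1 hg
    have : s ∈ M.comap (f.comp ren) := h ▸ Subgroup.mem_top s
    exact this
  · refine Or.inl (le_antisymm (fun g hg => ?_) hM)
    obtain ⟨s, rfl⟩ := (hrange' g).1 (hM' hg)
    exact ⟨(hmem _).2 ((ren_mon s).1 (h s hg)), (hrange' _).2 ⟨s, rfl⟩⟩

end CfsgLib.Classical.ThreeMax.MonSL
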