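import Cfsg.Agent.Lib.Classical.ThreeMax.MonTools

set_option autoImplicit false
set_option linter.unusedSectionVars false
set_option linter.unusedSimpArgs false

/-!
The monomial subgroup of an orthonormal frame is maximal in `SU₃(q)` for `q ≥ 3`, `q ≠ 5`.

An overgroup which is not everything meets the stabiliser of a two-term isotropic point in monomial elements.
Hence the frame orbit is bounded by the number of isotropic points, while some element moves the frame to one with
a scalar stabiliser among the diagonal elements.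
-/

namespace CfsgLib.Classical.ThreeMax.MonSU

open Matrix Cfsg CfsgLib.Classical.Herm CfsgLib.Classical.HermDecompMax
open CfsgLib.Classical.HermFour (centre_of_T rel_pow)
open CfsgLib.ClassicalAut (Unitary.Conj Unitary.space Unitary.herm_apply)

variable {F : Type*} [Field F] [Finite F] {q : ℕ} (K : Unitary.Conj F q)

local notation "H" => hermForm 3 F q
local notation "V" => (Fin 3 → F)
local notation "G" => SU 3 F q
local notation "e[" s "]" => (Pi.single s 1 : Fin 3 → F)

variable {M : Subgroup (SU 3 F q)}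

/-- A diagonal element. -/
def Dia (z : Fin 3 → F) (d : SU 3 F q) : Prop := ∀ x s, app d x s = z s * x s

theorem app_diff (g : SU 3 F q) (x y : Fin 3 → F) : app g (x - y) = app g x - app g y := mulVec_sub _ _ _

theorem sum_three (f : Fin 3 → F) (b : Fin 3) : ∑ s, f s = f b + f (b + 1) + f (b + 2) := by
  fin_cases b <;> simp [Fin.sum_univ_three] <;> ring

theorem fin_cases_three (b s : Fin 3) : s = b ∨ s = b + 1 ∨ s = b + 2 := by revert b s; decide

theorem fin_ne (b : Fin 3) : b + 1 ≠ b ∧ b + 2 ≠ b ∧ b + 1 ≠ b + 2 := by revert b; decide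

theorem expand (v : Fin 3 → F) (b : Fin 3) :
    v = v b • e[b] + v (b + 1) • e[b + 1] + v (b + 2) • e[b + 2] := by
  obtain ⟨h1, h2, h3⟩ := fin_ne b
  funext s
  rcases fin_cases_three b s with rfl | rfl | rfl <;> simp [h1, h2, h3, h1.symm, h2.symm, h3.symm]

include K

theorem h_three (v w : V) (b : Fin 3) : H v w =
    v b * K.bar (w b) + v (b + 1) * K.bar (w (b + 1)) + v (b + 2) * K.bar (w (b + 2)) := by
  rw [Unitary.herm_apply K, sum_three _ b]

theorem entry (g d : G) (k l : Fin 3) :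
    app (g⁻¹ * d * g) e[l] k = H (app d (app g e[l])) (app g e[k]) := by
  rw [app_mul, app_mul, ← h_single K (app g⁻¹ (app d (app g e[l]))) k, ← h_app g, app_inv']

theorem row_eq (g : G) (s k : Fin 3) : app g⁻¹ e[s] k = K.bar (app g e[k] s) := by
  rw [← h_single K (app g⁻¹ e[s]) k, ← h_app g, app_inv', h_single_left K]

theorem row_norm (g : G) (s b : Fin 3) : app g e[b] s * K.bar (app g e[b] s) +
    app g e[b + 1] s * K.bar (app g e[b + 1] s) + app g e[b + 2] s * K.bar (app g e[b + 2] s) = 1 := by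
  have h := h_app g⁻¹ e[s] e[s]
  rw [h_self_single K, h_three K _ _ b, row_eq K, row_eq K, row_eq K, K.bar_bar, K.bar_bar, K.bar_bar] at h
  linear_combination h

theorem ext_basis {g g' : G} (b : Fin 3) (h0 : app g e[b] = app g' e[b])
    (h1 : app g e[b + 1] = app g' e[b + 1]) (h2 : app g e[b + 2] = app g' e[b + 2]) : g = g' :=
  ext_app fun x => by
    rw [expand x b, app_add, app_add, app_smul, app_smul, app_smul, app_add, app_add, app_smul, app_smul,
      app_smul, h0, h1, h2]

theorem exists_dia (z : Fin 3 → F) (hz : ∀ s, Circ K (z s)) (hp : z 0 * z 1 * z 2 = 1) :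
    ∃ d : G, Mon d ∧ Dia z d := by
  obtain ⟨d, hd, h⟩ := exists_mon K 1 z hz (by simp [Fin.prod_univ_three, hp])
  exact ⟨d, hd, fun x s => h x s⟩

theorem exists_gen_six (hq : 3 ≤ q) (h5 : q ≠ 5) :
    ∃ z : F, Circ K z ∧ orderOf z = q + 1 ∧ z ^ 6 ≠ 1 := by
  obtain ⟨z, hz, ho⟩ := exists_circ_gen K
  refine ⟨z, hz, ho, fun e => ?_⟩
  have h := orderOf_dvd_of_pow_eq_one e
  rw [ho] at h
  have h' : q + 1 ≤ 6 := Nat.le_of_dvd (by norm_num) h
  have : q ≤ 5 := by omega
  interval_cases q <;> simp_all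

/-- An overgroup which is not everything has no non-monomial element fixing a coordinate point. -/
theorem top_of_axis (hq : 3 ≤ q) (hM : ∀ g, Mon g → g ∈ M) {g : G} (hg : g ∈ M) (hgm : ¬ Mon g) {a : Fin 3}
    (ha : IsAxis (app g e[a])) : M = ⊤ := by
  classical
  obtain ⟨b, l, hb⟩ := ha
  obtain ⟨c, hc⟩ := not_forall.1 hgm
  have hca : c ≠ a := fun e => hc (e ▸ ⟨b, l, hb⟩)
  have hl : Circ K l := by
    have h := h_app g e[a] e[a]
    rw [hb, h_smul_left K, h_smul_right K, h_self_single K, h_self_single K, mul_one] at h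
    exact h
  set u := app g e[c] with hud
  have hu : H u u = 1 := by rw [h_app, h_self_single K]
  have hb0 : u b = 0 := by
    have h := h_app g e[c] e[a]
    rw [hb, h_smul_right K, h_single K, h_single K e[c] a, Pi.single_eq_of_ne hca.symm] at h
    exact (mul_eq_zero.1 h).resolve_left ((map_ne_zero K.bar).2 hl.ne_zero)
  have hrel : ∀ μ : F, Circ K μ → Rel q M μ u e[b] := fun μ hμ => by
    have h1 := rel_conj K hg (rel_single K hμ hM c a)
    rw [hb] at h1
    exact rel_smul K (circ_one K) hl (u := u) (by rwa [one_smul])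
  have hu0 : u ≠ 0 := app_single_ne_zero K g c
  obtain ⟨j, hj, j', hj', hjj⟩ := Finset.one_lt_card.1 (two_le_supp K hu0 hc)
  rw [mem_supp] at hj hj'
  have hjb : j ≠ b := fun e => hj (e ▸ hb0)
  have hj'b : j' ≠ b := fun e => hj' (e ▸ hb0)
  have hN : u j * K.bar (u j) + u j' * K.bar (u j') = 1 := by
    rw [← hu, Unitary.herm_apply K]
    symm
    refine Finset.sum_eq_add_of_mem j j' (Finset.mem_univ _) (Finset.mem_univ _) hjj fun s _ hs => ?_
    have : s = b := by
      have key : ∀ j j' b s : Fin 3, j ≠ j' → j ≠ b → j' ≠ b → s ≠ j → s ≠ j' → s = b := by omega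
      exact key j j' b s hjj hjb hj'b hs.1 hs.2
    rw [this, hb0, zero_mul]
  have hN1 : u j * K.bar (u j) ≠ 1 := fun e => norm_ne_zero K hj' (by linear_combination hN - e)
  obtain ⟨t, k, c', α, ht, hT, hc', hα, hkj, hkb, hks, hcj, A, B, hA, hB, hAB⟩ :=
    exists_plane_T_phases K hu hb0 hjb hj hN1 hM hrel
  have hgood : (2 : F) ≠ 0 ∨ c' * (k j * K.bar (k j)) ≠ 1 := by
    by_contra hbad
    push Not at hbad
    obtain ⟨h2, h1⟩ := hbad
    have e1 : K.bar (k j) = -1 := by
      rw [hcj] at h1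
      field_simp at h1
      linear_combination -h1
    have e2 : k j = 1 := by
      rw [← K.bar_bar (k j), e1, map_neg, map_one]
      linear_combination -h2
    set N := u j * K.bar (u j) with hNd
    have hNb : K.bar N = N := by rw [hNd, map_mul, K.bar_bar, mul_comm]
    have e3 : A * N = B * (1 - N) := by
      linear_combination -hAB + e2 + (1 - B * (1 - N)) * h2
    have e4 := congrArg (fun y => y * K.bar y) e3
    simp only [map_mul, map_sub, map_one, hNb] at e4
    have hA' : A * K.bar A = 1 := hA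
    have hB' : B * K.bar B = 1 := hB
    exact one_ne_zero (α := F) (by linear_combination -e4 + N * N * hA' - (1 - N) * (1 - N) * hB' + N * h2)
  have hk := centre_of_T K hM ht hT hc' hkb hkj hgood
  have hk2 : (supp k).card = 2 := by
    refine le_antisymm ((Finset.card_le_card (t := ({j, j'} : Finset (Fin 3))) fun s hs => ?_).trans
      Finset.card_le_two) ?_
    · rw [mem_supp] at hs
      have key : ∀ j j' b s : Fin 3, j ≠ j' → j ≠ b → j' ≠ b → s ≠ b → s = j ∨ s = j' := by decide
      simpa using key j j' b s hjj hjb hj'b fun e => hs (e ▸ hkb)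
    · refine le_trans (le_of_eq (Finset.card_pair hjj).symm) (Finset.card_le_card fun s hs => ?_)
      rw [mem_supp]
      rcases Finset.mem_insert.1 hs with rfl | hs
      · exact hkj
      · rw [Finset.mem_singleton.1 hs, hks _ hjj.symm]
        exact mul_ne_zero hα hj'
  exact top_of_two_term_three K hq rfl hM hk hk2

/-- An overgroup which is not everything has no non-monomial element with a zero entry. -/
theorem top_of_zero (hq : 3 ≤ q) (h5 : q ≠ 5) (hM : ∀ g, Mon g → g ∈ M) {g : G} (hg : g ∈ M) (hgm : ¬ Mon g)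
    {k m : Fin 3} (h0 : app g e[k] m = 0) : M = ⊤ := by
  set v := app g e[k] with hv
  by_cases hax : IsAxis v
  · exact top_of_axis K hq hM hg hgm hax
  obtain ⟨z, hz, -, hz6⟩ := exists_gen_six K hq h5
  have hz0 := hz.ne_zero
  obtain ⟨w, hwd⟩ : ∃ w, w = z⁻¹ * z⁻¹ - z := ⟨_, rfl⟩
  have hw0 : w ≠ 0 := fun e => hz6 (by
    rw [hwd, sub_eq_zero] at e
    have : z ^ 3 = 1 := by
      field_simp at e
      linear_combination -e
    rw [show 6 = 3 * 2 from rfl, pow_mul, this, one_pow])
  obtain ⟨d, hd, hdd⟩ := exists_dia K (fun s => if s = k then z⁻¹ * z⁻¹ else z)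
    (fun s => by try dsimp only
                 split_ifs <;> first | exact hz.inv.mul hz.inv | exact hz)
    (by fin_cases k <;> simp <;> field_simp)
  have hdx : ∀ x, app d x = z • x + (w * x k) • e[k] := fun x => funext fun s => by
    rw [hdd]
    rcases eq_or_ne s k with rfl | h
    · simp [hwd]; ring
    · simp [h]
  have hx : ∀ y, app (g * d * g⁻¹) y = z • y + (w * H y v) • v := fun y => by
    rw [app_mul, app_mul, hdx, app_add, app_smul, app_smul, app_inv', ← h_single K (app g⁻¹ y) k,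
      ← h_app g (app g⁻¹ y), app_inv']
  have hxM : g * d * g⁻¹ ∈ M := M.mul_mem (M.mul_mem hg (hM d hd)) (M.inv_mem hg)
  by_cases hxm : Mon (g * d * g⁻¹)
  swap
  · refine top_of_axis K hq hM hxM hxm (a := m) ⟨m, z, ?_⟩
    rw [hx, h_single_left K, h0, map_zero, mul_zero, zero_smul, add_zero]
  exfalso
  -- the two other coordinates
  obtain ⟨h1, h2, h12⟩ := fin_ne m
  have hv1 : v (m + 1) ≠ 0 := fun e => hax ⟨m + 2, v (m + 2), by
    conv_lhs => rw [expand v m, h0, e, zero_smul, zero_smul, zero_add, zero_add]⟩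
  have hv2 : v (m + 2) ≠ 0 := fun e => hax ⟨m + 1, v (m + 1), by
    conv_lhs => rw [expand v m, h0, e, zero_smul, zero_smul, zero_add, add_zero]⟩
  obtain ⟨r, cr, hr⟩ := hxm (m + 1)
  rw [hx, h_single_left K] at hr
  have e1 := congrFun hr (m + 1)
  have e2 := congrFun hr (m + 2)
  simp only [Pi.add_apply, Pi.smul_apply, smul_eq_mul, Pi.single_eq_same, Pi.single_eq_of_ne h12.symm,
    mul_zero, zero_add, mul_one] at e1 e2
  have hr2 : r = m + 2 := by
    by_contra hne
    rw [Pi.single_eq_of_ne (Ne.symm hne), mul_zero] at e2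
    exact mul_ne_zero (mul_ne_zero hw0 ((map_ne_zero K.bar).2 hv1)) hv2 e2
  rw [hr2, Pi.single_eq_of_ne h12, mul_zero] at e1
  obtain ⟨N, hN⟩ : ∃ N, N = K.bar (v (m + 1)) * v (m + 1) := ⟨_, rfl⟩
  have hNb : K.bar N = N := by rw [hN, map_mul, K.bar_bar, mul_comm]
  have hN0 : N ≠ 0 := hN ▸ mul_ne_zero ((map_ne_zero K.bar).2 hv1) hv1
  have f1 : N * (z ^ 3 - 1) = z ^ 3 := by
    rw [hwd, mul_assoc, ← hN] at e1
    field_simp at e1
    linear_combination -e1
  have f2 := congrArg K.bar f1
  simp only [map_mul, map_sub, map_one, map_pow, hNb, hz.bar_eq] at f2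
  field_simp at f2
  refine hz6 ?_
  linear_combination (1 - z ^ 3) * f1 + (1 - z ^ 3) * f2

/-- A two-term isotropic vector. -/
def pt (b : Fin 3) (ζ : F) : Fin 3 → F := Pi.single (b + 1) 1 + ζ • Pi.single (b + 2) 1

omit K [Finite F] in
theorem pt_val (b : Fin 3) (ζ : F) : pt b ζ b = 0 ∧ pt b ζ (b + 1) = 1 ∧ pt b ζ (b + 2) = ζ := by
  obtain ⟨h1, h2, h3⟩ := fin_ne b
  simp [pt, h1.symm, h2.symm, h3, h3.symm]

theorem h_pt {b : Fin 3} {ζ : F} (y : V) : H y (pt b ζ) = y (b + 1) + y (b + 2) * K.bar ζ := by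
  obtain ⟨p0, p1, p2⟩ := pt_val b ζ
  rw [h_three K _ _ b, p0, p1, p2, map_zero, map_one]; ring

theorem perp_pt {b : Fin 3} {ζ : F} (hζ : ζ * K.bar ζ = -1) {y : V} (h : H y (pt b ζ) = 0) :
    y = y b • e[b] + y (b + 1) • pt b ζ := by
  rw [h_pt K] at h
  conv_lhs => rw [expand y b]
  rw [pt, smul_add, smul_smul, show y (b + 1) * ζ = y (b + 2) by linear_combination ζ * h - y (b + 2) * hζ]
  abel

/-- A monomial element between two-term isotropic points. -/
theorem exists_mon_pt {b b' : Fin 3} {ζ ζ' : F} (hζ : ζ * K.bar ζ = -1) (hζ' : ζ' * K.bar ζ' = -1) :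
    ∃ m : G, Mon m ∧ app m (pt b' ζ') = pt b ζ := by
  obtain ⟨h1, h2, h3⟩ := fin_ne b'
  have hζ'0 : ζ' ≠ 0 := fun e => by simp [e] at hζ'
  obtain ⟨m, hm, hmx⟩ := exists_mon_off K (Equiv.addRight (b - b'))
    (fun s => if s = b' + 2 then ζ / ζ' else 1) (fun s => by
      try dsimp only
      split_ifs
      · show ζ / ζ' * K.bar (ζ / ζ') = 1
        rw [map_div₀, div_mul_div_comm, hζ, hζ', div_self (neg_ne_zero.2 one_ne_zero)]
      · exact circ_one K) b'
  obtain ⟨p0, p1, p2⟩ := pt_val b' ζ'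
  obtain ⟨q0, q1, q2⟩ := pt_val b ζ
  refine ⟨m, hm, funext fun s => ?_⟩
  have key : ∀ b b' r : Fin 3, r + (b + r - (b' + r)) = r + (b - b') ∧ b' + (b - b') = b ∧
      b' + 1 + (b - b') = b + 1 ∧ b' + 2 + (b - b') = b + 2 := by decide
  obtain ⟨r, rfl⟩ := (Equiv.addRight (b - b')).surjective s
  rw [hmx _ p0 r]
  obtain ⟨-, k0, k1, k2⟩ := key b b' r
  rcases fin_cases_three b' r with rfl | rfl | rfl
  · simp [k0, p0, q0]
  · simp [k1, p1, q1, h3]
  · simp [k2, p2, q2, div_mul_cancel₀ _ hζ'0]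

/-- A non-monomial element carrying a diagonal element to a monomial one: no zero entry gives equal norms. -/
theorem hadamard (hq : 3 ≤ q) (h5 : q ≠ 5) (hM : ∀ g, Mon g → g ∈ M) (hne : M ≠ ⊤) {g : G} (hg : g ∈ M)
    (hgm : ¬ Mon g) {z : Fin 3 → F} {d : G} (hd : Dia z d) (hnm : Mon (g⁻¹ * d * g)) (hz : ¬ ∀ s t, z s = z t) :
    ∃ (p : Fin 3 → Fin 3) (c : Fin 3 → F), Function.Injective p ∧ (∀ k, c k ≠ 0) ∧
      (∀ k s, app g e[p (k + 1)] s = z s / c k * app g e[p k] s) ∧
      ∀ k s, 3 * (app g e[k] s * K.bar (app g e[k] s)) = 1 := by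
  classical
  have full : ∀ k s, app g e[k] s ≠ 0 := fun k s e => hne (top_of_zero K hq h5 hM hg hgm e)
  obtain ⟨σ, c, hc, hr, -⟩ := hnm.exists_perm K
  have hstep : ∀ k s, z s * app g e[k] s = c k * app g e[σ k] s := fun k s => by
    have h := congrArg (app g) (hr k)
    rw [app_mul, app_mul, app_inv', app_smul] at h
    have := congrFun h s
    rwa [hd, Pi.smul_apply, smul_eq_mul] at this
  have hfree : ∀ k, σ k ≠ k := fun k e => hz fun s t => by
    have f1 := hstep k s
    have f2 := hstep k t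
    rw [e] at f1 f2
    rw [mul_right_cancel₀ (full k s) f1, mul_right_cancel₀ (full k t) f2]
  have key : ∀ σ : Equiv.Perm (Fin 3), (∀ k, σ k ≠ k) → Function.Injective ![0, σ 0, σ (σ 0)] ∧
      ∀ k, ![0, σ 0, σ (σ 0)] (k + 1) = σ (![0, σ 0, σ (σ 0)] k) := by decide
  obtain ⟨hp, hpσ⟩ := key σ hfree
  obtain ⟨p, hpd⟩ : ∃ p, p = ![(0 : Fin 3), σ 0, σ (σ 0)] := ⟨_, rfl⟩
  rw [← hpd] at hp hpσ
  have hzc : ∀ s, z s * K.bar (z s) = 1 := fun s => by
    have h := h_app d e[s] e[s]
    have e1 : app d e[s] = z s • e[s] := funext fun r => by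
      rw [hd]; rcases eq_or_ne r s with rfl | h <;> simp [*]
    rw [e1, h_smul_left K, h_smul_right K, h_self_single K, mul_one] at h
    exact h
  have hnorm : ∀ k s, app g e[σ k] s * K.bar (app g e[σ k] s) = app g e[k] s * K.bar (app g e[k] s) := by
    intro k s
    have h := congrArg (fun y => y * K.bar y) (hstep k s)
    simp only [map_mul] at h
    have hck : c k * K.bar (c k) = 1 := hc k
    linear_combination -h + app g e[k] s * K.bar (app g e[k] s) * hzc s -
      app g e[σ k] s * K.bar (app g e[σ k] s) * hck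
  refine ⟨p, fun k => c (p k), hp, fun k => (hc _).ne_zero, fun k s => ?_, fun k s => ?_⟩
  · rw [hpσ, div_mul_eq_mul_div, eq_div_iff (hc _).ne_zero]
    linear_combination -hstep (p k) s
  · have all3 : ∀ k, app g e[σ k] s * K.bar (app g e[σ k] s) = app g e[k] s * K.bar (app g e[k] s) :=
      fun k => hnorm k s
    have perm3 : ∀ (σ : Equiv.Perm (Fin 3)) (k : Fin 3), (∀ k, σ k ≠ k) →
        (k + 1 = σ k ∧ k + 2 = σ (σ k)) ∨ (k + 2 = σ k ∧ k + 1 = σ (σ k)) := by decide
    have hrow := row_norm K g s k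
    rcases perm3 σ k hfree with ⟨a1, a2⟩ | ⟨a1, a2⟩ <;> rw [a1, a2, all3, all3] at hrow <;>
      first | linear_combination hrow | linear_combination hrow - all3 k

/-- With a ninth root of unity among the phases that situation gives everything. -/
theorem top_of_ninth (hq : 3 ≤ q) (h5 : q ≠ 5) (hM : ∀ g, Mon g → g ∈ M) (h2 : (2 : F) = 0) {ζ : F}
    (hζ : Circ K ζ) (hζ6 : ζ ^ 6 + ζ ^ 3 + 1 = 0) {g : G} (hg : g ∈ M) (hgm : ¬ Mon g) {z : Fin 3 → F} {d : G}
    (hd : Dia z d) (hnm : Mon (g⁻¹ * d * g)) (hz : ¬ ∀ s t, z s = z t) : M = ⊤ := by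
  classical
  by_contra hne
  obtain ⟨p, c, hp, hc, hstep, hN⟩ := hadamard K hq h5 hM hne hg hgm hd hnm hz
  have full : ∀ k s, app g e[k] s ≠ 0 := fun k s e => hne (top_of_zero K hq h5 hM hg hgm e)
  have hN1 : ∀ k s, app g e[k] s * K.bar (app g e[k] s) = 1 := fun k s => by
    linear_combination hN k s - app g e[k] s * K.bar (app g e[k] s) * h2
  have hz0 : ∀ s, z s ≠ 0 := fun s e => full (p (0 + 1)) s (by rw [hstep, e, zero_div, zero_mul])
  have hcube : ∀ s t, z s ^ 3 = z t ^ 3 := fun s t => by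
    have f : ∀ s, z s ^ 3 = c 0 * c 1 * c 2 := fun s => by
      have a := hstep 2 s
      rw [show (2 : Fin 3) + 1 = 0 from rfl, show p 2 = p (1 + 1) from rfl, hstep 1 s,
        show p 1 = p (0 + 1) from rfl, hstep 0 s] at a
      have hA := full (p 0) s
      have := hc 0; have := hc 1; have := hc 2
      field_simp at a
      linear_combination -a
    rw [f s, f t]
  have hinj : ∀ s t, z s = z t → s = t := fun s t e => by
    by_contra hst
    obtain ⟨l, hl⟩ : ∃ l, l = app g e[p 0] s / app g e[p 0] t := ⟨_, rfl⟩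
    have hcol : ∀ k, app g e[p k] s = l * app g e[p k] t := by
      have h0 : app g e[p 0] s = l * app g e[p 0] t := by rw [hl, div_mul_cancel₀ _ (full _ _)]
      have hs : ∀ k, app g e[p k] s = l * app g e[p k] t → app g e[p (k + 1)] s = l * app g e[p (k + 1)] t :=
        fun k hk => by rw [hstep, hstep, hk, e]; ring
      intro k
      fin_cases k
      · exact h0
      · exact hs 0 h0
      · exact hs 1 (hs 0 h0)
    have heq : app g⁻¹ e[s] = app g⁻¹ (K.bar l • e[t]) := funext fun k => by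
      obtain ⟨k', rfl⟩ := (Finite.injective_iff_surjective.1 hp) k
      rw [app_smul, Pi.smul_apply, row_eq K, row_eq K, hcol, map_mul, smul_eq_mul]
    have := congrFun (app_injective g⁻¹ heq) s
    simp [hst] at this
  set ω := ζ ^ 3 with hω
  -- the spectrum
  obtain ⟨ξ, hξ, hξ6, hz1, hz2⟩ : ∃ ξ, Circ K ξ ∧ ξ ^ 6 + ξ ^ 3 + 1 = 0 ∧ z 1 = ξ ^ 3 * z 0 ∧
      z 2 = ξ ^ 6 * z 0 := by
    have hroot : ∀ s, s ≠ 0 → z s = ω * z 0 ∨ z s = ω ^ 2 * z 0 := fun s hs => by
      obtain ⟨r, hr⟩ : ∃ r, r = z s / z 0 := ⟨_, rfl⟩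
      have hr1 : r - 1 ≠ 0 := fun e => hs (hinj s 0 (by
        rw [sub_eq_zero, hr, div_eq_one_iff_eq (hz0 0)] at e; exact e))
      have hr3 : r ^ 3 = 1 := by rw [hr, div_pow, hcube s 0, div_self (pow_ne_zero _ (hz0 0))]
      have hq2 : r ^ 2 + r + 1 = 0 :=
        (mul_eq_zero.1 (show (r - 1) * (r ^ 2 + r + 1) = 0 by linear_combination hr3)).resolve_left hr1
      have hω2 : ω ^ 2 + ω + 1 = 0 := by rw [hω]; linear_combination hζ6
      rcases mul_eq_zero.1 (show (r - ω) * (r - ω ^ 2) = 0 by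
        linear_combination hq2 + (ω - 1 - r) * hω2) with h | h
      · left; rw [← sub_eq_zero.1 h, hr, div_mul_cancel₀ _ (hz0 0)]
      · right; rw [← sub_eq_zero.1 h, hr, div_mul_cancel₀ _ (hz0 0)]
    rcases hroot 1 (by decide) with h | h <;> rcases hroot 2 (by decide) with h' | h'
    · exact absurd (hinj 1 2 (h.trans h'.symm)) (by decide)
    · exact ⟨ζ, hζ, hζ6, h, by rw [h', hω]; ring⟩
    · have hζ9 : ζ ^ 9 = 1 := by linear_combination (ζ ^ 3 - 1) * hζ6
      refine ⟨ζ ^ 8, hζ.pow 8, ?_, ?_, ?_⟩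
      · linear_combination hζ6 + (ζ ^ 39 + ζ ^ 30 + ζ ^ 21 + ζ ^ 12 + ζ ^ 3 + ζ ^ 15 + ζ ^ 6) * hζ9
      · rw [h, hω]; linear_combination (-(z 0) * (ζ ^ 15 + ζ ^ 6)) * hζ9
      · rw [h', hω]; linear_combination (-(z 0) * (ζ ^ 39 + ζ ^ 30 + ζ ^ 21 + ζ ^ 12 + ζ ^ 3)) * hζ9
    · exact absurd (hinj 1 2 (h.trans h'.symm)) (by decide)
  have hξ9 : ξ ^ 9 = 1 := by linear_combination (ξ ^ 3 - 1) * hξ6
  -- coordinates along the orbit
  obtain ⟨v, hv⟩ : ∃ v, v = app g e[p 0] := ⟨_, rfl⟩
  obtain ⟨μ, hμd⟩ : ∃ μ : Fin 3 → F, μ = ![1, z 0 / c 0, z 0 / c 0 * (z 0 / c 1)] := ⟨_, rfl⟩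
  obtain ⟨S, hS⟩ : ∃ S : Fin 3 → Fin 3 → F, S = ![![1, 1, 1], ![1, ξ ^ 3, ξ ^ 6], ![1, ξ ^ 6, ξ ^ 3]] := ⟨_, rfl⟩
  have hform : ∀ i s, app g e[p i] s = μ i * S i s * v s := by
    have h1 : ∀ s, app g e[p 1] s = z s / c 0 * v s := fun s => by rw [hv]; exact hstep 0 s
    have h2 : ∀ s, app g e[p 2] s = z s / c 1 * (z s / c 0 * v s) := fun s => by
      rw [← h1]; exact hstep 1 s
    intro i s
    fin_cases i
    · fin_cases s <;> simp [hμd, hS, hv]
    · fin_cases s <;> simp [hμd, hS, h1, hz1, hz2] <;> first | ring1 | exact Or.inl (by ring1)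
    · fin_cases s <;> simp [hμd, hS, h2, hz1, hz2]
      · ring
      · first | ring1 | exact Or.inl (by ring1)
      · linear_combination (z 0 / c 1 * (z 0 / c 0) * v 2 * ξ ^ 3) * hξ9
  have hvN : ∀ s, v s * K.bar (v s) = 1 := fun s => hv ▸ hN1 (p 0) s
  have hμN : ∀ i, μ i * K.bar (μ i) = 1 := fun i => by
    have h := hN1 (p i) 0
    rw [hform] at h
    have e1 : S i 0 = 1 := by rw [hS]; fin_cases i <;> rfl
    rw [e1, mul_one, map_mul] at h
    linear_combination h - μ i * K.bar (μ i) * hvN 0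
  have hξi : ∀ n, K.bar (ξ ^ n) = ξ ^ (8 * n) := fun n => by
    rw [map_pow, hξ.bar_eq, pow_mul]
    congr 1
    exact inv_eq_of_mul_eq_one_right (by linear_combination hξ9)
  obtain ⟨E, hE, hEd⟩ := exists_dia K ![1, ξ, ξ ^ 8] (fun s => by
    fin_cases s <;> simp <;> first | exact circ_one K | exact hξ | exact hξ.pow 8) (by simp; linear_combination hξ9)
  obtain ⟨A, hAd⟩ : ∃ A, A = g⁻¹ * E * g := ⟨_, rfl⟩
  have hAM : A ∈ M := hAd ▸ M.mul_mem (M.mul_mem (M.inv_mem hg) (hM E hE)) hg
  obtain ⟨P, hPd⟩ : ∃ P : Fin 3 → F, P = ![1 + ξ + ξ ^ 8, 1 + ξ ^ 4 + ξ ^ 5, 1 + ξ ^ 7 + ξ ^ 2] := ⟨_, rfl⟩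
  have hA : ∀ a b, app A e[p b] (p a) = μ b * K.bar (μ a) * P (b - a) := by
    intro a b
    rw [hAd, entry K, h_three K _ _ 0, hEd, hEd, hEd, hform, hform, hform, hform, hform, hform]
    have hb : ∀ i s, K.bar (μ i * S i s * v s) = K.bar (μ i) * K.bar (S i s) * K.bar (v s) := fun i s => by
      rw [map_mul, map_mul]
    rw [hb, hb, hb]
    have w0 := hvN 0
    have w1 := hvN 1
    have w2 := hvN 2
    have reduce : ∀ n, ξ ^ n = ξ ^ (n % 9) := fun n => by
      conv_lhs => rw [← Nat.div_add_mod n 9, pow_add, pow_mul, hξ9, one_pow, one_mul]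
    have cancel : ∀ x0 x1 x2 y0 y1 y2 : F,
        1 * (μ b * x0 * v 0) * (K.bar (μ a) * y0 * K.bar (v 0)) +
        ξ * (μ b * x1 * v 1) * (K.bar (μ a) * y1 * K.bar (v 1)) +
        ξ ^ 8 * (μ b * x2 * v 2) * (K.bar (μ a) * y2 * K.bar (v 2)) =
          μ b * K.bar (μ a) * (x0 * y0 + ξ * (x1 * y1) + ξ ^ 8 * (x2 * y2)) := fun x0 x1 x2 y0 y1 y2 => by
      linear_combination μ b * K.bar (μ a) * x0 * y0 * w0 + μ b * K.bar (μ a) * ξ * x1 * y1 * w1 +
        μ b * K.bar (μ a) * ξ ^ 8 * x2 * y2 * w2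
    refine (cancel _ _ _ _ _ _).trans (congrArg _ ?_)
    rw [hS, hPd]
    fin_cases a <;> fin_cases b <;> simp [hξi] <;> ring_nf <;>
      simp only [reduce 8, reduce 9, reduce 10, reduce 11, reduce 12, reduce 13, reduce 14, reduce 15, reduce 16,
        reduce 17, reduce 18, reduce 19, reduce 20, reduce 21, reduce 22, reduce 23, reduce 24, reduce 25,
        reduce 26, reduce 27, reduce 28, reduce 29, reduce 30, reduce 31, reduce 32, reduce 33, reduce 34,
        reduce 35, reduce 36, reduce 37, reduce 38, reduce 39, reduce 40, reduce 41, reduce 42, reduce 43,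
        reduce 44, reduce 45, reduce 46, reduce 47, reduce 48, reduce 49, reduce 50, reduce 51, reduce 52,
        reduce 53, reduce 54, reduce 55, reduce 56, reduce 57, reduce 58, reduce 59, reduce 60, reduce 61,
        reduce 62] <;> ring_nf
  -- the diagonal element in between
  obtain ⟨E', hE', hEd'⟩ := exists_dia K (fun s => if s = p 0 then ξ else if s = p 1 then 1 else ξ ^ 8)
    (fun s => by try dsimp only
                 split_ifs <;> first | exact circ_one K | exact hξ | exact hξ.pow 8)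
    (by
      have key : ∀ p : Fin 3 → Fin 3, Function.Injective p →
          p = ![0, 1, 2] ∨ p = ![0, 2, 1] ∨ p = ![1, 0, 2] ∨ p = ![1, 2, 0] ∨ p = ![2, 0, 1] ∨ p = ![2, 1, 0] := by
        decide
      rcases key p hp with rfl | rfl | rfl | rfl | rfl | rfl <;> simp <;> linear_combination hξ9)
  have hE'v : ∀ i, (fun s => if s = p 0 then ξ else if s = p 1 then 1 else ξ ^ 8) (p i) = ![ξ, 1, ξ ^ 8] i := by
    intro i
    fin_cases i <;> simp [hp.eq_iff]
  have hY : ∀ a, app (A * E' * A) e[p 2] (p a) = μ 2 * K.bar (μ a) *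
      (ξ * (P (0 - a) * P 2) + P (1 - a) * P 1 + ξ ^ 8 * (P (2 - a) * P 0)) := by
    intro a
    rw [app_mul, app_mul]
    obtain ⟨y, hy⟩ : ∃ y, y = app E' (app A e[p 2]) := ⟨_, rfl⟩
    have hsum : y = y (p 0) • e[p 0] + y (p 1) • e[p 1] + y (p 2) • e[p 2] := funext fun s => by
      obtain ⟨i, rfl⟩ := (Finite.injective_iff_surjective.1 hp) s
      fin_cases i <;> simp [hp.eq_iff]
    have hyv : ∀ i, y (p i) = ![ξ, 1, ξ ^ 8] i * (μ 2 * K.bar (μ i) * P (2 - i)) := fun i => by
      rw [hy, hEd', hE'v, hA]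
    rw [← hy, hsum]
    simp only [app_add, app_smul, Pi.add_apply, Pi.smul_apply, smul_eq_mul, hA, hyv]
    have t0 := hμN 0; have t1 := hμN 1; have t2 := hμN 2
    simp only [Matrix.cons_val_zero, Matrix.cons_val_one, Matrix.cons_val, sub_zero, sub_self,
      show (2 : Fin 3) - 1 = 1 from rfl]
    linear_combination (μ 2 * K.bar (μ a) * ξ * P (0 - a) * P 2) * t0 + (μ 2 * K.bar (μ a) * P (1 - a) * P 1) * t1 +
      (μ 2 * K.bar (μ a) * ξ ^ 8 * P (2 - a) * P 0) * t2
  have hY0 : app (A * E' * A) e[p 2] (p 0) = 0 := by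
    rw [hY 0, hPd]
    simp
    refine Or.inr ?_
    linear_combination (ξ ^ 17 - ξ ^ 14 + ξ ^ 12 + 3 * ξ ^ 10 + ξ ^ 8 - 3 * ξ ^ 7 - ξ ^ 6 + ξ ^ 5 + 2 * ξ ^ 4 +
      6 * ξ ^ 3 + ξ ^ 2 + ξ - 5) * hξ6 + 3 * h2
  have nz : ∀ a, ξ * (P (0 - a) * P 2) + P (1 - a) * P 1 + ξ ^ 8 * (P (2 - a) * P 0) ≠ 0 →
      app (A * E' * A) e[p 2] (p a) ≠ 0 := fun a h => by
    rw [hY]
    exact mul_ne_zero (mul_ne_zero (fun e => by simpa [e] using hμN 2)
      ((map_ne_zero K.bar).2 fun e => by simpa [e] using hμN a)) h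
  refine hne (top_of_zero K hq h5 hM (M.mul_mem (M.mul_mem hAM (hM E' hE')) hAM) (fun hm => ?_) hY0)
  have h1 := nz 1 (by
    rw [hPd]; simp
    intro e
    refine one_ne_zero (α := F) ?_
    linear_combination (ξ ^ 4 + 1) * e - (ξ ^ 19 + ξ ^ 18 - ξ ^ 16 + 2 * ξ ^ 14 + ξ ^ 13 + ξ ^ 11 + 3 * ξ ^ 10 +
      ξ ^ 9 + 5 * ξ ^ 6 - ξ ^ 5 - 2 * ξ ^ 3 + 6 * ξ ^ 2 + 2 * ξ - 2) * hξ6 + (3 * ξ ^ 2 - 3 * ξ ^ 3 - 1) * h2)
  have h2' := nz 2 (by
    rw [hPd]; simp
    intro e
    refine one_ne_zero (α := F) ?_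
    linear_combination (ξ ^ 5 + ξ ^ 4 + ξ ^ 3 + ξ + 1) * e - (ξ ^ 23 + ξ ^ 22 + ξ ^ 21 - ξ ^ 20 + ξ ^ 16 + 3 * ξ ^ 15 +
      5 * ξ ^ 14 + ξ ^ 13 + 2 * ξ ^ 11 + 4 * ξ ^ 10 + ξ ^ 9 - 2 * ξ ^ 8 + 4 * ξ ^ 7 + 10 * ξ ^ 6 + 10 * ξ ^ 5 +
      2 * ξ ^ 4 - ξ ^ 3 + 2 * ξ ^ 2 + 2 * ξ - 2) * hξ6 + (3 * ξ ^ 5 - 3 * ξ ^ 3 - 1) * h2)
  obtain ⟨r, cr, hr⟩ := hm (p 2)
  rw [hr] at h1 h2'
  have r1 : p 1 = r := by_contra fun hn => h1 (by simp [hn])
  have r2 : p 2 = r := by_contra fun hn => h2' (by simp [hn])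
  exact absurd (hp (r1.trans r2.symm)) (by decide)

/-- An overgroup which is not everything meets the stabiliser of a two-term isotropic point in monomial
elements. -/
theorem mon_of_fix (hq : 3 ≤ q) (h5 : q ≠ 5) (hM : ∀ g, Mon g → g ∈ M) (hne : M ≠ ⊤) {g : G} (hg : g ∈ M)
    {b : Fin 3} {ζ : F} (hζ : ζ * K.bar ζ = -1) {c : F} (hc : app g (pt b ζ) = c • pt b ζ) : Mon g := by
  classical
  by_contra hgm
  set a := pt b ζ with had
  obtain ⟨pa0, pa1, pa2⟩ := pt_val b ζ
  rw [← had] at pa0 pa1 pa2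
  obtain ⟨n1, n2, n3⟩ := fin_ne b
  have ha0 : a ≠ 0 := fun e => one_ne_zero (α := F) (by rw [← pa1, e]; rfl)
  have hc0 : c ≠ 0 := fun e => ha0 (app_injective g (by rw [hc, e, zero_smul]; exact (mulVec_zero _).symm))
  obtain ⟨z, hz, hzo, hz6⟩ := exists_gen_six K hq h5
  have hz0 := hz.ne_zero
  obtain ⟨h, hh, hhd⟩ := exists_dia K (fun s => if s = b then z⁻¹ * z⁻¹ else z)
    (fun s => by try dsimp only
                 split_ifs <;> first | exact hz.inv.mul hz.inv | exact hz)
    (by fin_cases b <;> simp <;> field_simp)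
  have hhe : ∀ x, app h x = z • x + ((z⁻¹ * z⁻¹ - z) * x b) • e[b] := fun x => funext fun s => by
    rw [hhd]
    rcases eq_or_ne s b with rfl | hs
    · simp; ring
    · simp [hs]
  have hha : app h a = z • a := by rw [hhe, pa0, mul_zero, zero_smul, add_zero]
  have hha' : app h⁻¹ a = z⁻¹ • a := app_injective h (by
    rw [app_inv', app_smul, hha, smul_smul, inv_mul_cancel₀ hz0, one_smul])
  have hhb : app h e[b] = (z⁻¹ * z⁻¹) • e[b] := by rw [hhe, Pi.single_eq_same, mul_one, ← add_smul]; ring_nf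
  have hhb' : app h⁻¹ e[b] = (z * z) • e[b] := app_injective h (by
    rw [app_inv', app_smul, hhb, smul_smul]; field_simp; rw [one_smul])
  have hga' : app g⁻¹ a = c⁻¹ • a := app_injective g (by
    rw [app_inv', app_smul, hc, smul_smul, inv_mul_cancel₀ hc0, one_smul])
  have hab : H e[b] a = 0 := by rw [h_single_left K, pa0, map_zero]
  have haa : H a a = 0 := by rw [had, h_pt K, ← had, pa1, pa2]; linear_combination hζ
  -- images of the third coordinate vector
  have fixed : ∀ (y : G) (ν : F), ν ≠ 0 → app y a = ν • a → ∃ δ γ : F, app y e[b] = δ • e[b] + γ • a := by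
    intro y ν hν hy
    have h1 := h_app y e[b] a
    rw [hy, h_smul_right K, hab] at h1
    exact ⟨_, _, perp_pt K hζ ((mul_eq_zero.1 h1).resolve_left ((map_ne_zero K.bar).2 hν))⟩
  obtain ⟨δ, γ, hgb⟩ := fixed g c hc0 hc
  obtain ⟨δ', γ', hgb'⟩ := fixed g⁻¹ c⁻¹ (inv_ne_zero hc0) hga'
  have hδ : δ' * δ = 1 := by
    have h1 := app_inv' g e[b]
    rw [hgb', app_add, app_smul, app_smul, hgb, hc, smul_add, smul_smul, smul_smul, smul_smul] at h1
    have := congrFun h1 b
    simpa [pa0] using this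
  obtain ⟨x, hxd⟩ : ∃ x, x = g * h * g⁻¹ * h⁻¹ := ⟨_, rfl⟩
  have hxM : x ∈ M := hxd ▸ M.mul_mem (M.mul_mem (M.mul_mem hg (hM h hh)) (M.inv_mem hg)) (M.inv_mem (hM h hh))
  have hxa : app x a = a := by
    rw [hxd, app_mul, app_mul, app_mul, hha', app_smul, hga', smul_smul, app_smul, hha, smul_smul, app_smul, hc,
      smul_smul]
    field_simp
    exact one_smul F a
  obtain ⟨β, hβ⟩ : ∃ β, app x e[b] = e[b] + β • a := by
    refine ⟨z * z * (δ' * (z⁻¹ * z⁻¹) * γ + γ' * z * c), ?_⟩
    rw [hxd, app_mul, app_mul, app_mul, hhb', app_smul, hgb', app_smul, app_smul, app_add, app_smul, app_smul,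
      hhb, hha, app_add, app_smul, app_smul, app_smul, app_smul, hgb, hc]
    match_scalars
    · field_simp; linear_combination hδ
    · ring
  have hxi : ∀ (y : G) (β : F), app y a = a → app y e[b] = e[b] + β • a →
      ∃ γ, app y e[b + 1] = e[b + 1] + (-K.bar β) • e[b] + γ • a ∧
        γ + K.bar γ + β * K.bar β = 0 := by
    intro y β ya yb
    obtain ⟨r, hr⟩ : ∃ r, r = app y e[b + 1] - e[b + 1] := ⟨_, rfl⟩
    have hra : H r a = 0 := by
      rw [hr, h_sub_left K, sub_eq_zero]
      conv_lhs => rw [← ya, h_app]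
    have hre := perp_pt K hζ hra
    rw [← had] at hre
    have ei : app y e[b + 1] = e[b + 1] + r := by rw [hr]; abel
    have h1 := h_app y e[b + 1] e[b]
    rw [yb, ei] at h1
    have hia : H e[b + 1] a = 1 := by rw [h_single_left K, pa1, map_one]
    have hrb : r b = -K.bar β := by
      simp only [h_add_left K, h_add_right K, h_smul_right K, hia, hra, h_single K, Pi.single_eq_of_ne n1.symm] at h1
      linear_combination h1
    refine ⟨r (b + 1), by rw [ei, hre, hrb, ← add_assoc]; simp [n1, pa1], ?_⟩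
    have h2 := h_app y e[b + 1] e[b + 1]
    rw [ei, hre, hrb] at h2
    have hai : H a e[b + 1] = 1 := by rw [h_single K, pa1]
    simp only [h_add_left K, h_add_right K, h_smul_left K, h_smul_right K, hia, hai, haa, hab,
      h_eq_zero_symm K hab, h_self_single K, h_single K, Pi.single_eq_of_ne n1.symm, Pi.single_eq_of_ne n1,
      K.bar_bar, map_neg, mul_zero, mul_one, add_zero, zero_add, pa0] at h2
    linear_combination h2
  have el : e[b + 2] = ζ⁻¹ • (a - e[b + 1]) := by
    have hζ0 : ζ ≠ 0 := fun e => by simp [e] at hζ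
    rw [had, pt, add_sub_cancel_left, smul_smul, inv_mul_cancel₀ hζ0, one_smul]
  -- elements fixing the point and the third vector
  have small : ∀ (y : G) (t : F), y ∈ M → app y a = a → app y e[b] = e[b] →
      app y e[b + 1] = e[b + 1] + t • a → t + K.bar t = 0 → t = 0 ∨ (t = -1 ∧ (2 : F) = 0) := by
    intro y t hyM _ yb yi htt
    by_cases hym : Mon y
    swap
    · exact absurd (top_of_axis K hq hM hyM hym (a := b) ⟨b, 1, by rw [yb, one_smul]⟩) hne
    by_cases ht0 : t = 0
    · exact Or.inl ht0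
    obtain ⟨r, cr, hr⟩ := hym (b + 1)
    rw [yi] at hr
    have e1 := congrFun hr (b + 1)
    have e2 := congrFun hr (b + 2)
    simp only [Pi.add_apply, Pi.smul_apply, smul_eq_mul, Pi.single_eq_same, Pi.single_eq_of_ne n3.symm, pa1, pa2,
      zero_add, mul_one] at e1 e2
    have hr2 : b + 2 = r := by
      by_contra hn
      rw [Pi.single_eq_of_ne hn, mul_zero] at e2
      exact mul_ne_zero ht0 (fun e => by simp [e] at hζ) e2
    rw [← hr2, Pi.single_eq_of_ne n3, mul_zero] at e1
    have ht : t = -1 := by linear_combination e1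
    rw [ht, map_neg, map_one] at htt
    exact Or.inr ⟨ht, by linear_combination -htt⟩
  by_cases hβ0 : β = 0
  · rw [hβ0, zero_smul, add_zero] at hβ
    obtain ⟨γx, hγx, hγs⟩ := hxi x 0 hxa (by rw [hβ, zero_smul, add_zero])
    rw [map_zero, neg_zero, zero_smul, add_zero] at hγx
    rw [map_zero, mul_zero, add_zero] at hγs
    rcases small x γx hxM hxa hβ hγx hγs with h0 | ⟨ht, h2⟩
    · rw [h0, zero_smul, add_zero] at hγx
      have hx1 : x = 1 := by
        refine ext_basis K b (by rw [hβ, app_one]) (by rw [hγx, app_one]) ?_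
        rw [el, app_one, app_smul, app_diff, hxa, hγx]
      have hcomm : h * g = g * h := by
        rw [hx1] at hxd
        calc h * g = g * h * g⁻¹ * h⁻¹ * h * g := by rw [← hxd, one_mul]
          _ = g * h := by group
      have h1 := congrArg (fun y => app y e[b]) hcomm
      simp only [app_mul, hhb, hgb, app_add, app_smul, hha] at h1
      have h3 := congrFun h1 (b + 1)
      simp [pa1, n1] at h3
      have hγ0 : γ = 0 := by
        by_contra hγ0
        refine hz6 ?_
        have : z ^ 3 = 1 := by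
          field_simp at h3
          have h4 : γ * (z ^ 3 - 1) = 0 := by first | linear_combination h3 | linear_combination γ * h3
          exact sub_eq_zero.1 ((mul_eq_zero.1 h4).resolve_left hγ0)
        rw [show 6 = 3 * 2 from rfl, pow_mul, this, one_pow]
      rw [hγ0, zero_smul, add_zero] at hgb
      exact hne (top_of_axis K hq hM hg hgm (a := b) ⟨b, δ, hgb⟩)
    · -- a transposition
      rw [ht] at hγx
      have hcomm : x * h = h * x := by
        refine ext_basis K b ?_ ?_ ?_
        · rw [app_mul, app_mul, hhb, app_smul, hβ, hhb]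
        · have hhi : app h e[b + 1] = z • e[b + 1] := by rw [hhe, Pi.single_eq_of_ne n1.symm]; simp
          rw [app_mul, app_mul, hhi, app_smul, hγx, app_add, app_smul, hhi, hha]
          module
        · have hhl : app h e[b + 2] = z • e[b + 2] := by rw [hhe, Pi.single_eq_of_ne n2.symm]; simp
          have hxl : app x e[b + 2] = (2 * ζ⁻¹) • a + (-ζ⁻¹) • e[b + 1] := by
            rw [el, app_smul, app_diff, hxa, hγx]; module
          have hhi : app h e[b + 1] = z • e[b + 1] := by rw [hhe, Pi.single_eq_of_ne n1.symm]; simp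
          rw [app_mul, app_mul, hhl, app_smul, hxl, app_add, app_smul, app_smul, hha, hhi]
          module
      have hx2 : x * x = 1 := by
        refine ext_basis K b (by rw [app_mul, hβ, hβ, app_one]) ?_ ?_
        · rw [app_mul, hγx, app_add, app_smul, hγx, hxa, app_one]
          match_scalars
          · ring
          · linear_combination -h2
        · rw [el, app_smul, app_diff, app_mul, hxa, hxa, app_mul, hγx, app_add, app_smul, hγx, hxa, app_one]
          match_scalars
          · linear_combination ζ⁻¹ * h2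
          · ring
      have hord : h ^ (q + 1) = 1 := by
        have hz1 : z ^ (q + 1) = 1 := hzo ▸ pow_orderOf_eq_one z
        have key : ∀ n : ℕ, ∀ y s, app (h ^ n) y s = (if s = b then z⁻¹ * z⁻¹ else z) ^ n * y s := by
          intro n
          induction n with
          | zero => intro y s; simp [app_one]
          | succ n ih => intro y s; rw [pow_succ, app_mul, ih, hhd, pow_succ]; ring
        refine ext_app fun y => funext fun s => ?_
        rw [key, app_one]
        split_ifs <;> simp [mul_pow, inv_pow, hz1]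
      have hodd : Odd (q + 1) := by
        rcases Nat.even_or_odd q with he | ho
        · exact he.add_one
        · exfalso
          have h' : ((q : ℕ) : F) = 0 := by
            cases nonempty_fintype F
            have h := Nat.cast_card_eq_zero F
            rw [← Nat.card_eq_fintype_card, K.card, Nat.cast_pow] at h
            exact pow_eq_zero_iff two_ne_zero |>.1 h
          obtain ⟨m, rfl⟩ := ho
          push_cast at h'
          exact one_ne_zero (α := F) (by linear_combination h' - (m : F) * h2)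
      have h1 : (g * h * g⁻¹) ^ (q + 1) = 1 := by rw [conj_pow, hord, mul_one, mul_inv_cancel]
      have e : g * h * g⁻¹ = x * h := by rw [hxd]; group
      rw [e, (Commute.mul_pow hcomm), hord, mul_one] at h1
      obtain ⟨m, hm⟩ := hodd
      rw [hm, pow_succ, pow_mul, pow_two, hx2, one_pow, one_mul] at h1
      rw [h1, app_one] at hγx
      exact one_ne_zero (α := F) (by
        have := congrFun hγx (b + 1)
        simp [pa1] at this)
  · -- translations along the point
    obtain ⟨γx, hγx, -⟩ := hxi x β hxa hβ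
    obtain ⟨lam, hlam⟩ : ∃ lam, lam = z ^ 3 := ⟨_, rfl⟩
    have hlamc : Circ K lam := hlam ▸ hz.pow 3
    have conjx : ∀ m : ℕ, app (h ^ m * x * (h ^ m)⁻¹) a = a ∧
        app (h ^ m * x * (h ^ m)⁻¹) e[b] = e[b] + (lam ^ m * β) • a := by
      intro m
      induction m with
      | zero => simpa using ⟨hxa, hβ⟩
      | succ m ih =>
        obtain ⟨i1, i2⟩ := ih
        have e : h ^ (m + 1) * x * (h ^ (m + 1))⁻¹ = h * (h ^ m * x * (h ^ m)⁻¹) * h⁻¹ := by
          rw [pow_succ', _root_.mul_inv_rev]; group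
        refine ⟨by rw [e, app_mul, app_mul, hha', app_smul, i1, app_smul, hha, smul_smul, inv_mul_cancel₀ hz0,
          one_smul], ?_⟩
        rw [e, app_mul, app_mul, hhb', app_smul, i2, app_smul, app_add, app_smul, hhb, hha]
        match_scalars
        · field_simp
        · rw [pow_succ, hlam]; ring
    have step : ∀ m : ℕ, lam ^ m - K.bar (lam ^ m) ≠ 0 →
        β * K.bar β * (lam ^ m - K.bar (lam ^ m)) = -1 ∧ (2 : F) = 0 := by
      intro m hm
      obtain ⟨ya, yb⟩ := conjx m
      obtain ⟨γy, hγy, -⟩ := hxi _ _ ya yb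
      set y := h ^ m * x * (h ^ m)⁻¹ with hy
      have hyM : y ∈ M := M.mul_mem (M.mul_mem (M.pow_mem (hM h hh) m) hxM) (M.inv_mem (M.pow_mem (hM h hh) m))
      obtain ⟨β', hβ'⟩ : ∃ β', β' = lam ^ m * β := ⟨_, rfl⟩
      rw [← hβ'] at yb hγy
      obtain ⟨w, hwd⟩ : ∃ w, w = x * y * (y * x)⁻¹ := ⟨_, rfl⟩
      have inv_of : ∀ u v : V, app (y * x) u = v → app (y * x)⁻¹ v = u := fun u v e => by rw [← e, app_inv]
      have wa : app w a = a := by
        rw [hwd, app_mul, inv_of a a (by rw [app_mul, hxa, ya]), app_mul, ya, hxa]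
      have wb : app w e[b] = e[b] := by
        have h2 : app (y * x) (e[b] + (-(β + β')) • a) = e[b] := by
          rw [app_mul, app_add, app_smul, hβ, hxa, app_add, app_add, app_smul, app_smul, yb, ya]; module
        rw [hwd, app_mul, inv_of _ _ h2, app_mul, app_add, app_smul, yb, ya, app_add, app_add, app_smul, app_smul,
          hβ, hxa]
        module
      have wi : app w e[b + 1] = e[b + 1] + (K.bar β * β' - K.bar β' * β) • a := by
        have hyx : app (y * x) e[b + 1] = e[b + 1] + (-K.bar β - K.bar β') • e[b] +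
            (γx + γy - K.bar β * β') • a := by
          rw [app_mul, hγx, app_add, app_add, app_smul, app_smul, hγy, yb, ya]; module
        have hxy : app (x * y) e[b + 1] = e[b + 1] + (-K.bar β - K.bar β') • e[b] +
            (γx + γy - K.bar β' * β) • a := by
          rw [app_mul, hγy, app_add, app_add, app_smul, app_smul, hγx, hβ, hxa]; module
        have h1 : app w (app (y * x) e[b + 1]) = app (x * y) e[b + 1] := by
          rw [hwd, app_mul, app_inv]
        rw [hyx, hxy, app_add, app_add, app_smul, app_smul, wb, wa] at h1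
        have h2 : app w e[b + 1] = (app w e[b + 1] + (-K.bar β - K.bar β') • e[b] +
            (γx + γy - K.bar β * β') • a) - ((-K.bar β - K.bar β') • e[b] +
            (γx + γy - K.bar β * β') • a) := by abel
        rw [h2, h1]
        module
      have hμ : K.bar β * β' - K.bar β' * β = β * K.bar β * (lam ^ m - K.bar (lam ^ m)) := by
        rw [hβ', map_mul]; ring
      rw [hμ] at wi
      have hwM : w ∈ M := hwd ▸ M.mul_mem (M.mul_mem hxM hyM) (M.inv_mem (M.mul_mem hyM hxM))
      rcases small w _ hwM wa wb wi (by rw [map_mul, map_mul, map_sub, K.bar_bar, K.bar_bar]; ring) with e | e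
      · exact absurd e (mul_ne_zero (mul_ne_zero hβ0 ((map_ne_zero K.bar).2 hβ0)) hm)
      · exact e
    have hlam1 : lam ^ 1 - K.bar (lam ^ 1) ≠ 0 := fun e => hz6 (by
      rw [pow_one, sub_eq_zero] at e
      have hll : lam * K.bar lam = 1 := hlamc
      rw [← e, hlam] at hll
      linear_combination hll)
    obtain ⟨s1, h2⟩ := step 1 hlam1
    have hlam2 : lam ^ 2 - K.bar (lam ^ 2) ≠ 0 := fun e => hlam1 (by
      have : (lam ^ 1 - K.bar (lam ^ 1)) ^ 2 = 0 := by
        rw [map_pow] at e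
        rw [pow_one]
        linear_combination e + (K.bar lam ^ 2 - lam * K.bar lam) * h2
      exact pow_eq_zero_iff two_ne_zero |>.1 this)
    obtain ⟨s2, -⟩ := step 2 hlam2
    rw [pow_one] at s1
    rw [map_pow] at s2
    have hT : lam - K.bar lam = -1 := by
      have hm : β * K.bar β * (lam - K.bar lam) * (lam - K.bar lam - (-1)) = 0 := by
        linear_combination -(1 : F) * s2 + s1 * 1 + (β * K.bar β * (lam ^ 2 - lam * K.bar lam)) * h2
      refine sub_eq_zero.1 ((mul_eq_zero.1 hm).resolve_left ?_)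
      rw [s1]
      exact neg_ne_zero.2 one_ne_zero
    have hNβ : β * K.bar β = 1 := by
      rw [hT] at s1; linear_combination -s1
    have hlam3 : lam ^ 2 + lam + 1 = 0 := by
      have hll : lam * K.bar lam = 1 := hlamc
      linear_combination lam * hT + hll + 1 * h2
    have hx3 : ∀ s, app x e[b] s * K.bar (app x e[b] s) = 1 := by
      intro s
      rw [hβ]
      rcases fin_cases_three b s with rfl | rfl | rfl
      · simp [pa0]
      · simp [n1, pa1, hNβ]
      · simp [n2, pa2, map_mul]; linear_combination (ζ * K.bar ζ) * hNβ + hζ - h2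
    have hxm : ¬ Mon x := fun hm => by
      obtain ⟨r, cr, hr⟩ := hm b
      have key : ∀ r : Fin 3, ∃ s, s ≠ r := by decide
      obtain ⟨s, hs⟩ := key r
      have := hx3 s
      rw [hr] at this
      simp [hs] at this
    obtain ⟨d0, hd0, hd0d⟩ := exists_dia K ![1, lam, lam ^ 2]
      (fun s => by fin_cases s <;> simp <;> first | exact circ_one K | exact hlamc | exact hlamc.pow 2)
      (by simp; linear_combination (lam - 1) * hlam3)
    have hy0 : app (x⁻¹ * d0 * x) e[b] b = 0 := by
      rw [entry K, h_three K _ _ 0, hd0d, hd0d, hd0d]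
      simp
      linear_combination hx3 0 + lam * hx3 1 + lam ^ 2 * hx3 2 + hlam3
    by_cases hym : Mon (x⁻¹ * d0 * x)
    · refine hne (top_of_ninth K hq h5 hM h2 hz ?_ hxM hxm hd0d hym fun hs => hlam1 ?_)
      · rw [hlam] at hlam3; linear_combination hlam3
      · have := hs 0 1
        simp at this
        rw [pow_one, ← this]; simp
    · exact hne (top_of_zero K hq h5 hM (M.mul_mem (M.mul_mem (M.inv_mem hxM) (hM d0 hd0)) hxM) hym hy0)

/-- Some element moves the frame to one with scalar diagonal stabiliser. -/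
theorem exists_semiregular (hq : 3 ≤ q) (h5 : q ≠ 5) (hM : ∀ g, Mon g → g ∈ M) (hne : M ≠ ⊤) {g : G} (hg : g ∈ M)
    (hgm : ¬ Mon g) : ∃ g ∈ M, ¬ Mon g ∧ ∀ z d, Dia z d → Mon (g⁻¹ * d * g) → ∀ s t, z s = z t := by
  classical
  by_cases hreg : ∀ z d, Dia z d → Mon (g⁻¹ * d * g) → ∀ s t, z s = z t
  · exact ⟨g, hg, hgm, hreg⟩
  push Not at hreg
  obtain ⟨z₀, d₀, hd₀, hm₀, s₀, t₀, hst⟩ := hreg
  obtain ⟨-, -, -, -, -, hN⟩ := hadamard K hq h5 hM hne hg hgm hd₀ hm₀ fun h => hst (h s₀ t₀)
  obtain ⟨z, hz, hzo, hz6⟩ := exists_gen_six K hq h5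
  obtain ⟨h, hh, hhd⟩ := exists_dia K ![z, z, z⁻¹ * z⁻¹]
    (fun s => by fin_cases s <;> simp <;> first | exact hz | exact hz.inv.mul hz.inv)
    (by have := hz.ne_zero; show z * z * (z⁻¹ * z⁻¹) = 1; field_simp)
  obtain ⟨y, hy⟩ : ∃ y, y = g⁻¹ * h * g := ⟨_, rfl⟩
  have hyM : y ∈ M := hy ▸ M.mul_mem (M.mul_mem (M.inv_mem hg) (hM h hh)) hg
  have hoff : ∀ k l, k ≠ l → app y e[l] k = (z⁻¹ * z⁻¹ - z) * (app g e[l] 2 * K.bar (app g e[k] 2)) := by
    intro k l hkl
    have h0 := h_app g e[l] e[k]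
    rw [h_single K e[l] k, Pi.single_eq_of_ne hkl, h_three K _ _ 0] at h0
    rw [hy, entry K, h_three K _ _ 0, hhd, hhd, hhd]
    simp at h0 ⊢
    linear_combination z * h0
  have hne3 : ∀ k, (app g e[k] 2 * K.bar (app g e[k] 2)) ≠ 0 := fun k e => by
    have := hN k 2; rw [e, mul_zero] at this; exact zero_ne_one this
  have hw0 : z⁻¹ * z⁻¹ - z ≠ 0 := fun e => hz6 (by
    rw [sub_eq_zero] at e
    have hz0 := hz.ne_zero
    have : z ^ 3 = 1 := by field_simp at e; linear_combination -e
    rw [show 6 = 3 * 2 from rfl, pow_mul, this, one_pow])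
  have hfull : ∀ k l, k ≠ l → app y e[l] k ≠ 0 := fun k l hkl => by
    rw [hoff k l hkl]
    refine mul_ne_zero hw0 (mul_ne_zero (fun e => hne3 l (by rw [e, zero_mul])) fun e => hne3 k ?_)
    rw [← K.bar_bar (app g e[k] 2), e, map_zero, zero_mul]
  have hym : ¬ Mon y := fun hm => by
    obtain ⟨r, c, hr⟩ := hm 0
    have h1 := hfull 1 0 (by decide)
    have h2 := hfull 2 0 (by decide)
    rw [hr] at h1 h2
    have r1 : 1 = r := by_contra fun hn => h1 (by simp [hn])
    have r2 : 2 = r := by_contra fun hn => h2 (by simp [hn])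
    exact absurd (r1.trans r2.symm) (by decide)
  refine ⟨y, hyM, hym, ?_⟩
  by_contra hreg'
  push Not at hreg'
  obtain ⟨z₁, d₁, hd₁, hm₁, s₁, t₁, hst₁⟩ := hreg'
  obtain ⟨-, -, -, -, -, hN'⟩ := hadamard K hq h5 hM hne hyM hym hd₁ hm₁ fun h => hst₁ (h s₁ t₁)
  have h3 := hN' 0 1
  rw [hoff 1 0 (by decide), map_mul, map_mul, K.bar_bar, map_sub, map_mul, map_inv₀, hz.bar_eq, inv_inv] at h3
  obtain ⟨A, hA⟩ : ∃ A, A = app g e[0] 2 * K.bar (app g e[0] 2) := ⟨_, rfl⟩
  obtain ⟨B, hB⟩ : ∃ B, B = app g e[1] 2 * K.bar (app g e[1] 2) := ⟨_, rfl⟩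
  have a3 : 3 * A = 1 := hA ▸ hN 0 2
  have b3 : 3 * B = 1 := hB ▸ hN 1 2
  have hz0 := hz.ne_zero
  have h3' : 3 * ((z⁻¹ * z⁻¹ - z) * (z * z - z⁻¹)) * (A * B) = 1 := by rw [hA, hB]; linear_combination h3
  have h4 : (z⁻¹ * z⁻¹ - z) * (z * z - z⁻¹) = 3 := by
    linear_combination 3 * h3' - ((z⁻¹ * z⁻¹ - z) * (z * z - z⁻¹)) * (3 * B * a3 + b3)
  field_simp at h4
  have hlam : z ^ 6 + z ^ 3 + 1 = 0 := by linear_combination -h4
  have hz9 : z ^ 9 = 1 := by linear_combination (z ^ 3 - 1) * hlam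
  have hq8 : q = 8 := by
    have h := orderOf_dvd_of_pow_eq_one hz9
    rw [hzo] at h
    have h' : q + 1 ≤ 9 := Nat.le_of_dvd (by norm_num) h
    have : q ≤ 8 := by omega
    interval_cases q <;> simp_all
  have h2 : (2 : F) = 0 := by
    cases nonempty_fintype F
    have h := Nat.cast_card_eq_zero F
    rw [← Nat.card_eq_fintype_card, K.card, hq8, Nat.cast_pow] at h
    have : (2 : F) ^ 6 = 0 := by push_cast at h; linear_combination h
    exact pow_eq_zero_iff (by norm_num) |>.1 this
  exact hne (top_of_ninth K hq h5 hM h2 hz hlam hg hgm hd₀ hm₀ fun h => hst (h s₀ t₀))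

/-- The monomial subgroup is maximal. -/
theorem top_of_not_mon (hq : 3 ≤ q) (h5 : q ≠ 5) (hM : ∀ g, Mon g → g ∈ M) {g₀ : G} (hg₀ : g₀ ∈ M)
    (hgm₀ : ¬ Mon g₀) : M = ⊤ := by
  classical
  by_contra hne
  obtain ⟨g, hg, hgm, hreg⟩ := exists_semiregular K hq h5 hM hne hg₀ hgm₀
  cases nonempty_fintype F
  let C := Finset.univ.filter fun x : F => Circ K x
  let Z := Finset.univ.filter fun x : F => x * K.bar x = -1
  let C3 := C.image fun u => u ^ 3
  have hCc : C.card = q + 1 := by
    rw [← card_norm_one K, Nat.card_eq_fintype_card, Fintype.card_subtype]; rfl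
  have hC3 : q + 1 ≤ 3 * C3.card := by
    rw [← hCc]
    refine Finset.card_le_mul_card_image C 3 fun r _ => ?_
    refine (Finset.card_le_card (t := (Polynomial.X ^ 3 - Polynomial.C r).roots.toFinset) fun x hx => ?_).trans
      ((Multiset.toFinset_card_le _).trans ((Polynomial.card_roots' _).trans
        (le_of_eq (Polynomial.natDegree_X_pow_sub_C))))
    rw [Multiset.mem_toFinset, Polynomial.mem_roots']
    exact ⟨Polynomial.X_pow_sub_C_ne_zero (by norm_num) _, by simp [(Finset.mem_filter.1 hx).2]⟩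
  have hZc : q + 1 ≤ Z.card := by
    obtain ⟨e, he⟩ := K.exists_norm (-1) (by rw [map_neg, map_one])
    have he0 : e ≠ 0 := fun h => by simp [h] at he
    rw [← hCc]
    refine Finset.card_le_card_of_injOn (fun u => e * u) (fun u hu => ?_) fun u _ v _ h => mul_left_cancel₀ he0 h
    have hu' : u * K.bar u = 1 := (Finset.mem_filter.1 hu).2
    refine Finset.mem_filter.2 ⟨Finset.mem_univ _, ?_⟩
    rw [map_mul]; linear_combination u * K.bar u * he - hu'
  choose root hroot using fun c : C3 => Finset.mem_image.1 c.2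
  have hrc : ∀ c, Circ K (root c) := fun c => (Finset.mem_filter.1 (hroot c).1).2
  have hcC : ∀ r : C, Circ K (r : F) := fun r => (Finset.mem_filter.1 r.2).2
  let zf : C × C3 → Fin 3 → F := fun i => ![root i.2, root i.2 * i.1.1, (root i.2 * root i.2 * i.1.1)⁻¹]
  have hzc : ∀ i s, Circ K (zf i s) := fun i s => by
    fin_cases s <;> simp [zf]
    · exact hrc _
    · exact (hrc _).mul (hcC _)
    · have := (((hrc i.2).mul (hrc i.2)).mul (hcC i.1)).inv
      simpa [mul_comm, mul_left_comm, mul_assoc] using this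
  have hexD : ∀ i, ∃ d : G, Mon d ∧ Dia (zf i) d := fun i => exists_dia K _ (hzc i) (by
    have h0 := (hrc i.2).ne_zero
    have h1 := (hcC i.1).ne_zero
    simp [zf]
    field_simp)
  choose D hDm hDd using hexD
  let dd : Option (C × C3) → G := fun o => o.elim 1 fun i => D i * g
  have hddM : ∀ o, dd o ∈ M := fun o => by
    cases o with
    | none => exact M.one_mem
    | some i => exact M.mul_mem (hM _ (hDm i)) hg
  let S := {v : V // ∑ s, v s * K.bar (v s) = 0}
  let f : Option (C × C3) × Fin 3 × Z × Fˣ → S := fun x =>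
    ⟨(x.2.2.2 : F) • app (dd x.1) (pt x.2.1 x.2.2.1.1), by
      rw [← Unitary.herm_apply K, h_smul_left K, h_smul_right K, h_app, h_pt K]
      obtain ⟨-, p1, p2⟩ := pt_val x.2.1 x.2.2.1.1
      rw [p1, p2, (Finset.mem_filter.1 x.2.2.1.2).2]
      ring⟩
  have hinj : Function.Injective f := by
    rintro ⟨o, b, ⟨ζ, hζ'⟩, μ⟩ ⟨o', b', ⟨ξ, hξ'⟩, ν⟩ hfe
    have hζ := (Finset.mem_filter.1 hζ').2
    have hξ := (Finset.mem_filter.1 hξ').2
    have he : (μ : F) • app (dd o) (pt b ζ) = (ν : F) • app (dd o') (pt b' ξ) := congrArg Subtype.val hfe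
    obtain ⟨m, hm, hmp⟩ := exists_mon_pt K (b := b) (b' := b') hζ hξ
    have hmove : Mon ((dd o')⁻¹ * dd o) := by
      have h1 : app ((dd o')⁻¹ * dd o) (pt b ζ) = ((ν : F) / μ) • pt b' ξ := by
        rw [app_mul, show app (dd o) (pt b ζ) = ((ν : F) / μ) • app (dd o') (pt b' ξ) by
          rw [div_eq_mul_inv, mul_comm, mul_smul, ← he, smul_smul, inv_mul_cancel₀ μ.ne_zero, one_smul],
          app_smul, app_inv]
      have h2 := mon_of_fix K hq h5 hM hne (M.mul_mem (hM m hm) (M.mul_mem (M.inv_mem (hddM o')) (hddM o))) hζ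
        (c := (ν : F) / μ) (by rw [app_mul, h1, app_smul, hmp])
      have := mon_mul (mon_inv K hm) h2
      rwa [inv_mul_cancel_left] at this
    have hoo : o = o' := by
      cases o with
      | none =>
        cases o' with
        | none => rfl
        | some i =>
          exfalso
          have h := mon_mul (mon_inv K (hDm i)) (mon_inv K hmove)
          simp [dd] at h
          exact hgm h
      | some i =>
        cases o' with
        | none =>
          exfalso
          have h := mon_mul (mon_inv K (hDm i)) hmove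
          simp [dd] at h
          exact hgm h
        | some i' =>
          congr 1
          have hdia : Dia (fun s => (zf i' s)⁻¹ * zf i s) ((D i')⁻¹ * D i) := fun y s => by
            have h1 := hDd i' (app ((D i')⁻¹ * D i) y) s
            rw [app_mul, app_inv', hDd i] at h1
            show app ((D i')⁻¹ * D i) y s = _
            rw [app_mul, mul_assoc, h1, inv_mul_cancel_left₀ (hzc i' s).ne_zero]
          have hm' : Mon (g⁻¹ * ((D i')⁻¹ * D i) * g) := by
            have : (dd (some i'))⁻¹ * dd (some i) = g⁻¹ * ((D i')⁻¹ * D i) * g := by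
              simp [dd, mul_assoc]
            rwa [this] at hmove
          have hz := hreg _ _ hdia hm'
          have e01 := hz 1 0
          have e02 := hz 2 0
          obtain ⟨r, c⟩ := i
          obtain ⟨r', c'⟩ := i'
          have u0 := (hrc c).ne_zero
          have u0' := (hrc c').ne_zero
          have r0 := (hcC r).ne_zero
          have r0' := (hcC r').ne_zero
          simp [zf] at e01 e02
          field_simp at e01 e02
          have hr : r = r' := Subtype.ext (by
            first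
              | exact e01
              | exact e01.symm
              | linear_combination e01
              | linear_combination -e01)
          subst hr
          refine Prod.ext rfl (Subtype.ext ?_)
          rw [← (hroot c).2, ← (hroot c').2]
          apply mul_left_cancel₀ r0
          first
            | linear_combination e02
            | linear_combination -e02
    subst hoo
    have he' : (μ : F) • pt b ζ = (ν : F) • pt b' ξ := by
      apply app_injective (dd o)
      rwa [app_smul, app_smul]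
    obtain ⟨p0, p1, p2⟩ := pt_val b ζ
    obtain ⟨q0, q1, q2⟩ := pt_val b' ξ
    have hbb : b = b' := by
      by_contra hbb
      have h := congrFun he' b
      simp [p0] at h
      rcases fin_cases_three b' b with e | e | e
      · exact hbb e
      · rw [e, q1] at h; simp at h
      · rw [e, q2] at h; rw [h, zero_mul] at hξ; simp at hξ
    subst hbb
    have h1 := congrFun he' (b + 1)
    have h2 := congrFun he' (b + 2)
    simp [p1, q1] at h1
    simp [p2, q2, h1] at h2
    obtain rfl : μ = ν := Units.ext h1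
    subst h2
    rfl
  let g' : Option (Option (C × C3) × Fin 3 × Z × Fˣ) → S := fun o => o.elim ⟨0, by simp⟩ f
  have hg'inj : Function.Injective g' := by
    intro x y hxy
    have hne0 : ∀ x, f x ≠ (⟨0, by simp⟩ : S) := fun ⟨o, b, ζ, μ⟩ e => by
      have h : (μ : F) • app (dd o) (pt b ζ.1) = 0 := congrArg Subtype.val e
      rw [smul_eq_zero] at h
      have h1 := app_injective (dd o) ((h.resolve_left μ.ne_zero).trans (mulVec_zero _).symm)
      simpa [h1] using (pt_val b ζ.1).2.1
    cases x <;> cases y <;> simp only [g', Option.elim] at hxy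
    · rfl
    · exact absurd hxy.symm (hne0 _)
    · exact absurd hxy (hne0 _)
    · rw [hinj hxy]
  have hle := Nat.card_le_card_of_injective g' hg'inj
  have hS : Nat.card S = (q ^ 3 + 1) * (q ^ 2 - 1) + 1 := by
    show count K 3 0 = _
    rw [count_zero_nat K, if_neg (by decide)]
  rw [hS, Finite.card_option, Nat.card_prod, Nat.card_prod, Nat.card_prod, Finite.card_option, Nat.card_prod,
    Nat.card_fin, Nat.card_eq_finsetCard, Nat.card_eq_finsetCard, Nat.card_eq_finsetCard, Nat.card_units, K.card,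
    hCc] at hle
  have hq2 : 0 < q ^ 2 - 1 := by
    have : 3 ^ 2 ≤ q ^ 2 := Nat.pow_le_pow_left hq 2
    omega
  have hle2 : ((q + 1) * C3.card + 1) * 3 * Z.card * (q ^ 2 - 1) ≤ (q ^ 3 + 1) * (q ^ 2 - 1) := by
    have e : ((q + 1) * C3.card + 1) * (3 * (Z.card * (q ^ 2 - 1))) =
        ((q + 1) * C3.card + 1) * 3 * Z.card * (q ^ 2 - 1) := by ring
    omega
  have hle3 := Nat.le_of_mul_le_mul_right hle2 hq2
  have : ((q + 1) * (q + 1) + 3) * (q + 1) ≤ q ^ 3 + 1 := by
    refine le_trans ?_ hle3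
    refine Nat.mul_le_mul ?_ hZc
    nlinarith [Nat.mul_le_mul_left (q + 1) hC3]
  nlinarith

end CfsgLib.Classical.ThreeMax.MonSU
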