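import Cfsg.Agent.Lib.Classical.ThreeMax.MonSU
import Cfsg.Agent.Lib.Classical.UnitaryDecompMax.Apply

set_option autoImplicit false
set_option linter.unusedSectionVars false

/-!
The stabiliser of an orthonormal decomposition is maximal in `SU₃(q)`, `q ≥ 3`, `q ≠ 5`.
-/

namespace CfsgLib.Classical.ThreeMax.MonSU

open Matrix Cfsg CfsgLib.Classical.Herm CfsgLib.Classical.HermDecompMax
open CfsgLib.ClassicalAut (Unitary.Conj Unitary.space Unitary.herm_apply)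

variable {F : Type*} [Field F] [Finite F] {q : ℕ} (K : Unitary.Conj F q)

local notation "H" => hermForm 3 F q
local notation "V" => (Fin 3 → F)
local notation "G" => SU 3 F q
local notation "e[" s "]" => (Pi.single s 1 : Fin 3 → F)

include K

theorem exists_not_mon (hq : 3 ≤ q) : ∃ g : G, ¬ Mon g := by
  obtain ⟨⟨s, hsf, hs0⟩, hs1⟩ : ∃ s : {c : F // K.bar c = c ∧ c ≠ 0}, s ≠ ⟨1, map_one _, one_ne_zero⟩ := by
    have : Nontrivial {c : F // K.bar c = c ∧ c ≠ 0} :=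
      (Finite.one_lt_card_iff_nontrivial).1 (by rw [card_fixed K]; omega)
    exact exists_ne _
  obtain ⟨ζ, hζ⟩ := K.exists_norm (-1) (by rw [map_neg, map_one])
  obtain ⟨θ, hθ0, hθ⟩ := exists_skew K
  have hζ0 : ζ ≠ 0 := fun e => by simp [e] at hζ
  obtain ⟨c, hc0, hc1, hc⟩ : ∃ c : F, c ≠ 0 ∧ 1 + c ≠ 0 ∧ c + K.bar c = 0 := by
    by_cases h : 1 + θ = 0
    · refine ⟨s * θ, mul_ne_zero hs0 hθ0, fun e => hs1 (Subtype.ext ?_), ?_⟩
      · show s = 1
        linear_combination -e + s * h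
      · rw [map_mul, hsf]; linear_combination s * hθ
    · exact ⟨θ, hθ0, h, hθ⟩
  have hv : H (pt 0 ζ) (pt 0 ζ) = 0 := by
    obtain ⟨-, p1, p2⟩ := pt_val (0 : Fin 3) ζ
    rw [h_pt K, p1, p2]; linear_combination hζ
  obtain ⟨T, hT⟩ := exists_T K hv hc
  refine ⟨T, fun hm => ?_⟩
  obtain ⟨r, l, hr⟩ := hm 1
  obtain ⟨-, p1, p2⟩ := pt_val (0 : Fin 3) ζ
  have e1 : H e[1] (pt 0 ζ) = 1 := by rw [h_pt K]; simp
  rw [hT.2.2, e1, mul_one] at hr
  have a1 := congrFun hr 1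
  have a2 := congrFun hr 2
  simp only [Pi.add_apply, Pi.smul_apply, smul_eq_mul, show pt (0 : Fin 3) ζ 1 = 1 from p1,
    show pt (0 : Fin 3) ζ 2 = ζ from p2] at a1 a2
  rcases eq_or_ne r 2 with rfl | h2
  · simp at a1
    exact hc1 a1
  · rw [Pi.single_eq_of_ne h2.symm, mul_zero, Pi.single_eq_of_ne (by decide), zero_add] at a2
    exact mul_ne_zero hc0 hζ0 a2

theorem isMaximalIn_decomposition (hq : 3 ≤ q) (h5 : q ≠ 5) {D : Fin 3 → Submodule F V}
    (hD : Cfsg.Geo.IsNondegenerateMDecomposition H 1 D) :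
    Cfsg.Geo.IsMaximalIn (GU 3 F q ⊓ Cfsg.Geo.specialLinear (Fin 3) F)
      (Cfsg.Geo.decompositionStabilizer D ⊓ (GU 3 F q ⊓ Cfsg.Geo.specialLinear (Fin 3) F)) := by
  obtain ⟨e, B, hB, hmap⟩ := exists_frame K hD
  have hstd : Cfsg.Geo.IsMaximalIn (GU 3 F q ⊓ Cfsg.Geo.specialLinear (Fin 3) F)
      (Cfsg.Geo.decompositionStabilizer (bsub e F) ⊓ (GU 3 F q ⊓ Cfsg.Geo.specialLinear (Fin 3) F)) := by
    refine ⟨lt_of_le_not_ge inf_le_right fun hle => ?_, fun M hM hM' => ?_⟩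
    · obtain ⟨g, hg⟩ := exists_not_mon K hq
      exact hg ((mon_iff_bstab K e g).1 ((bstab_iff K one_pos e g).2 (hle ((mem_range_iff _).2 ⟨g, rfl⟩)).1))
    have hS : ∀ g : G, Mon g → g ∈ M.comap toGLHom := fun g hg =>
      hM ⟨(bstab_iff K one_pos e g).1 ((mon_iff_bstab K e g).2 hg), (mem_range_iff _).2 ⟨g, rfl⟩⟩
    by_cases hall : ∀ g : G, g ∈ M.comap toGLHom → Mon g
    · refine Or.inl (le_antisymm (fun g hg => ?_) hM)
      obtain ⟨s, rfl⟩ := (mem_range_iff g).1 (hM' hg)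
      exact ⟨(bstab_iff K one_pos e s).1 ((mon_iff_bstab K e s).2 (hall s hg)), (mem_range_iff _).2 ⟨s, rfl⟩⟩
    · push Not at hall
      obtain ⟨g₀, hg₀, hgm⟩ := hall
      have htop := top_of_not_mon K hq h5 hS hg₀ hgm
      refine Or.inr (le_antisymm hM' fun g hg => ?_)
      obtain ⟨s, rfl⟩ := (mem_range_iff g).1 hg
      have : s ∈ M.comap toGLHom := htop ▸ Subgroup.mem_top s
      exact this
  have hBinv : ∀ i, (D i).map (Matrix.toLin' ((B⁻¹ : GL (Fin 3) F) : Matrix (Fin 3) (Fin 3) F)) =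
      bsub e F i := fun i => by
    rw [← hmap i, ← Submodule.map_comp, ← Matrix.toLin'_mul, ← Units.val_mul, inv_mul_cancel, Units.val_one,
      Matrix.toLin'_one, Submodule.map_id]
  have hL : ∀ g ∈ GU 3 F q ⊓ Cfsg.Geo.specialLinear (Fin 3) F, ∀ c ∈ GU 3 F q,
      c * g * c⁻¹ ∈ GU 3 F q ⊓ Cfsg.Geo.specialLinear (Fin 3) F := fun g hg c hc =>
    ⟨(GU 3 F q).mul_mem ((GU 3 F q).mul_mem hc hg.1) ((GU 3 F q).inv_mem hc),
      (MonoidHom.normal_ker _).conj_mem g hg.2 c⟩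
  have h := isMaximalIn_map (MulAut.conj B) hstd
  have hK : (GU 3 F q ⊓ Cfsg.Geo.specialLinear (Fin 3) F).map (MulAut.conj B).toMonoidHom =
      GU 3 F q ⊓ Cfsg.Geo.specialLinear (Fin 3) F := by
    refine le_antisymm (Subgroup.map_le_iff_le_comap.2 fun g hg => hL g hg B hB) fun g hg => ?_
    exact ⟨B⁻¹ * g * B⁻¹⁻¹, hL g hg B⁻¹ (inv_mem hB), by simp [mul_assoc]⟩
  have hS : (Cfsg.Geo.decompositionStabilizer (bsub e F)).map (MulAut.conj B).toMonoidHom =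
      Cfsg.Geo.decompositionStabilizer D := by
    refine le_antisymm (Subgroup.map_le_iff_le_comap.2 fun g hg => mem_decompStab_conj hmap hg) fun g hg => ?_
    exact ⟨B⁻¹ * g * B⁻¹⁻¹, mem_decompStab_conj hBinv hg, by simp [mul_assoc]⟩
  rwa [Subgroup.map_inf (Cfsg.Geo.decompositionStabilizer (bsub e F))
    (GU 3 F q ⊓ Cfsg.Geo.specialLinear (Fin 3) F) _ (MulAut.conj B).injective, hK, hS] at h

end CfsgLib.Classical.ThreeMax.MonSU
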