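import Cfsg.Agent.Lib.Classical.SUFour.MonEngine

set_option autoImplicit false
set_option linter.unusedSectionVars false

/-!
Variants of the monomial tools for dimension three.
-/

namespace CfsgLib.Classical.ThreeMax.MonSU

open Matrix Cfsg CfsgLib.Classical.Herm CfsgLib.Classical.HermDecompMax
open CfsgLib.Classical.HermFour (centre_of_T sub_one_induction)
open CfsgLib.ClassicalAut (Unitary.Conj Unitary.space Unitary.herm_apply)

variable {F : Type*} [Field F] [Finite F] {q : ℕ} (K : Unitary.Conj F q) {n : ℕ}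

local notation "H" => hermForm n F q
local notation "V" => (Fin n → F)
local notation "G" => SU n F q
local notation "e[" s "]" => (Pi.single s 1 : Fin n → F)

variable {M : Subgroup (SU n F q)}

include K

/-- All isotropic vectors, `q ≥ 3`. -/
theorem top_of_two_term_three (hq : 3 ≤ q) (hn : n = 3) (hM : ∀ g, Mon g → g ∈ M) {w : V}
    (hw : w ∈ centres K M) (hw2 : (supp w).card = 2) : M = ⊤ := by
  classical
  suffices hall : ∀ v, H v v = 0 → v ∈ centres K M by
    rw [eq_top_iff, ← gen_top K (n := n) (by omega) (fun h => by omega)]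
    exact gen_le K fun v _ hv => hall v hv
  intro v hv
  suffices key : ∀ p, ∀ v : V, H v v = 0 → (supp v).card = p → v ∈ centres K M from key _ v hv rfl
  intro p
  induction p using Nat.strong_induction_on with
  | _ p ih =>
  have two : ∀ u : V, H u u = 0 → (supp u).card ≤ 2 → u ∈ centres K M :=
    fun u hu hu2 => two_term_centres K (by omega) hM hw hw2 hu hu2
  have pair : ∀ (u : V) i l, H u u = 0 → (supp u).card ≤ p → i ≠ l → u i ≠ 0 → u l ≠ 0 →
      u i * K.bar (u i) + u l * K.bar (u l) ≠ 0 → u ∈ centres K M := by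
    intro u i l hu hup hil hi hl hs
    obtain ⟨c, hc⟩ := K.exists_norm (u i * K.bar (u i) + u l * K.bar (u l))
      (by rw [map_add, bar_norm K, bar_norm K])
    have hc0 : c ≠ 0 := fun e => hs (by rw [← hc, e, zero_mul])
    have hab : u i / c * K.bar (u i / c) + u l / c * K.bar (u l / c) = 1 := by
      rw [map_div₀, map_div₀, div_mul_div_comm, div_mul_div_comm, ← add_div, hc, div_self hs]
    set U := Submodule.span F ({e[i], e[l]} : Set V)
    obtain ⟨g, hg, hgi, -, hgf⟩ := exists_plane_move K (W := U) (u := e[i]) (w := e[l])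
      (Submodule.subset_span (by simp)) (Submodule.subset_span (by simp)) (h_self_single K i)
      (h_self_single K l) (by rw [h_single K]; simp [hil.symm]) hab
    have hgM : g ∈ M := gen_le K (fun x hx hxx => two x hxx (by
      refine (Finset.card_le_card (t := {i, l}) fun s hs => ?_).trans Finset.card_le_two
      by_contra hsc
      simp only [Finset.mem_insert, Finset.mem_singleton, not_or] at hsc
      obtain ⟨α, β, rfl⟩ := Submodule.mem_span_pair.1 hx
      rw [mem_supp] at hs
      simp [hsc.1, hsc.2] at hs)) hg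
    set r : V := Function.update (Function.update u i 0) l 0
    have hr : ∀ x : Fin n, (x = i ∨ x = l) → r x = 0 := by
      rintro x (rfl | rfl) <;> simp [r, hil]
    have hrf : app g r = r := hgf r (by rw [h_single K, hr i (Or.inl rfl)])
      (by rw [h_single K, hr l (Or.inr rfl)])
    have hgu : app g (c • e[i] + r) = u := by
      rw [app_add, app_smul, hgi, hrf]
      funext s
      rcases eq_or_ne s i with rfl | hsi
      · simp [r, hil, mul_div_cancel₀ _ hc0]
      rcases eq_or_ne s l with rfl | hsl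
      · simp [r, hsi, mul_div_cancel₀ _ hc0]
      · simp [r, hsi, hsl]
    have h0 : H (c • e[i] + r) (c • e[i] + r) = 0 := by
      rw [← h_app g, hgu]; exact hu
    have hsupp : supp (c • e[i] + r) ⊆ (supp u).erase l := fun s hs => by
      rw [mem_supp] at hs
      rw [Finset.mem_erase, mem_supp]
      refine ⟨fun e => hs (by subst e; simp [r, hil.symm]), fun e => hs ?_⟩
      have hsi : s ≠ i := fun e' => hi (e' ▸ e)
      rcases eq_or_ne s l with rfl | hsl
      · simp [r, hsi]
      · simp [r, hsi, hsl, e]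
    have hlt : (supp (c • e[i] + r)).card < p := by
      have := Finset.card_le_card hsupp
      rw [Finset.card_erase_of_mem (mem_supp.2 hl)] at this
      have : 0 < (supp u).card := Finset.card_pos.2 ⟨l, mem_supp.2 hl⟩
      omega
    exact hgu ▸ app_mem_centres K hgM (ih _ hlt _ h0 rfl)
  intro v hv hvp
  by_cases hp : p ≤ 2
  · exact two v hv (by omega)
  obtain ⟨i, l, s, hi, hl, hs, hil, his, hls⟩ := Finset.two_lt_card_iff.1 (show 2 < (supp v).card by omega)
  rw [mem_supp] at hi hl hs
  by_cases e1 : v i * K.bar (v i) + v l * K.bar (v l) = 0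
  swap
  · exact pair v i l hv hvp.le hil hi hl e1
  by_cases e2 : v i * K.bar (v i) + v s * K.bar (v s) = 0
  swap
  · exact pair v i s hv hvp.le his hi hs e2
  by_cases e3 : v l * K.bar (v l) + v s * K.bar (v s) = 0
  swap
  · exact pair v l s hv hvp.le hls hl hs e3
  have h2 : (2 : F) = 0 := by
    by_contra h2
    exact mul_ne_zero h2 (norm_ne_zero K hi) (by linear_combination e1 + e2 - e3)
  obtain ⟨ν, hν, hν1⟩ := exists_circ_ne_one K
  set w' : V := v i • e[i] + (ν * v l) • e[l]
  have hν' : ν * K.bar ν = 1 := hν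
  have hw'0 : H w' w' = 0 := by
    simp only [w', h_add_left K, h_add_right K, h_smul_left K, h_smul_right K, h_single_single K,
      if_pos, hil, hil.symm, if_false, map_mul]
    linear_combination e1 + (v l * K.bar (v l)) * hν'
  have hw'c : w' ∈ centres K M := two w' hw'0 (by
    refine (Finset.card_le_card (t := {i, l}) fun x hx => ?_).trans Finset.card_le_two
    by_contra hxc
    simp only [Finset.mem_insert, Finset.mem_singleton, not_or] at hxc
    rw [mem_supp] at hx
    simp [w', hxc.1, hxc.2] at hx)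
  set N := v i * K.bar (v i) with hN
  have hNl : v l * K.bar (v l) = N := by linear_combination e1 - N * h2
  have hNs : v s * K.bar (v s) = N := by linear_combination e2 - N * h2
  have hh : H v w' = N * (1 + K.bar ν) := by
    simp only [w', h_add_right K, h_smul_right K, h_single K, map_mul]
    linear_combination K.bar ν * hNl
  have hh0 : H v w' ≠ 0 := by
    rw [hh]
    refine mul_ne_zero (norm_ne_zero K hi) fun e => hν1 ?_
    have : K.bar ν = 1 := by linear_combination e - h2
    rw [← K.bar_bar ν, this, map_one]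
  set h := H v w' with hhdef
  obtain ⟨c₁, c₂, hc₁, hc₂, hc₁0, hc₂0, hcc⟩ := exists_two_skew K hq
  obtain ⟨c, hc, hc0, hne⟩ : ∃ c : F, c + K.bar c = 0 ∧ c ≠ 0 ∧
      c * (h + K.bar h) + c * c * (h * K.bar h) ≠ 0 := by
    by_contra hc'
    push Not at hc'
    have f1 := hc' c₁ hc₁ hc₁0
    have f2 := hc' c₂ hc₂ hc₂0
    have f3 : c₁ * c₂ * (c₁ - c₂) * (h * K.bar h) = 0 := by linear_combination c₂ * f1 - c₁ * f2
    exact mul_ne_zero (mul_ne_zero (mul_ne_zero hc₁0 hc₂0) (sub_ne_zero.2 hcc)) (norm_ne_zero K hh0) f3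
  obtain ⟨t, ht⟩ := exists_T K hw'0 hc
  set v' := app t v with hv'
  suffices v' ∈ centres K M by
    have := app_mem_centres K (M.inv_mem (hw'c.2 t c ht)) this
    rwa [hv', app_inv] at this
  have hv'e : v' = v + (c * h) • w' := ht.2.2 v
  have hv'0 : H v' v' = 0 := by rw [hv', h_app]; exact hv
  have hsub : supp v' ⊆ supp v := fun x hx => by
    rw [mem_supp] at hx ⊢
    intro e
    have hxi : x ≠ i := fun e' => hi (e' ▸ e)
    have hxl : x ≠ l := fun e' => hl (e' ▸ e)
    exact hx (by simp [hv'e, w', e, hxi, hxl])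
  have hv's : v' s = v s := by simp [hv'e, w', his.symm, hls.symm]
  by_cases hv'i : v' i = 0
  · refine ih _ ?_ v' hv'0 rfl
    rw [← hvp]
    exact Finset.card_lt_card ⟨hsub, fun hle => mem_supp.1 (hle (mem_supp.2 hi)) hv'i⟩
  refine pair v' i s hv'0 ((Finset.card_le_card hsub).trans hvp.le) his hv'i (hv's ▸ hs) fun e => ?_
  have hv'i' : v' i = v i * (1 + c * h) := by simp [hv'e, w', hil]; ring
  have hcb : K.bar c = c := by linear_combination hc - c * h2
  rw [hv'i', hv's, map_mul, map_add, map_mul, map_one, hcb, hNs] at e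
  have : N * (c * (h + K.bar h) + c * c * (h * K.bar h)) = 0 := by
    linear_combination e - N * h2 - (1 + c * h) * (1 + c * K.bar h) * hN + (N * 0) * h2
  exact mul_ne_zero (norm_ne_zero K hi) hne this

/-- The centre and the transvection in the plane of `u` and a coordinate vector. -/
theorem exists_plane_T_phases {u : V} (hu : H u u = 1) {b j : Fin n} (hb : u b = 0) (hjb : j ≠ b)
    (hj : u j ≠ 0) (hN1 : u j * K.bar (u j) ≠ 1) (hM : ∀ g, Mon g → g ∈ M)
    (hrel : ∀ μ : F, Circ K μ → Rel q M μ u e[b]) :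
    ∃ (t : G) (k : V) (c : F) (a : F), t ∈ M ∧ IsT K t k c ∧ c ≠ 0 ∧ a ≠ 0 ∧ k j ≠ 0 ∧ k b = 0 ∧
      (∀ s, s ≠ j → k s = a * u s) ∧ c = -(k j)⁻¹ ∧ ∃ A B : F, Circ K A ∧ Circ K B ∧
        k j = (A - 1) * (u j * K.bar (u j)) + (B - 1) * (1 - u j * K.bar (u j)) := by
  classical
  set N := u j * K.bar (u j) with hNdef
  have hM0 : 1 - N ≠ 0 := sub_ne_zero.2 (Ne.symm hN1)
  have hNb : K.bar N = N := bar_norm K _
  obtain ⟨A, B, hA, hB, hA1, hB1, hT0, hT⟩ := exists_phase_pair K (n₁ := N) (n₂ := 1 - N) hNb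
    (by rw [map_sub, map_one, hNb]) (norm_ne_zero K hj) hM0 (Or.inl (by simp))
  have hA0 := hA.ne_zero
  have hB0 := hB.ne_zero
  have S : N * B * (A - 1) ^ 2 + (1 - N) * A * (B - 1) ^ 2 = 0 := by
    simp only [map_add, map_mul, map_sub, map_one, hNb, hA.bar_eq, hB.bar_eq] at hT
    field_simp at hT
    linear_combination hT
  set T₀ := (A - 1) * N + (B - 1) * (1 - N) with hT₀
  have hAB : A ≠ B := fun e => by
    subst e
    exact hA1 (sub_eq_zero.1 (pow_eq_zero_iff two_ne_zero |>.1
      ((mul_eq_zero.1 (show A * (A - 1) ^ 2 = 0 by linear_combination S)).resolve_left hA0)))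
  set r := u - u j • e[j] with hr
  let π : V → V := fun v => v j • e[j] + ((H v u - v j * K.bar (u j)) / (1 - N)) • r
  set k := (B - 1) • e[j] + ((A - B) * K.bar (u j)) • u with hk
  set c := -T₀⁻¹ with hc
  set κ := (A / B)⁻¹ * (A * B)⁻¹ with hκ
  have hkj : k j = T₀ := by simp [hk, hT₀, hNdef]; ring
  have hkb : k b = 0 := by simp [hk, hb, Ne.symm hjb]
  have hHk : ∀ v, H v k = (B⁻¹ - 1) * v j + (A⁻¹ - B⁻¹) * u j * H v u := fun v => by
    rw [hk, h_add_right K, h_smul_right K, h_smul_right K, h_single K, map_sub, map_one, map_mul,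
      map_sub, K.bar_bar, hA.bar_eq, hB.bar_eq]
  have hujj : H e[j] u = K.bar (u j) := h_single_left K u j
  have hbu : H e[b] u = 0 := by rw [h_single_left K, hb, map_zero]
  have hku : H k u = (A - 1) * K.bar (u j) := by
    rw [hk, h_add_left K, h_smul_left K, h_smul_left K, hujj, hu]; ring
  have hkk : H k k = 0 := by
    rw [hHk, hkj, hku, hT₀]
    field_simp
    linear_combination -S - (A - B) * (A - 1) * hNdef * 0
  have hπk : π k = k := by
    simp only [π, hkj, hku]
    rw [hr, hk]
    match_scalars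
    · field_simp
      rw [hT₀, hNdef]; ring
    · field_simp
      rw [hT₀, hNdef]; ring
  have hπH : ∀ v, H (π v) k = H v k := fun v => by
    simp only [π, hr, h_add_left K, h_smul_left K, h_sub_left K, hHk, hu, hujj, Pi.single_eq_same, hb]
    field_simp
    rw [hNdef]; ring
  have hπb : ∀ v, π v b = 0 := fun v => by simp [π, hr, hb, Ne.symm hjb]
  have hπadd : ∀ v w : V, π (v + w) = π v + π w := fun v w => by
    simp only [π, h_add_left K, Pi.add_apply]
    module
  have hπsmul : ∀ (a : F) (v : V), π (a • v) = a • π v := fun a v => by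
    simp only [π, h_smul_left K, Pi.smul_apply, smul_eq_mul]
    module
  have hππ : ∀ v, π (π v) = π v := fun v => by
    simp only [π, hr, h_add_left K, h_smul_left K, h_sub_left K, hu, hujj, Pi.add_apply, Pi.smul_apply,
      Pi.sub_apply, Pi.single_eq_same, smul_eq_mul]
    match_scalars <;> (field_simp; rw [hNdef]; ring)
  have hπeb : π e[b] = 0 := by simp [π, hbu, hjb]
  obtain ⟨g₁, hg₁, e₁⟩ := hrel (A / B) (by rw [div_eq_mul_inv]; exact hA.mul hB.inv)
  obtain ⟨g₂, hg₂, e₂⟩ := rel_single K (hA.mul hB) hM j b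
  have hx : ∀ v, app (g₁ * g₂) v =
      v + (A - 1) • π v + ((κ - 1) * v b) • e[b] + (A * c * H v k) • k := by
    intro v
    rw [app_mul, e₁, e₂]
    simp only [rho, π, hr, h_add_left K, h_smul_left K, h_single K, hujj, hbu, hHk,
      Pi.add_apply, Pi.smul_apply, smul_eq_mul, Pi.single_eq_same, Pi.single_eq_of_ne hjb,
      Pi.single_eq_of_ne (Ne.symm hjb), mul_zero, add_zero, hκ, hc]
    rw [hk]
    match_scalars <;> field_simp
    · ring
    · rw [hT₀, hNdef]
      rw [hNdef] at S
      linear_combination (H v u * u j - v j * (1 - (1 - u j * K.bar (u j)) * B)) * S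
    · rw [hT₀, hNdef]
      rw [hNdef] at S
      linear_combination (-(H v u) + v j * K.bar (u j) * (1 + (A - B) * (1 - u j * K.bar (u j)))) * S
  have hpow : ∀ m : ℕ, ∀ v, app ((g₁ * g₂) ^ m) v =
      v + (A ^ m - 1) • π v + ((κ ^ m - 1) * v b) • e[b] + ((m : F) * A ^ m * c * H v k) • k := by
    intro m
    induction m with
    | zero => intro v; simp [app_one]
    | succ m ih =>
      intro v
      have hw : π (app (g₁ * g₂) v) = A • π v + (A * c * H v k) • k := by
        rw [hx, hπadd, hπadd, hπadd, hπsmul, hπsmul, hπsmul, hππ, hπeb, hπk]; module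
      have hwb : app (g₁ * g₂) v b = κ * v b := by
        rw [hx]; simp [hπb, hkb]; ring
      have hwk : H (app (g₁ * g₂) v) k = A * H v k := by
        rw [hx, h_add_left K, h_add_left K, h_add_left K, h_smul_left K, h_smul_left K, h_smul_left K,
          hπH, hkk, h_single_left K, hkb, map_zero]; ring
      rw [pow_succ, app_mul, ih, hw, hwb, hwk, hx v]
      push_cast
      match_scalars <;> ring
  have hc1 : ∀ z : F, Circ K z → z ^ (q + 1) = 1 := fun z hz => by
    have h := hz
    rw [Circ, K.bar_apply, ← pow_succ'] at h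
    exact h
  have hq1 : ((q + 1 : ℕ) : F) = 1 := by
    cases nonempty_fintype F
    have h := Nat.cast_card_eq_zero F
    rw [← Nat.card_eq_fintype_card, K.card, Nat.cast_pow] at h
    rw [Nat.cast_add, Nat.cast_one, pow_eq_zero_iff two_ne_zero |>.1 h, zero_add]
  have hκc : Circ K κ := by
    rw [hκ, div_eq_mul_inv]; exact (hA.mul hB.inv).inv.mul (hA.mul hB).inv
  refine ⟨(g₁ * g₂) ^ (q + 1), k, c, (A - B) * K.bar (u j), M.pow_mem (M.mul_mem hg₁ hg₂) _,
    ⟨hkk, ?_, fun v => ?_⟩, neg_ne_zero.2 (inv_ne_zero hT0),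
    mul_ne_zero (sub_ne_zero.2 hAB) ((map_ne_zero K.bar).2 hj), hkj ▸ hT0, hkb, fun s hs => ?_, by rw [hkj],
    A, B, hA, hB, by rw [hkj, hT₀]⟩
  · rw [hc, map_neg, map_inv₀, show K.bar T₀ = -T₀ by linear_combination hT, inv_neg]; ring
  · rw [hpow, hc1 A hA, hc1 κ hκc, hq1]; simp
  · simp [hk, hs]

end CfsgLib.Classical.ThreeMax.MonSU
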