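import Cfsg.Agent.Lib.Classical.ThreeMax.Flag
import Cfsg.Agent.Lib.Classical.ThreeMax.Glue
import Cfsg.Agent.Lib.Classical.OrthOmega

/-!
The similarity group of a quadratic form of dimension three is maximal in `SL₃`, odd characteristic: without
transvections the orbit of a singular point is too small.
-/

set_option autoImplicit false
set_option linter.unusedSectionVars false

namespace CfsgLib.Classical.ThreeMax.OrthSL

open Matrix
open scoped MatrixGroups commutatorElement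

variable {F : Type*} [Field F] [Finite F]

local notation "S" => SpecialLinearGroup (Fin 3) F
local notation "m[" g "]" => (((g : SpecialLinearGroup (Fin 3) F) : Matrix (Fin 3) (Fin 3) F))

/-- The standard form. -/
def q0 (x : Fin 3 → F) : F := x 1 ^ 2 - 2 * (x 0 * x 2)

/-- Similarities of the standard form. -/
def Sim (g : S) : Prop := ∃ c : F, c ≠ 0 ∧ ∀ v, q0 (m[g] *ᵥ v) = c * q0 v

/-- The unipotent group of the first point. -/
def U (t : F) : S := u t t (t ^ 2 / 2)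

theorem mv_mul (a b : S) (v : Fin 3 → F) : m[a * b] *ᵥ v = m[a] *ᵥ (m[b] *ᵥ v) :=
  (Matrix.mulVec_mulVec v _ _).symm

variable (h2 : (2 : F) ≠ 0)
include h2

theorem U_mul (s t : F) : (U s : S) * U t = U (s + t) := by
  rw [U, U, U, u_mul]
  congr 1
  field_simp
  ring

theorem sim_U (t : F) : Sim (U t : S) := by
  refine ⟨1, one_ne_zero, fun v => ?_⟩
  simp [U, q0, Matrix.mulVec, dotProduct, Fin.sum_univ_three]
  field_simp
  ring

theorem sim_w : Sim (w : S) := by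
  refine ⟨1, one_ne_zero, fun v => ?_⟩
  simp [q0, Matrix.mulVec, dotProduct, Fin.sum_univ_three]
  left; ring

/-- A torus element. -/
def dg (a b c : F) (h : a * b * c = 1) : S :=
  ⟨Matrix.diagonal ![a, b, c], by simpa [Matrix.det_diagonal, Fin.prod_univ_three] using h⟩

omit h2 in
theorem dg_coe (a b c : F) (h : a * b * c = 1) :
    m[dg a b c h] = Matrix.diagonal ![a, b, c] := rfl

omit h2 in
theorem sim_dg {a b c : F} (h : a * b * c = 1) (hb : b * b = a * c) : Sim (dg a b c h) := by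
  refine ⟨b * b, fun e => ?_, fun v => ?_⟩
  · rw [mul_self_eq_zero] at e
    simp [e] at h
  · simp [dg_coe, q0, Matrix.mulVec_diagonal]
    linear_combination 2 * v 0 * v 2 * hb

variable {M : Subgroup (SpecialLinearGroup (Fin 3) F)} (hM : ∀ g : SpecialLinearGroup (Fin 3) F, Sim g → g ∈ M)
include hM

theorem U_mem (t : F) : (U t : S) ∈ M := hM _ (sim_U h2 t)

theorem z_eq_zero (hne : M ≠ ⊤) {c : F} (hc : u 0 0 c ∈ M) : c = 0 := by
  by_contra hc0
  let X : AddSubgroup F :=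
    { carrier := {x | u 0 0 x ∈ M}
      zero_mem' := show u 0 0 (0 : F) ∈ M from u_zero (F := F) ▸ M.one_mem
      add_mem' := fun {x y} (hx : u 0 0 x ∈ M) (hy : u 0 0 y ∈ M) =>
        show u 0 0 (x + y) ∈ M by simpa [u_mul] using M.mul_mem hx hy
      neg_mem' := fun {x} (hx : u 0 0 x ∈ M) => show u 0 0 (-x) ∈ M by simpa [u_inv] using M.inv_mem hx }
  have sq : ∀ l : F, c * l ^ 2 ∈ X := by
    intro l
    rcases eq_or_ne l 0 with rfl | hl
    · simpa using X.zero_mem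
    have hd : l * 1 * l⁻¹ = 1 := by rw [mul_one, mul_inv_cancel₀ hl]
    have hT : Tri (dg l 1 l⁻¹ hd : S) := by simp [Tri, dg_coe]
    have hdM : (dg l 1 l⁻¹ hd : S) ∈ M := hM _ (sim_dg hd (by rw [mul_inv_cancel₀ hl, one_mul]))
    have := M.mul_mem (M.mul_mem hdM hc) (M.inv_mem hdM)
    rw [conj_z ⟨hT.1, hT.2.1⟩, (hT.inv_diag).2.2] at this
    have e21 : m[(dg l 1 l⁻¹ hd : S)⁻¹] 2 1 = 0 := hT.inv.2.2
    rw [e21] at this
    show u 0 0 (c * l ^ 2) ∈ M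
    convert this using 1
    simp [dg_coe]
    ring_nf
  refine hne (top_of_z (fun x => ?_) (hM _ (sim_w h2)) one_ne_zero one_ne_zero (U_mem h2 hM 1))
  show x ∈ X
  have h := X.sub_mem (X.sub_mem (sq (x / (2 * c) + 1)) (sq (x / (2 * c)))) (sq 1)
  convert h using 1
  field_simp
  ring

theorem unip_eq (hne : M ≠ ⊤) {a b c : F} (h : u a b c ∈ M) : (u a b c : S) = U a := by
  have hab : a = b := by
    have h1 : ⁅(u a b c : S), U 1⁆ ∈ M := by
      rw [commutatorElement_def]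
      exact M.mul_mem (M.mul_mem (M.mul_mem h (U_mem h2 hM 1)) (M.inv_mem h)) (M.inv_mem (U_mem h2 hM 1))
    rw [U, u_comm] at h1
    have := z_eq_zero h2 hM hne h1
    linear_combination this
  subst hab
  have h1 := M.mul_mem h (M.inv_mem (U_mem h2 hM a))
  rw [U, u_inv, u_mul] at h1
  have hc : c = a ^ 2 / 2 := by
    have h2' : u 0 0 (c + (a * a - a ^ 2 / 2) + a * -a) ∈ M := by convert h1 using 2 <;> ring
    have := z_eq_zero h2 hM hne h2'
    linear_combination this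
  rw [hc]; rfl

theorem tri_mem_sim (hne : M ≠ ⊤) {x : S} (hx : x ∈ M) (hT : Tri x) : Sim x := by
  obtain ⟨n0, n1, n2⟩ := hT.ne_zero
  obtain ⟨c', hc'⟩ := hT.conj_u (1 : F) 1 (1 ^ 2 / 2)
  have h1 : u (m[x] 0 0 / m[x] 1 1 * 1) (m[x] 1 1 / m[x] 2 2 * 1) c' ∈ M :=
    hc' ▸ M.mul_mem (M.mul_mem hx (U_mem h2 hM 1)) (M.inv_mem hx)
  obtain ⟨-, e, -⟩ := u_ext (unip_eq h2 hM hne h1)
  rw [mul_one, mul_one, div_eq_div_iff n2 n1] at e
  have hb : m[x] 1 1 * m[x] 1 1 = m[x] 0 0 * m[x] 2 2 := e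
  set D : S := dg _ _ _ hT.diag with hD
  have hDs : Sim D := sim_dg hT.diag hb
  have hDT : Tri D := by simp [Tri, hD, dg_coe]
  obtain ⟨hT', f0, f1, -, -⟩ := hDT.inv.mul hT
  have e0 : m[D⁻¹ * x] 0 0 = 1 := by
    rw [f0, hDT.inv_diag.1]; simp [hD, dg_coe]; linear_combination hT.diag
  have e1 : m[D⁻¹ * x] 1 1 = 1 := by
    rw [f1, hDT.inv_diag.2.1]; simp [hD, dg_coe]; linear_combination hT.diag
  have hy : D⁻¹ * x ∈ M := M.mul_mem (M.inv_mem (hM _ hDs)) hx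
  rw [hT'.eq_u e0 e1] at hy
  have h4 : D⁻¹ * x = U (m[D⁻¹ * x] 0 1) := (hT'.eq_u e0 e1).trans (unip_eq h2 hM hne hy)
  obtain ⟨k, hk, hks⟩ := hDs
  obtain ⟨k', hk', hks'⟩ := sim_U h2 (m[D⁻¹ * x] 0 1)
  refine ⟨k * k', mul_ne_zero hk hk', fun v => ?_⟩
  rw [show x = D * U (m[D⁻¹ * x] 0 1) by rw [← h4, mul_inv_cancel_left]]
  rw [mv_mul, hks, hks', mul_assoc]

theorem tri_of_stab (hne : M ≠ ⊤) {x : S} (hx : x ∈ M) (hA : x ∈ ptStab) : Tri x := by
  by_contra hT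
  obtain ⟨g1, g2⟩ := mem_ptStab.1 hA
  have hx21 : m[x] 2 1 ≠ 0 := fun e => hT ⟨g1, g2, e⟩
  -- move the middle entry away
  obtain ⟨y, hy, hy1, hy2, hy11, hy21⟩ : ∃ y ∈ M, m[y] 1 0 = 0 ∧ m[y] 2 0 = 0 ∧ m[y] 1 1 = 0 ∧ m[y] 2 1 ≠ 0 := by
    refine ⟨U (-(m[x] 1 1 / m[x] 2 1)) * x, M.mul_mem (U_mem h2 hM _) hx, ?_, ?_, ?_, ?_⟩ <;>
      simp [U, Matrix.mul_apply, Fin.sum_univ_three, g1, g2, hx21]
  have hdet : m[y] 0 0 * (-(m[y] 1 2 * m[y] 2 1)) = 1 := by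
    have h := Matrix.SpecialLinearGroup.det_coe y
    rw [Matrix.det_fin_three, hy1, hy2, hy11] at h
    linear_combination h
  have hy00 : m[y] 0 0 ≠ 0 := fun e => by simp [e] at hdet
  have hy12 : m[y] 1 2 ≠ 0 := fun e => by simp [e] at hdet
  have hyA : y ∈ ptStab := mem_ptStab.2 ⟨hy1, hy2⟩
  -- an element acting on the quotient as a lower root element
  obtain ⟨z, hz, z10, z20, z00, z11, z12, z21, z22⟩ : ∃ z ∈ M, m[z] 1 0 = 0 ∧ m[z] 2 0 = 0 ∧ m[z] 0 0 = 1 ∧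
      m[z] 1 1 = 1 ∧ m[z] 1 2 = 0 ∧ m[z] 2 1 = -1 ∧ m[z] 2 2 = 1 := by
    obtain ⟨s, hs⟩ : ∃ s : F, s * m[y] 2 1 = -(m[y] 1 2) :=
      ⟨-(m[y] 1 2) / m[y] 2 1, div_mul_cancel₀ _ hy21⟩
    refine ⟨y * U s * y⁻¹, M.mul_mem (M.mul_mem hy (U_mem h2 hM s)) (M.inv_mem hy), ?_, ?_, ?_, ?_, ?_, ?_, ?_⟩ <;>
      simp [U, Matrix.mul_apply, Fin.sum_univ_three, Matrix.adjugate_fin_three, hy1, hy2, hy11]
    · linear_combination hdet
    · linear_combination hdet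
    · linear_combination -(m[y] 2 1 * m[y] 0 0) * hs - hdet
    · linear_combination hdet
  -- a central involution on the quotient
  obtain ⟨j, hj, j10, j20, j00, j11, j12, j21, j22⟩ : ∃ j ∈ M, m[j] 1 0 = 0 ∧ m[j] 2 0 = 0 ∧ m[j] 0 0 = 1 ∧
      m[j] 1 1 = -1 ∧ m[j] 1 2 = 0 ∧ m[j] 2 1 = 0 ∧ m[j] 2 2 = -1 := by
    obtain ⟨r, hr, r10, r20, r00, r11, r12, r21, r22⟩ : ∃ r ∈ M, m[r] 1 0 = 0 ∧ m[r] 2 0 = 0 ∧ m[r] 0 0 = 1 ∧
        m[r] 1 1 = 0 ∧ m[r] 1 2 = 1 ∧ m[r] 2 1 = -1 ∧ m[r] 2 2 = 0 := by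
      refine ⟨U 1 * z * U 1, M.mul_mem (M.mul_mem (U_mem h2 hM 1) hz) (U_mem h2 hM 1), ?_, ?_, ?_, ?_, ?_, ?_, ?_⟩ <;>
        simp [U, Matrix.mul_apply, Matrix.vecMul, dotProduct, Fin.sum_univ_three, z10, z20, z00, z11, z12, z21, z22]
    refine ⟨r * r, M.mul_mem hr hr, ?_, ?_, ?_, ?_, ?_, ?_, ?_⟩ <;>
      simp [Matrix.mul_apply, Fin.sum_univ_three, r10, r20, r00, r11, r12, r21, r22]
  have hk : j * U 1 * j⁻¹ * (U 1)⁻¹ ∈ M :=
    M.mul_mem (M.mul_mem (M.mul_mem hj (U_mem h2 hM 1)) (M.inv_mem hj)) (M.inv_mem (U_mem h2 hM 1))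
  set k := j * U 1 * j⁻¹ * (U 1)⁻¹ with hkd
  have hkT : Tri k ∧ m[k] 0 0 = 1 ∧ m[k] 1 1 = 1 ∧ m[k] 1 2 = 0 := by
    simp [hkd, U, u_inv, Tri, Matrix.mul_apply, Fin.sum_univ_three, Matrix.adjugate_fin_three, j10, j20, j00,
      j11, j12, j21, j22]
  obtain ⟨kT, k0, k1, k12⟩ := hkT
  rw [kT.eq_u k0 k1] at hk
  obtain ⟨e01, e12, -⟩ := u_ext (unip_eq h2 hM hne hk)
  have hk1 : k = 1 := by
    rw [kT.eq_u k0 k1, unip_eq h2 hM hne hk, ← e12, k12, U, ← u_zero]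
    congr 1
    simp
  rw [hkd, mul_inv_eq_one, mul_inv_eq_iff_eq_mul] at hk1
  have := congrArg (fun g : S => m[g] 0 1) hk1
  simp [U, Matrix.mul_apply, Fin.sum_univ_three, j00, j10, j11, j21] at this
  exact h2 (by linear_combination this)

theorem le_sim_or_top : M = ⊤ ∨ ∀ g ∈ M, Sim g := by
  by_cases hne : M = ⊤
  · exact Or.inl hne
  right
  let H : Subgroup S :=
    { carrier := {g | Sim g}
      one_mem' := ⟨1, one_ne_zero, fun v => by simp⟩
      mul_mem' := by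
        rintro a b ⟨c, hc, ha⟩ ⟨d, hd, hb⟩
        exact ⟨c * d, mul_ne_zero hc hd, fun v => by
          rw [mv_mul, ha, hb, mul_assoc]⟩
      inv_mem' := by
        rintro a ⟨c, hc, ha⟩
        refine ⟨c⁻¹, inv_ne_zero hc, fun v => ?_⟩
        have h1 : m[a] * m[a⁻¹] = 1 := by show m[a * a⁻¹] = 1; rw [mul_inv_cancel]; rfl
        have h := ha (m[a⁻¹] *ᵥ v)
        rw [mulVec_mulVec, h1, one_mulVec] at h
        rw [h, ← mul_assoc, inv_mul_cancel₀ hc, one_mul] }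
  let Ug : Subgroup S :=
    { carrier := Set.range U
      one_mem' := ⟨0, by rw [U, ← u_zero]; simp⟩
      mul_mem' := by rintro _ _ ⟨s, rfl⟩ ⟨t, rfl⟩; exact ⟨s + t, (U_mul h2 s t).symm⟩
      inv_mem' := by
        rintro _ ⟨s, rfl⟩
        refine ⟨-s, eq_inv_of_mul_eq_one_left ?_⟩
        rw [U_mul h2, neg_add_cancel, U, ← u_zero]; simp }
  have hcard : Nat.card Ug = Nat.card F := by
    refine (Nat.card_congr (Equiv.ofBijective (fun t : F => (⟨U t, t, rfl⟩ : Ug)) ⟨fun s t e => ?_, ?_⟩)).symm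
    · exact (u_ext (congrArg Subtype.val e)).1
    · rintro ⟨_, t, rfl⟩; exact ⟨t, rfl⟩
  have key : M = H := by
    refine eq_of_orbit (A := ptStab) (U := Ug) (fun g hg => hM g hg)
      (fun g hg hgA => tri_mem_sim h2 hM hne hg (tri_of_stab h2 hM hne hg hgA))
      (by rintro _ ⟨t, rfl⟩; exact sim_U h2 t) (by rintro _ ⟨t, rfl⟩; exact u_mem_ptStab _ _ _) ?_ ?_ ?_
    · rintro g - hgA _ ⟨t, rfl⟩ hfix
      obtain ⟨f1, f2⟩ := mem_ptStab.1 hfix
      set e := g⁻¹ * U t * g with he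
      have hge : g * e = U t * g := by rw [he]; group
      have hcol : ∀ i, m[g] i 0 * m[e] 0 0 = m[(U t : S) * g] i 0 := fun i => by
        rw [← hge]; simp [Matrix.mul_apply, Fin.sum_univ_three, f1, f2]
      have e0 := hcol 0
      have e1 := hcol 1
      have e2 := hcol 2
      simp [U, Matrix.mul_apply, Fin.sum_univ_three, -mul_eq_left₀, -mul_right_eq_self₀] at e0 e1 e2
      suffices t = 0 by rw [this, U, ← u_zero]; simp
      by_cases h20 : m[g] 2 0 = 0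
      · have h10 : m[g] 1 0 ≠ 0 := fun h => hgA (mem_ptStab.2 ⟨h, h20⟩)
        have e00 : m[e] 0 0 = 1 := mul_left_cancel₀ h10 (by rw [mul_one, e1, h20, mul_zero, add_zero])
        rw [e00, h20, mul_one, mul_zero, add_zero] at e0
        exact (mul_eq_zero.1 (by linear_combination -e0 : t * m[g] 1 0 = 0)).resolve_right h10
      · have e00 : m[e] 0 0 = 1 := mul_left_cancel₀ h20 (by rw [mul_one, e2])
        rw [e00, mul_one] at e1
        exact (mul_eq_zero.1 (by linear_combination -e1 : t * m[g] 2 0 = 0)).resolve_right h20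
    · intro hle
      have := mem_ptStab.1 (hle (show (w : S) ∈ H from sim_w h2))
      simp at this
    · rw [hcard]
      refine lt_of_le_of_lt index_ptStab_le ?_
      have := Finite.one_lt_card (α := F)
      nlinarith
  intro g hg
  have : g ∈ H := key ▸ hg
  exact this

end CfsgLib.Classical.ThreeMax.OrthSL
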