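import Cfsg.Agent.Lib.Classical.ThreeMax.OrthSL
import Cfsg.Agent.Lib.Classical.OrthStab

/-!
The similarity group of every non-degenerate quadratic form of dimension three is maximal in `SL₃`.
-/

set_option autoImplicit false

namespace CfsgLib.Classical.ThreeMax.OrthSL

open Matrix CfsgLib.Orth
open scoped MatrixGroups

variable {F : Type*} [Field F] [Finite F]

local notation "S" => SpecialLinearGroup (Fin 3) F

/-- Coordinates in which a form of dimension three is a multiple of the standard one. -/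
theorem exists_frame {Q : QuadraticForm F (Fin 3 → F)} (hB : Nondeg Q) (h2 : (2 : F) ≠ 0) :
    ∃ (P : GL (Fin 3) F) (γ : F), γ ≠ 0 ∧ ∀ x, Q ((P : Matrix (Fin 3) (Fin 3) F) *ᵥ x) = γ * q0 x := by
  classical
  obtain ⟨a, -, ha0, ha⟩ := exists_singular (Q := Q) (U := (⊤ : Submodule F (Fin 3 → F)))
    (by rw [finrank_top, Module.finrank_fin_fun])
  obtain ⟨f, hf, haf⟩ := exists_partner hB ha ha0
  have h := finrank_orth_pair hB a f
  rw [Module.finrank_fin_fun] at h
  obtain ⟨c, hc, hc0⟩ := Submodule.exists_mem_ne_zero_of_ne_bot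
    (p := orth Q (Submodule.span F ({a, f} : Set (Fin 3 → F)))) (fun e => by rw [e, finrank_bot] at h; omega)
  have hac : QuadraticMap.polar ⇑Q a c = 0 := mem_orth_span.1 hc a (Set.mem_insert _ _)
  have hfc : QuadraticMap.polar ⇑Q f c = 0 := mem_orth_span.1 hc f (Set.mem_insert_of_mem _ rfl)
  have formula : ∀ α β φ : F, Q (α • a + β • c + φ • f) = β * β * Q c + α * φ := by
    intro α β φ
    rw [q_add, q_add, q_smul, q_smul, q_smul, ha, hf, b_smul_left, b_smul_right, hac, b_add_left,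
      b_smul_left, b_smul_left, b_smul_right, b_smul_right, haf, b_comm c f, hfc]
    ring
  have hli : LinearIndependent F ![a, c, f] := by
    refine Fintype.linearIndependent_iff.2 fun g hg => ?_
    simp [Fin.sum_univ_three] at hg
    have e2 : g 2 = 0 := by
      have := congrArg (fun v => QuadraticMap.polar ⇑Q a v) hg
      simpa [b_add_right, b_smul_right, b_self_zero ha, hac, haf, b_zero_right] using this
    have e0 : g 0 = 0 := by
      have := congrArg (fun v => QuadraticMap.polar ⇑Q f v) hg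
      simpa [b_add_right, b_smul_right, b_self_zero hf, hfc, b_comm f a, haf, b_zero_right] using this
    rw [e0, e2, zero_smul, zero_smul, zero_add, add_zero] at hg
    have e1 : g 1 = 0 := (smul_eq_zero.1 hg).resolve_right hc0
    intro i; fin_cases i <;> assumption
  have hQc : Q c ≠ 0 := by
    intro h0
    refine hc0 (hB c fun y => ?_)
    let b := basisOfLinearIndependentOfCardEqFinrank hli (by simp)
    rw [← b.sum_repr y, Fin.sum_univ_three]
    simp [b, b_add_right, b_smul_right, b_comm c a, hac, b_comm c f, hfc, b_self_zero h0]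
  obtain ⟨γ, hγ⟩ : ∃ γ, γ = Q c := ⟨_, rfl⟩
  let T : Matrix (Fin 3) (Fin 3) F := (Matrix.of ![(-2 * γ) • a, c, f])ᵀ
  have e : ∀ x : Fin 3 → F, T *ᵥ x = (x 0 * (-2 * γ)) • a + x 1 • c + x 2 • f := fun x => by
    funext i
    simp [T, Matrix.mulVec, dotProduct, Fin.sum_univ_three]
    ring
  have hT : IsUnit T := by
    refine Matrix.mulVec_injective_iff_isUnit.1 fun x y hxy => ?_
    have h0 : T *ᵥ (x - y) = 0 := by rw [mulVec_sub, hxy, sub_self]
    rw [e] at h0
    have h1 := Fintype.linearIndependent_iff.1 hli ![(x - y) 0 * (-2 * γ), (x - y) 1, (x - y) 2] (by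
      simpa [Fin.sum_univ_three] using h0)
    funext i
    refine sub_eq_zero.1 (?_ : (x - y) i = 0)
    fin_cases i
    · exact (mul_eq_zero.1 (h1 0)).resolve_right (mul_ne_zero (neg_ne_zero.2 h2) (hγ ▸ hQc))
    · exact h1 1
    · exact h1 2
  refine ⟨hT.unit, γ, hγ ▸ hQc, fun x => ?_⟩
  rw [IsUnit.unit_spec, e, formula, q0, hγ]
  ring

/-- The similarity group of a non-degenerate quadratic form is maximal in `SL₃`, odd characteristic. -/
theorem isMaximalIn [Fintype F] (hodd : Odd (Fintype.card F)) (Q : (Fin 3 → F) → F)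
    (hQ : Cfsg.Geo.IsNondegenerateQuadraticForm Q) :
    Cfsg.Geo.IsMaximalIn (Cfsg.Geo.specialLinear (Fin 3) F)
      (Cfsg.Geo.quadSimilarityGroup Q ⊓ Cfsg.Geo.specialLinear (Fin 3) F) := by
  classical
  have h2 : (2 : F) ≠ 0 := Ring.two_ne_zero fun e =>
    Nat.not_even_iff_odd.2 hodd (Nat.even_iff.2 (FiniteField.even_card_of_char_two e))
  obtain ⟨Q', rfl, hB⟩ := exists_quadForm hQ
  obtain ⟨P, γ, hγ, hP⟩ := exists_frame hB h2
  refine isMaximalIn_conj P (X := Cfsg.Geo.quadSimilarityGroup (q0 : (Fin 3 → F) → F)) (fun g => ?_) ?_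
  · constructor
    · rintro ⟨c, hc⟩
      refine ⟨c, fun v => mul_left_cancel₀ hγ ?_⟩
      rw [← hP, Units.val_mul, Units.val_mul, mulVec_mulVec, ← mul_assoc, ← mul_assoc, Units.mul_inv, one_mul,
        ← mulVec_mulVec, hc, hP]
      ring
    · rintro ⟨c, hc⟩
      refine ⟨c, fun v => ?_⟩
      obtain ⟨x, rfl⟩ : ∃ x, v = (P : Matrix (Fin 3) (Fin 3) F) *ᵥ x :=
        ⟨(↑P⁻¹ : Matrix (Fin 3) (Fin 3) F) *ᵥ v, by rw [mulVec_mulVec, Units.mul_inv, one_mulVec]⟩
      have h := hc x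
      rw [Units.val_mul, Units.val_mul] at h
      have e : (g : Matrix (Fin 3) (Fin 3) F) *ᵥ ((P : Matrix (Fin 3) (Fin 3) F) *ᵥ x) =
          (P : Matrix (Fin 3) (Fin 3) F) *ᵥ (((↑P⁻¹ : Matrix (Fin 3) (Fin 3) F) * (g : Matrix (Fin 3) (Fin 3) F) * (P : Matrix (Fin 3) (Fin 3) F)) *ᵥ x) := by
        rw [mulVec_mulVec, mulVec_mulVec, ← mul_assoc, ← mul_assoc, Units.mul_inv, one_mul]
      rw [e, hP, h, hP]
      ring
  refine isMaximalIn_of_SL ⟨u 0 0 1, fun ⟨c, hc⟩ => ?_⟩ fun M hM => ?_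
  · have h1 := hc ![0, 1, 0]
    have h3 := hc ![0, 0, 1]
    have e : ((SpecialLinearGroup.toGL (u (0 : F) 0 1) : GL (Fin 3) F) : Matrix (Fin 3) (Fin 3) F) =
        !![1, 0, 1; 0, 1, 0; 0, 0, 1] := rfl
    rw [e] at h1 h3
    simp [q0, Matrix.mulVec, dotProduct, Fin.sum_univ_three] at h1 h3
    exact h2 h3
  rcases le_sim_or_top h2 (M := M) (fun g ⟨c, hc, h⟩ => hM g ⟨Units.mk0 c hc, h⟩) with h | h
  · exact Or.inl h
  · refine Or.inr fun s hs => ?_
    obtain ⟨c, hc, h⟩ := h s hs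
    exact ⟨Units.mk0 c hc, h⟩

end CfsgLib.Classical.ThreeMax.OrthSL
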