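import Cfsg.Agent.Lib.Classical.ThreeMax.HermSL

/-!
The special unitary group of dimension three in hyperbolic coordinates: its point stabiliser, and criteria for a
subgroup to be everything.
-/

set_option autoImplicit false
set_option linter.unusedSectionVars false

namespace CfsgLib.Classical.ThreeMax.SUThree

open Matrix
open CfsgLib.ClassicalAut (Unitary.Conj)
open CfsgLib.Classical.ThreeMax.HermSL (hj dg dg_coe exists_par)
open scoped MatrixGroups commutatorElement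

variable {F : Type*} [Field F] [Finite F] {q : ℕ}

local notation "S" => SpecialLinearGroup (Fin 3) F
local notation "m[" g "]" => (((g : SpecialLinearGroup (Fin 3) F) : Matrix (Fin 3) (Fin 3) F))

theorem mv_mul (a b : S) (v : Fin 3 → F) : m[a * b] *ᵥ v = m[a] *ᵥ (m[b] *ᵥ v) :=
  (Matrix.mulVec_mulVec v _ _).symm

variable (K : Unitary.Conj F q)

/-- The isometries of the standard form. -/
def iso : Subgroup (SpecialLinearGroup (Fin 3) F) where
  carrier := {g | ∀ x y, hj K (m[g] *ᵥ x) (m[g] *ᵥ y) = hj K x y}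
  one_mem' := fun x y => by simp
  mul_mem' := fun {a b} ha hb x y => by rw [mv_mul, mv_mul, ha, hb]
  inv_mem' := fun {a} ha x y => by
    have h1 : m[a] * m[a⁻¹] = 1 := by show m[a * a⁻¹] = 1; rw [mul_inv_cancel]; rfl
    have h := ha (m[a⁻¹] *ᵥ x) (m[a⁻¹] *ᵥ y)
    rw [mulVec_mulVec, mulVec_mulVec, h1, one_mulVec, one_mulVec] at h
    exact h.symm

theorem mem_iso {g : S} : g ∈ iso K ↔ ∀ x y, hj K (m[g] *ᵥ x) (m[g] *ᵥ y) = hj K x y := Iff.rfl

theorem u_mem {a c : F} (h : c + K.bar c + a * K.bar a = 0) : (u a (-K.bar a) c : S) ∈ iso K := by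
  intro x y
  simp [hj, Matrix.mulVec, dotProduct, Fin.sum_univ_three, K.bar_bar]
  linear_combination (x 2 * K.bar (y 2)) * h

theorem z_mem {c : F} (h : c + K.bar c = 0) : (u 0 0 c : S) ∈ iso K := by
  have := u_mem K (a := 0) (c := c) (by simpa using h)
  simpa using this

theorem w_mem : (w : S) ∈ iso K := by
  intro x y
  simp [hj, Matrix.mulVec, dotProduct, Fin.sum_univ_three]
  ring

theorem bar_ne_zero {l : F} (h : l ≠ 0) : K.bar l ≠ 0 := (map_ne_zero K.bar).2 h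

theorem torus_det {l : F} (h : l ≠ 0) : l * (K.bar l / l) * (K.bar l)⁻¹ = 1 := by
  have := bar_ne_zero K h
  field_simp

/-- The torus. -/
noncomputable def tor (l : F) : SpecialLinearGroup (Fin 3) F :=
  @dite _ (l = 0) (Classical.propDecidable _) (fun _ => 1)
    (fun h => dg l (K.bar l / l) (K.bar l)⁻¹ (torus_det K h))

theorem tor_coe {l : F} (h : l ≠ 0) : m[tor K l] = Matrix.diagonal ![l, K.bar l / l, (K.bar l)⁻¹] := by
  rw [tor, dif_neg h, dg_coe]

theorem tor_zero {l : F} (h : l = 0) : (tor K l : S) = 1 := by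
  rw [tor, dif_pos h]

theorem tor_mem (l : F) : (tor K l : S) ∈ iso K := by
  by_cases h : l = 0
  · rw [tor_zero K h]; exact one_mem _
  intro x y
  have h' := bar_ne_zero K h
  rw [tor_coe K h]
  simp [hj, Matrix.mulVec_diagonal, K.bar_bar]
  field_simp

theorem tri_tor (l : F) : Tri (tor K l : S) := by
  by_cases h : l = 0
  · rw [tor_zero K h]; simp [Tri]
  · simp [Tri, tor_coe K h]

theorem tri_of_stab {x : S} (hx : x ∈ iso K) (hA : x ∈ ptStab) : Tri x := by
  obtain ⟨g1, g2⟩ := mem_ptStab.1 hA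
  refine ⟨g1, g2, ?_⟩
  have h := mem_iso K |>.1 hx ![0, 1, 0] ![1, 0, 0]
  have hd := Matrix.SpecialLinearGroup.det_coe x
  rw [Matrix.det_fin_three, g1, g2] at hd
  have h00 : m[x] 0 0 ≠ 0 := fun e => by simp [e] at hd
  simp [hj, Matrix.mulVec, dotProduct, Fin.sum_univ_three, g1, g2] at h
  exact h.resolve_right h00

/-- The unitriangular isometries. -/
theorem of_u_mem {a b c : F} (h : (u a b c : S) ∈ iso K) : b = -K.bar a ∧ c + K.bar c + a * K.bar a = 0 := by
  have h12 := mem_iso K |>.1 h ![0, 1, 0] ![0, 0, 1]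
  have h22 := mem_iso K |>.1 h ![0, 0, 1] ![0, 0, 1]
  simp [hj, Matrix.mulVec, dotProduct, Fin.sum_univ_three] at h12 h22
  have eb : b = -K.bar a := by
    have := congrArg K.bar h12
    rw [map_add, K.bar_bar, map_zero] at this
    linear_combination this
  rw [eb, map_neg, K.bar_bar] at h22
  exact ⟨eb, by linear_combination h22⟩

/-- The torus normalises the root group. -/
theorem exists_tor_conj (l a c : F) (h : c + K.bar c + a * K.bar a = 0) :
    ∃ a' c', c' + K.bar c' + a' * K.bar a' = 0 ∧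
      (tor K l)⁻¹ * u a (-K.bar a) c * tor K l = (u a' (-K.bar a') c' : S) := by
  obtain ⟨c', hc'⟩ := (tri_tor K l).inv.conj_u a (-K.bar a) c
  rw [inv_inv] at hc'
  have hm : (tor K l)⁻¹ * u a (-K.bar a) c * tor K l ∈ iso K :=
    (iso K).mul_mem ((iso K).mul_mem ((iso K).inv_mem (tor_mem K l)) (u_mem K h)) (tor_mem K l)
  rw [hc'] at hm
  obtain ⟨eb, ec⟩ := of_u_mem K hm
  exact ⟨_, c', ec, by rw [hc', eb]⟩

/-- A triangular isometry is a torus element times a root element. -/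
theorem decomp {x : S} (hx : x ∈ iso K) (hT : Tri x) : ∃ a c, c + K.bar c + a * K.bar a = 0 ∧
    x = tor K (m[x] 0 0) * u a (-K.bar a) c := by
  obtain ⟨n0, n1, n2⟩ := hT.ne_zero
  have n0' := bar_ne_zero K n0
  have h02 := mem_iso K |>.1 hx ![1, 0, 0] ![0, 0, 1]
  simp [hj, Matrix.mulVec, dotProduct, Fin.sum_univ_three, hT.1, hT.2.1] at h02
  have e22 : m[x] 2 2 = (K.bar (m[x] 0 0))⁻¹ := by
    have := congrArg K.bar h02
    rw [map_mul, K.bar_bar, map_one] at this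
    exact eq_inv_of_mul_eq_one_right this
  obtain ⟨hT', f0, f1, -, -⟩ := (tri_tor K (m[x] 0 0)).inv.mul hT
  set y := (tor K (m[x] 0 0))⁻¹ * x with hy
  have e0 : m[y] 0 0 = 1 := by
    rw [f0, (tri_tor K _).inv_diag.1, tor_coe K n0]
    simp
    field_simp
  have e1 : m[y] 1 1 = 1 := by
    rw [f1, (tri_tor K _).inv_diag.2.1, tor_coe K n0]
    simp
    rw [← e22]
    linear_combination hT.diag
  have hyi : y ∈ iso K := (iso K).mul_mem ((iso K).inv_mem (tor_mem K _)) hx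
  have hyu := hT'.eq_u e0 e1
  rw [hyu] at hyi
  obtain ⟨eb, h22⟩ := of_u_mem K hyi
  rw [eb] at hyu
  exact ⟨m[y] 0 1, m[y] 0 2, h22, by rw [← hyu, hy, mul_inv_cancel_left]⟩

theorem isotropic_col {g : S} (hg : g ∈ iso K) :
    m[g] 0 0 * K.bar (m[g] 2 0) + m[g] 1 0 * K.bar (m[g] 1 0) + m[g] 2 0 * K.bar (m[g] 0 0) = 0 := by
  have h := mem_iso K |>.1 hg ![1, 0, 0] ![1, 0, 0]
  simpa [hj, Matrix.mulVec, dotProduct, Fin.sum_univ_three] using h

/-- Off the point, the root group moves the first column to the last coordinate. -/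
theorem exists_u_col {g : S} (hg : g ∈ iso K) (hA : g ∉ ptStab) :
    m[g] 2 0 ≠ 0 ∧ ∃ a c, c + K.bar c + a * K.bar a = 0 ∧
      m[(u a (-K.bar a) c : S)⁻¹ * g] 0 0 = 0 ∧ m[(u a (-K.bar a) c : S)⁻¹ * g] 1 0 = 0 := by
  have hi := isotropic_col K hg
  have h20 : m[g] 2 0 ≠ 0 := fun h => hA (mem_ptStab.2 ⟨by simpa [h] using hi, h⟩)
  refine ⟨h20, -K.bar (m[g] 1 0 / m[g] 2 0), m[g] 0 0 / m[g] 2 0, ?_, ?_, ?_⟩
  · have h20' := bar_ne_zero K h20
    rw [map_neg, K.bar_bar, map_div₀, map_div₀]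
    field_simp
    linear_combination hi
  all_goals
    rw [u_inv, map_neg, K.bar_bar]
    simp [Matrix.mul_apply, Fin.sum_univ_three]
    field_simp
    ring

variable {M : Subgroup (SpecialLinearGroup (Fin 3) F)} (hMi : M ≤ iso K)
include hMi

/-- A subgroup with the point stabiliser and one more element is everything. -/
theorem top_of_borel (hU : ∀ a c, c + K.bar c + a * K.bar a = 0 → u a (-K.bar a) c ∈ M)
    (hT : ∀ l : F, tor K l ∈ M) (hg : ∃ g ∈ M, g ∉ ptStab) : M = iso K := by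
  have inA : ∀ x ∈ iso K, x ∈ ptStab → x ∈ M := by
    intro x hx hA
    obtain ⟨a, c, h, e⟩ := decomp K hx (tri_of_stab K hx hA)
    rw [e]
    exact M.mul_mem (hT _) (hU a c h)
  obtain ⟨g, hgM, hgA⟩ := hg
  refine le_antisymm hMi fun x hx => ?_
  by_cases hA : x ∈ ptStab
  · exact inA x hx hA
  obtain ⟨gn, a, c, h, e0, e1⟩ := exists_u_col K (hMi hgM) hgA
  obtain ⟨xn, a', c', h', e0', e1'⟩ := exists_u_col K hx hA
  set g' := (u a (-K.bar a) c : S)⁻¹ * g with hg'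
  set x' := (u a' (-K.bar a') c' : S)⁻¹ * x with hx'
  have hg'M : g' ∈ M := M.mul_mem (M.inv_mem (hU a c h)) hgM
  have hx'i : x' ∈ iso K := (iso K).mul_mem ((iso K).inv_mem (u_mem K h')) hx
  have hmem : g'⁻¹ * x' ∈ ptStab := by
    have hg'0 : m[g'] 2 0 ≠ 0 := fun e => by
      have := Matrix.SpecialLinearGroup.det_coe g'
      rw [Matrix.det_fin_three, e0, e1, e] at this
      simp at this
    have hc : m[x'] *ᵥ Pi.single 0 1 = (m[x'] 2 0 / m[g'] 2 0) • (m[g'] *ᵥ Pi.single 0 1) := by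
      funext i
      fin_cases i <;> simp [e0, e1, e0', e1', hg'0]
    have h2 : m[g'⁻¹ * x'] *ᵥ Pi.single 0 1 = (m[x'] 2 0 / m[g'] 2 0) • (Pi.single 0 1 : Fin 3 → F) := by
      have h1 : m[g'⁻¹] * m[g'] = 1 := by show m[g'⁻¹ * g'] = 1; rw [inv_mul_cancel]; rfl
      rw [mv_mul, hc, mulVec_smul, mulVec_mulVec, h1, one_mulVec]
    exact mem_ptStab.2 ⟨by simpa [-Matrix.SpecialLinearGroup.coe_mul] using congrFun h2 1,
      by simpa [-Matrix.SpecialLinearGroup.coe_mul] using congrFun h2 2⟩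
  have := M.mul_mem (hU a' c' h') (M.mul_mem hg'M (inA _ ((iso K).mul_mem ((iso K).inv_mem (hMi hg'M)) hx'i) hmem))
  simpa [hx'] using this

/-- A subgroup with the root group and one more element is everything. -/
theorem top_of_U (hU : ∀ a c, c + K.bar c + a * K.bar a = 0 → u a (-K.bar a) c ∈ M)
    (hg : ∃ g ∈ M, g ∉ ptStab) : M = iso K := by
  obtain ⟨g, hgM, hgA⟩ := hg
  obtain ⟨-, a₀, c₀, h₀, e0, e1⟩ := exists_u_col K (hMi hgM) hgA
  -- an element exchanging the two coordinate points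
  set g' := (u a₀ (-K.bar a₀) c₀ : S)⁻¹ * g with hg'
  have hg'M : g' ∈ M := M.mul_mem (M.inv_mem (hU _ _ h₀)) hgM
  have hb : (w : S) * g' ∈ ptStab := by
    refine mem_ptStab.2 ⟨?_, ?_⟩ <;> simp [Matrix.mul_apply, Fin.sum_univ_three, e0, e1]
  have hbi : (w : S) * g' ∈ iso K := (iso K).mul_mem (w_mem K) (hMi hg'M)
  obtain ⟨a₁, c₁, h₁, hbe⟩ := decomp K hbi (tri_of_stab K hbi hb)
  set l₁ := m[(w : S) * g'] 0 0
  have hl₁ : l₁ ≠ 0 := ((tri_of_stab K hbi hb).ne_zero).1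
  set W := g' * (u a₁ (-K.bar a₁) c₁ : S)⁻¹ with hW
  have hWM : W ∈ M := M.mul_mem hg'M (M.inv_mem (hU _ _ h₁))
  have hWe : W = w * tor K l₁ := by
    have : (w : S) * W = tor K l₁ := by
      rw [hW, ← mul_assoc, hbe, mul_inv_cancel_right]
    rw [← this, ← mul_assoc, w_mul_w, one_mul]
  refine top_of_borel K hMi hU (fun l => ?_) ⟨g, hgM, hgA⟩
  by_cases hl : l = 0
  · rw [tor_zero K hl]; exact M.one_mem
  -- the wanted entry
  obtain ⟨c, hc⟩ : ∃ c, c = l * K.bar l₁ := ⟨_, rfl⟩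
  have hl₁' := bar_ne_zero K hl₁
  have hc0 : c ≠ 0 := hc ▸ mul_ne_zero hl hl₁'
  have hc0' := bar_ne_zero K hc0
  obtain ⟨a, ha⟩ := K.exists_norm (-(c + K.bar c)) (by rw [map_neg, map_add, K.bar_bar, add_comm])
  have hac : c + K.bar c + a * K.bar a = 0 := by rw [ha]; ring
  -- a lower root element with the prescribed corner
  have hv : (w : S) * u a (-K.bar a) c * w ∈ M := by
    obtain ⟨a', c', hac', e⟩ := exists_tor_conj K l₁ a c hac
    have := M.mul_mem (M.mul_mem hWM (hU a' c' hac')) (M.inv_mem hWM)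
    rw [← e, hWe] at this
    have hw : (w : S)⁻¹ = w := inv_eq_of_mul_eq_one_right w_mul_w
    rw [show (w : S) * u a (-K.bar a) c * w = w * u a (-K.bar a) c * (w : S)⁻¹ by rw [hw]]
    convert this using 1
    group
  obtain ⟨a₂, ha₂⟩ : ∃ a₂, a₂ = -a / K.bar c := ⟨_, rfl⟩
  have h₂ : c⁻¹ + K.bar c⁻¹ + a₂ * K.bar a₂ = 0 := by
    rw [ha₂, map_inv₀, map_div₀, map_neg, K.bar_bar]
    field_simp
    linear_combination hac
  obtain ⟨x, hx⟩ : ∃ x, x = W * ((u a₂ (-K.bar a₂) c⁻¹ : S)⁻¹ * ((w : S) * u a (-K.bar a) c * w)) := ⟨_, rfl⟩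
  have hxM : x ∈ M := hx ▸ M.mul_mem hWM (M.mul_mem (M.inv_mem (hU _ _ h₂)) hv)
  have hcol : m[x] 0 0 = l ∧ m[x] 1 0 = 0 ∧ m[x] 2 0 = 0 := by
    rw [hx, hWe, u_inv, ha₂, map_div₀, map_neg, K.bar_bar]
    simp [Matrix.mul_apply, Fin.sum_univ_three, Matrix.vecMul_diagonal, tor_coe K hl₁]
    refine ⟨?_, ?_, ?_⟩ <;> rw [hc] <;> field_simp <;> first | ring1 | exact Or.inr (by ring) | exact Or.inr trivial | simp [hl₁]
  have hA : x ∈ ptStab := mem_ptStab.2 ⟨hcol.2.1, hcol.2.2⟩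
  obtain ⟨a₃, c₃, h₃, e⟩ := decomp K (hMi hxM) (tri_of_stab K (hMi hxM) hA)
  rw [hcol.1] at e
  have := M.mul_mem hxM (M.inv_mem (hU _ _ h₃))
  rwa [e, mul_inv_cancel_right] at this

end CfsgLib.Classical.ThreeMax.SUThree
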