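import Cfsg.Agent.Lib.Classical.ThreeMax.SUBasic
import Cfsg.Agent.Lib.Classical.UnitaryMax

/-!
Hermitian coordinates adapted to a vector, and maximality in the special unitary group from a dichotomy.
-/

set_option autoImplicit false
set_option linter.unusedSectionVars false

namespace CfsgLib.Classical.ThreeMax.SUThree

open Matrix Cfsg CfsgLib.Classical.Herm
open CfsgLib.ClassicalAut (Unitary.Conj)
open CfsgLib.Classical.ThreeMax.HermSL (hj)
open scoped MatrixGroups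

variable {F : Type*} [Field F] [Finite F] {q : ℕ} (K : Unitary.Conj F q)

local notation "S" => SpecialLinearGroup (Fin 3) F
local notation "H" => hermForm 3 F q
local notation "V" => (Fin 3 → F)

theorem exists_half (r : F) (hr : K.bar r = r) : ∃ t : F, t + K.bar t = r := by
  obtain ⟨y, hy⟩ := K.exists_trace
  refine ⟨r * (y / (y + K.bar y)), ?_⟩
  rw [map_mul, hr, map_div₀, map_add, K.bar_bar, add_comm (K.bar y) y, ← mul_add, ← add_div, div_self hy, mul_one]

/-- Coordinates given by two isotropic vectors and a unit one. -/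
theorem frame_of {a z a' : V} (haa : H a a = 0) (hbb : H a' a' = 0) (hzz : H z z = 1) (hab : H a a' = 1)
    (haz : H a z = 0) (hbz : H a' z = 0) : ∃ P : GL (Fin 3) F,
    (∀ x y, H ((P : Matrix (Fin 3) (Fin 3) F) *ᵥ x) ((P : Matrix (Fin 3) (Fin 3) F) *ᵥ y) = hj K x y) ∧
    (P : Matrix (Fin 3) (Fin 3) F) *ᵥ ![1, 0, 0] = a ∧ (P : Matrix (Fin 3) (Fin 3) F) *ᵥ ![0, 1, 0] = z := by
  let T : Matrix (Fin 3) (Fin 3) F := (Matrix.of ![a, z, a'])ᵀ
  have e : ∀ x : V, T *ᵥ x = x 0 • a + x 1 • z + x 2 • a' := fun x => by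
    funext i
    simp [T, Matrix.mulVec, dotProduct, Fin.sum_univ_three]
    ring
  have hba : H a' a = 1 := by rw [h_swap K a a', hab, map_one]
  have hza : H z a = 0 := h_eq_zero_symm K haz
  have hzb : H z a' = 0 := h_eq_zero_symm K hbz
  have key : ∀ x y, H (T *ᵥ x) (T *ᵥ y) = hj K x y := by
    intro x y
    rw [e, e, hj]
    simp only [h_add_left K, h_add_right K, h_smul_left K, h_smul_right K, haa, hbb, hzz, hab, hba, haz, hbz,
      hza, hzb, mul_zero, add_zero, zero_add, mul_one]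
  have hT : IsUnit T := by
    refine Matrix.mulVec_injective_iff_isUnit.1 fun x y hxy => ?_
    have h0 : ∀ w, hj K (x - y) w = 0 := fun w => by
      rw [← key, mulVec_sub, hxy, sub_self, h_zero_left K]
    have c2 := h0 ![1, 0, 0]
    have c1 := h0 ![0, 1, 0]
    have c0 := h0 ![0, 0, 1]
    simp [hj, sub_eq_zero] at c0 c1 c2
    funext i
    fin_cases i <;> assumption
  refine ⟨hT.unit, key, ?_, ?_⟩ <;> rw [show ((hT.unit : GL (Fin 3) F) : Matrix (Fin 3) (Fin 3) F) = T from rfl, e]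
    <;> simp

/-- Coordinates with a given isotropic first vector. -/
theorem frame_iso {a : V} (ha0 : a ≠ 0) (haa : H a a = 0) : ∃ P : GL (Fin 3) F,
    (∀ x y, H ((P : Matrix (Fin 3) (Fin 3) F) *ᵥ x) ((P : Matrix (Fin 3) (Fin 3) F) *ᵥ y) = hj K x y) ∧
    (P : Matrix (Fin 3) (Fin 3) F) *ᵥ ![1, 0, 0] = a := by
  obtain ⟨y, hy⟩ : ∃ y, H y a ≠ 0 := by
    by_contra hc
    push Not at hc
    exact ha0 (h_nondeg K fun y => h_eq_zero_symm K (hc y))
  obtain ⟨y₁, hy₁⟩ : ∃ y₁, H y₁ a = 1 := ⟨(H y a)⁻¹ • y, by rw [h_smul_left K, inv_mul_cancel₀ hy]⟩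
  obtain ⟨t, ht⟩ := exists_half K (-(H y₁ y₁)) (by rw [map_neg, bar_self K])
  have hay : H a y₁ = 1 := by rw [h_swap K y₁ a, hy₁, map_one]
  obtain ⟨a', ha'⟩ : ∃ a', a' = y₁ + t • a := ⟨_, rfl⟩
  have hab : H a a' = 1 := by rw [ha', h_add_right K, h_smul_right K, haa, hay]; ring
  have hbb : H a' a' = 0 := by
    rw [ha']
    simp only [h_add_left K, h_add_right K, h_smul_left K, h_smul_right K, haa, hay, hy₁]
    linear_combination ht
  obtain ⟨p, hp, hp0⟩ := Submodule.exists_mem_ne_zero_of_ne_bot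
    (p := (⊤ : Submodule F V) ⊓ orth K (Submodule.span F (Set.range ![a, a']))) fun h => by
      have := finrank_inf_orth_le K (⊤ : Submodule F V) 2 ![a, a']
      rw [h, finrank_bot, finrank_top, Module.finrank_fin_fun] at this; omega
  have hap : H a p = 0 := hp.2 a (Submodule.subset_span ⟨0, rfl⟩)
  have hbp : H a' p = 0 := hp.2 a' (Submodule.subset_span ⟨1, rfl⟩)
  have hpa := h_eq_zero_symm K hap
  have hpb := h_eq_zero_symm K hbp
  have hba : H a' a = 1 := by rw [h_swap K a a', hab, map_one]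
  have hpp : H p p ≠ 0 := fun hpp => by
    have hli : LinearIndependent F ![a, p, a'] := by
      rw [Fintype.linearIndependent_iff]
      intro g hg
      simp only [Fin.sum_univ_three, cons_val_zero, cons_val_one, cons_val] at hg
      have c0 : g 0 = 0 := by
        have := congrArg (fun v => H v a') hg
        simpa [h_add_left K, h_smul_left K, hab, hpb, hbb, h_zero_left K] using this
      have c2 : g 2 = 0 := by
        have := congrArg (fun v => H v a) hg
        simpa [h_add_left K, h_smul_left K, haa, hpa, hba, h_zero_left K] using this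
      rw [c0, c2, zero_smul, zero_smul, zero_add, add_zero] at hg
      have c1 := (smul_eq_zero.1 hg).resolve_right hp0
      intro i; fin_cases i <;> assumption
    have hspan : ⊤ ≤ Submodule.span F (Set.range ![a, p, a']) := by
      rw [hli.span_eq_top_of_card_eq_finrank (by simp)]
    refine hp0 (h_nondeg K fun w => ?_)
    obtain ⟨c, hc⟩ := (Submodule.mem_span_range_iff_exists_fun F).1 (hspan (Submodule.mem_top (x := w)))
    rw [← hc]
    simp [Fin.sum_univ_three, h_add_right K, h_smul_right K, hpa, hpp, hpb]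
  obtain ⟨s, hs⟩ := K.exists_norm (H p p)⁻¹ (by rw [map_inv₀, bar_self K])
  obtain ⟨P, hP, hPa, -⟩ := frame_of K (z := s • p) (a' := a') haa hbb
    (by rw [h_smul_left K, h_smul_right K, ← mul_assoc, hs, inv_mul_cancel₀ hpp]) hab
    (by rw [h_smul_right K, hap, mul_zero]) (by rw [h_smul_right K, hbp, mul_zero])
  exact ⟨P, hP, hPa⟩

/-- Coordinates with a given unit middle vector. -/
theorem frame_unit {z : V} (hzz : H z z = 1) : ∃ P : GL (Fin 3) F,
    (∀ x y, H ((P : Matrix (Fin 3) (Fin 3) F) *ᵥ x) ((P : Matrix (Fin 3) (Fin 3) F) *ᵥ y) = hj K x y) ∧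
    (P : Matrix (Fin 3) (Fin 3) F) *ᵥ ![0, 1, 0] = z := by
  obtain ⟨a, haP, ha0, haa⟩ := exists_isotropic_ne K
    (P := (⊤ : Submodule F V) ⊓ orth K (Submodule.span F (Set.range ![z]))) (by
      have := finrank_inf_orth_le K (⊤ : Submodule F V) 1 ![z]
      rw [finrank_top, Module.finrank_fin_fun] at this; omega)
  have hza : H z a = 0 := haP.2 z (Submodule.subset_span ⟨0, rfl⟩)
  have haz := h_eq_zero_symm K hza
  obtain ⟨y, hy⟩ : ∃ y, H y a ≠ 0 := by
    by_contra hc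
    push Not at hc
    exact ha0 (h_nondeg K fun y => h_eq_zero_symm K (hc y))
  obtain ⟨y₁, hy₁d⟩ : ∃ y₁, y₁ = (H y a)⁻¹ • (y - H y z • z) := ⟨_, rfl⟩
  have hy₁ : H y₁ a = 1 := by
    rw [hy₁d, h_smul_left K, h_sub_left K, h_smul_left K, hza, mul_zero, sub_zero, inv_mul_cancel₀ hy]
  have hyz : H y₁ z = 0 := by rw [hy₁d, h_smul_left K, h_sub_left K, h_smul_left K, hzz, mul_one, sub_self, mul_zero]
  obtain ⟨t, ht⟩ := exists_half K (-(H y₁ y₁)) (by rw [map_neg, bar_self K])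
  have hay : H a y₁ = 1 := by rw [h_swap K y₁ a, hy₁, map_one]
  obtain ⟨P, hP, -, hPz⟩ := frame_of K (a' := y₁ + t • a) haa
    (by
      simp only [h_add_left K, h_add_right K, h_smul_left K, h_smul_right K, haa, hay, hy₁]
      linear_combination ht) hzz
    (by rw [h_add_right K, h_smul_right K, haa, hay]; ring) haz
    (by rw [h_add_left K, h_smul_left K, hyz, haz]; ring)
  exact ⟨P, hP, hPz⟩

variable {P : GL (Fin 3) F}

/-- The isometry of the given coordinates. -/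
abbrev tr (P : GL (Fin 3) F) (s : S) : GL (Fin 3) F := P * SpecialLinearGroup.toGL s * P⁻¹

theorem tr_mulVec (P : GL (Fin 3) F) (s : S) (x : V) :
    (tr P s : Matrix (Fin 3) (Fin 3) F) *ᵥ ((P : Matrix (Fin 3) (Fin 3) F) *ᵥ x) =
      (P : Matrix (Fin 3) (Fin 3) F) *ᵥ ((s : Matrix (Fin 3) (Fin 3) F) *ᵥ x) := by
  rw [mulVec_mulVec, mulVec_mulVec, ← Units.val_mul, inv_mul_cancel_right, Units.val_mul]
  rfl

variable (hP : ∀ x y : Fin 3 → F, hermForm 3 F q ((P : Matrix (Fin 3) (Fin 3) F) *ᵥ x) ((P : Matrix (Fin 3) (Fin 3) F) *ᵥ y) = hj K x y)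
include hP

theorem range_tr (g : GL (Fin 3) F) :
    g ∈ GU 3 F q ⊓ Cfsg.Geo.specialLinear (Fin 3) F ↔ ∃ s ∈ iso K, tr P s = g := by
  constructor
  · rintro ⟨h1, h2⟩
    have hd : Matrix.GeneralLinearGroup.det (P⁻¹ * g * P) = 1 := by
      rw [map_mul, map_mul, MonoidHom.mem_ker.1 h2, mul_one, ← map_mul, inv_mul_cancel, map_one]
    obtain ⟨s, hs⟩ : ∃ s : S, s = ⟨((P⁻¹ * g * P : GL (Fin 3) F) : Matrix (Fin 3) (Fin 3) F), congrArg Units.val hd⟩ :=
      ⟨_, rfl⟩
    have e : tr P s = g := by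
      have : SpecialLinearGroup.toGL s = P⁻¹ * g * P := Units.ext (by rw [hs]; rfl)
      simp [tr, this, mul_assoc]
    refine ⟨s, fun x y => ?_, e⟩
    rw [← hP, ← hP, ← tr_mulVec, ← tr_mulVec, e]
    exact h1 _ _
  · rintro ⟨s, hs, rfl⟩
    refine ⟨fun x y => ?_, MonoidHom.mem_ker.2 ?_⟩
    · show H ((tr P s : Matrix (Fin 3) (Fin 3) F) *ᵥ x) ((tr P s : Matrix (Fin 3) (Fin 3) F) *ᵥ y) = H x y
      obtain ⟨x', rfl⟩ : ∃ x', x = (P : Matrix (Fin 3) (Fin 3) F) *ᵥ x' :=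
        ⟨(↑P⁻¹ : Matrix (Fin 3) (Fin 3) F) *ᵥ x, by rw [mulVec_mulVec, Units.mul_inv, one_mulVec]⟩
      obtain ⟨y', rfl⟩ : ∃ y', y = (P : Matrix (Fin 3) (Fin 3) F) *ᵥ y' :=
        ⟨(↑P⁻¹ : Matrix (Fin 3) (Fin 3) F) *ᵥ y, by rw [mulVec_mulVec, Units.mul_inv, one_mulVec]⟩
      rw [tr_mulVec, tr_mulVec, hP, hP, hs]
    · have : Matrix.GeneralLinearGroup.det (SpecialLinearGroup.toGL s) = 1 := Units.ext s.2
      simp [tr, this]

/-- Maximality in the special unitary group from a dichotomy in coordinates. -/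
theorem isMaximalIn_of_iso {X : Subgroup (GL (Fin 3) F)} (Y : Set S)
    (hY : ∀ s ∈ iso K, (tr P s ∈ X ↔ s ∈ Y)) (hne : ∃ s ∈ iso K, s ∉ Y)
    (h : ∀ M ≤ iso K, (∀ s ∈ iso K, s ∈ Y → s ∈ M) → M = iso K ∨ ∀ s ∈ M, s ∈ Y) :
    Cfsg.Geo.IsMaximalIn (GU 3 F q ⊓ Cfsg.Geo.specialLinear (Fin 3) F)
      (X ⊓ (GU 3 F q ⊓ Cfsg.Geo.specialLinear (Fin 3) F)) := by
  refine ⟨lt_of_le_not_ge inf_le_right fun hle => ?_, fun M hM hM' => ?_⟩
  · obtain ⟨s, hs, hsY⟩ := hne
    exact hsY ((hY s hs).1 (hle ((range_tr K hP _).2 ⟨s, hs, rfl⟩)).1)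
  let φ : S →* GL (Fin 3) F := (MulAut.conj P).toMonoidHom.comp SpecialLinearGroup.toGL
  have hφ : ∀ s, φ s = tr P s := fun s => rfl
  rcases h (M.comap φ ⊓ iso K) inf_le_right (fun s hs hsY => ⟨by
      show φ s ∈ M
      rw [hφ]
      exact hM ⟨(hY s hs).2 hsY, (range_tr K hP _).2 ⟨s, hs, rfl⟩⟩, hs⟩) with h | h
  · refine Or.inr (le_antisymm hM' fun g hg => ?_)
    obtain ⟨s, hs, rfl⟩ := (range_tr K hP g).1 hg
    have : s ∈ M.comap φ ⊓ iso K := by rw [h]; exact hs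
    exact this.1
  · refine Or.inl (le_antisymm (fun g hg => ⟨?_, hM' hg⟩) hM)
    obtain ⟨s, hs, rfl⟩ := (range_tr K hP g).1 (hM' hg)
    exact (hY s hs).2 (h s ⟨hg, hs⟩)

end CfsgLib.Classical.ThreeMax.SUThree
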