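import Cfsg.Agent.Lib.Classical.ThreeMax.SUBasic

/-!
The root groups of two isotropic points and of a third one off their line generate the special unitary group.
-/

set_option autoImplicit false
set_option linter.unusedSectionVars false

namespace CfsgLib.Classical.ThreeMax.SUThree

open Matrix
open CfsgLib.ClassicalAut (Unitary.Conj)
open CfsgLib.Classical.ThreeMax.HermSL (hj dg dg_coe exists_par)
open scoped MatrixGroups commutatorElement

variable {F : Type*} [Field F] [Finite F] {q : ℕ}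

local notation "S" => SpecialLinearGroup (Fin 3) F
local notation "m[" g "]" => (((g : SpecialLinearGroup (Fin 3) F) : Matrix (Fin 3) (Fin 3) F))

/-- The lower long root element. -/
def lo (c : F) : SpecialLinearGroup (Fin 3) F := ⟨!![1, 0, 0; 0, 1, 0; c, 0, 1], by simp [Matrix.det_fin_three]⟩

@[simp] theorem lo_coe (c : F) : m[lo c] = !![1, 0, 0; 0, 1, 0; c, 0, 1] := rfl

theorem lo_eq (c : F) : (lo c : S) = w * u 0 0 c * w := by
  ext i j
  fin_cases i <;> fin_cases j <;> simp [Matrix.mul_apply, Fin.sum_univ_three]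

variable (K : Unitary.Conj F q)

theorem exists_skew_ne : ∃ θ : F, θ ≠ 0 ∧ θ + K.bar θ = 0 := by
  obtain ⟨y, hy⟩ := K.exists_moved
  exact ⟨y - K.bar y, sub_ne_zero.2 (Ne.symm hy), by rw [map_sub, K.bar_bar]; ring⟩

/-- The long root group of the point of `n e₀` lies in `M`. -/
def CenBy (M : Subgroup (SpecialLinearGroup (Fin 3) F)) (n : SpecialLinearGroup (Fin 3) F) : Prop :=
  n ∈ iso K ∧ ∀ c : F, c + K.bar c = 0 → n * u 0 0 c * n⁻¹ ∈ M

/-- The point `(c, b, 1)` is a centre. -/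
def Cen (M : Subgroup (SpecialLinearGroup (Fin 3) F)) (c b : F) : Prop :=
  ∃ n, CenBy K M n ∧ m[n] 2 0 ≠ 0 ∧ m[n] 0 0 = c * m[n] 2 0 ∧ m[n] 1 0 = b * m[n] 2 0

variable {M : Subgroup (SpecialLinearGroup (Fin 3) F)}

theorem CenBy.move {n h : S} (hn : CenBy K M n) (hMi : M ≤ iso K) (hh : h ∈ M) : CenBy K M (h * n) := by
  refine ⟨(iso K).mul_mem (hMi hh) hn.1, fun c hc => ?_⟩
  have := M.mul_mem (M.mul_mem hh (hn.2 c hc)) (M.inv_mem hh)
  convert this using 1
  group

theorem CenBy.congr {n n' : S} (hn : CenBy K M n) (hn' : n' ∈ iso K) (h : n⁻¹ * n' ∈ ptStab) : CenBy K M n' := by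
  refine ⟨hn', fun c hc => ?_⟩
  set x := n⁻¹ * n' with hx
  have hxi : x ∈ iso K := (iso K).mul_mem ((iso K).inv_mem hn.1) hn'
  have hT := tri_of_stab K hxi h
  have hz := conj_z h c
  rw [hT.inv.2.2, hT.inv_diag.2.2] at hz
  simp only [mul_zero] at hz
  have hm : (u 0 0 (m[x] 0 0 * c * (m[x] 0 0 * m[x] 1 1)) : S) ∈ iso K :=
    hz ▸ (iso K).mul_mem ((iso K).mul_mem hxi (z_mem K hc)) ((iso K).inv_mem hxi)
  obtain ⟨-, hc'⟩ := of_u_mem K hm
  have := hn.2 (m[x] 0 0 * c * (m[x] 0 0 * m[x] 1 1)) (by simpa using hc')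
  rw [← hz, hx] at this
  convert this using 1
  group

theorem Cen.cenBy {c b : F} (hv : Cen K M c b) {n' : S} (hn' : n' ∈ iso K) (h0 : m[n'] 0 0 = c * m[n'] 2 0)
    (h1 : m[n'] 1 0 = b * m[n'] 2 0) : CenBy K M n' := by
  obtain ⟨n, hn, n2, n0, n1⟩ := hv
  refine hn.congr K hn' ?_
  have hcol : m[n'] *ᵥ (Pi.single 0 1 : Fin 3 → F) = (m[n'] 2 0 / m[n] 2 0) • (m[n] *ᵥ Pi.single 0 1) := by
    funext i
    fin_cases i <;> simp [h0, h1, n0, n1] <;> field_simp
  have h2 : m[n⁻¹ * n'] *ᵥ (Pi.single 0 1 : Fin 3 → F) = (m[n'] 2 0 / m[n] 2 0) • (Pi.single 0 1 : Fin 3 → F) := by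
    have e1 : m[n⁻¹] * m[n] = 1 := by show m[n⁻¹ * n] = 1; rw [inv_mul_cancel]; rfl
    rw [mv_mul, hcol, mulVec_smul, mulVec_mulVec, e1, one_mulVec]
  exact mem_ptStab.2 ⟨by simpa [-Matrix.SpecialLinearGroup.coe_mul] using congrFun h2 1,
    by simpa [-Matrix.SpecialLinearGroup.coe_mul] using congrFun h2 2⟩

theorem cen_of_by {n : S} (hn : CenBy K M n) (h : m[n] 2 0 ≠ 0) :
    Cen K M (m[n] 0 0 / m[n] 2 0) (m[n] 1 0 / m[n] 2 0) :=
  ⟨n, hn, h, (div_mul_cancel₀ _ h).symm, (div_mul_cancel₀ _ h).symm⟩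

theorem cen_norm {c b : F} (hv : Cen K M c b) : c + K.bar c + b * K.bar b = 0 := by
  obtain ⟨n, hn, n2, n0, n1⟩ := hv
  have h := isotropic_col K hn.1
  rw [n0, n1, map_mul, map_mul] at h
  have : (c + K.bar c + b * K.bar b) * (m[n] 2 0 * K.bar (m[n] 2 0)) = 0 := by linear_combination h
  exact (mul_eq_zero.1 this).resolve_right (mul_ne_zero n2 (bar_ne_zero K n2))

variable (hMi : M ≤ iso K) (hz : ∀ c : F, c + K.bar c = 0 → u 0 0 c ∈ M)
  (hlo : ∀ c : F, c + K.bar c = 0 → lo c ∈ M)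
include hMi hz hlo

theorem torus_real {r : F} (hr : K.bar r = r) (hr0 : r ≠ 0) : tor K r ∈ M := by
  obtain ⟨θ, hθ0, hθ⟩ := exists_skew_ne K
  have hθb : K.bar θ = -θ := by linear_combination hθ
  have mem : ∀ s : F, s ≠ 0 → s + K.bar s = 0 → u 0 0 s * lo (-s⁻¹) * u 0 0 s ∈ M := fun s hs0 hs => by
    have hsb : K.bar s = -s := by linear_combination hs
    exact M.mul_mem (M.mul_mem (hz s hs) (hlo _ (by rw [map_neg, map_inv₀, hsb, inv_neg]; ring))) (hz s hs)
  have h1 := mem (r * θ) (mul_ne_zero hr0 hθ0) (by rw [map_mul, hr, hθb]; ring)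
  have h2 := mem (-θ) (neg_ne_zero.2 hθ0) (by rw [map_neg, hθb]; ring)
  have := M.mul_mem h1 h2
  convert this using 1
  ext i j
  fin_cases i <;> fin_cases j <;>
    simp [tor_coe K hr0, hr, Matrix.mul_apply, Matrix.vecMul, dotProduct, Fin.sum_univ_three, div_self hr0] <;>
    field_simp <;> ring

theorem cen_z {c b s : F} (hv : Cen K M c b) (hs : s + K.bar s = 0) : Cen K M (c + s) b := by
  obtain ⟨n, hn, n2, n0, n1⟩ := hv
  refine ⟨u 0 0 s * n, hn.move K hMi (hz s hs), ?_, ?_, ?_⟩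
  all_goals simp [Matrix.mul_apply, Fin.sum_univ_three, n0, n1, n2]
  all_goals ring

theorem cen_lo {c b s r : F} (hv : Cen K M c b) (hs : s + K.bar s = 0) (hden : 1 + s * c ≠ 0) (hr : K.bar r = r)
    (hr0 : r ≠ 0) : Cen K M (r * r * c / (1 + s * c)) (r * b / (1 + s * c)) := by
  obtain ⟨n, hn, n2, n0, n1⟩ := hv
  have hden' : 1 + c * s ≠ 0 := by rwa [mul_comm]
  refine ⟨tor K r * (lo s * n), (hn.move K hMi (hlo s hs)).move K hMi (torus_real K hMi hz hlo hr hr0), ?_, ?_, ?_⟩
  all_goals simp [tor_coe K hr0, hr, Matrix.mul_apply, Fin.sum_univ_three, Matrix.vecMul_diagonal,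
    Matrix.vecMul, dotProduct, n0, n1, div_self hr0]
  · refine ⟨hr0, fun e => hden ?_⟩
    exact mul_left_cancel₀ n2 (by rw [mul_zero]; linear_combination e)
  all_goals field_simp
  all_goals ring

/-- One centre off the line gives all of them. -/
theorem cen_all {c b : F} (hb : b ≠ 0) (hv : Cen K M c b) {c' b' : F} (hb' : b' ≠ 0)
    (h' : c' + K.bar c' + b' * K.bar b' = 0) : Cen K M c' b' := by
  obtain ⟨θ, hθ0, hθ⟩ := exists_skew_ne K
  have hθb : K.bar θ = -θ := by linear_combination hθ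
  have key : ∀ {c₀ : F}, Cen K M c₀ b → ∀ {α β : F}, K.bar α = α → K.bar β = β → α ≠ 0 →
      b / b' = α + β * (θ * c₀) → Cen K M c' b' := by
    intro c₀ hc₀ α β hα hβ hα0 he
    have hs : β / α * θ + K.bar (β / α * θ) = 0 := by rw [map_mul, map_div₀, hα, hβ, hθb]; ring
    have hden : 1 + β / α * θ * c₀ ≠ 0 := fun e => by
      refine div_ne_zero hb hb' (he.trans ?_)
      calc α + β * (θ * c₀) = α * (1 + β / α * θ * c₀) := by field_simp
        _ = 0 := by rw [e, mul_zero]
    have h1 := cen_lo K hMi hz hlo hc₀ hs hden (r := α⁻¹) (by rw [map_inv₀, hα]) (inv_ne_zero hα0)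
    have eb : α⁻¹ * b / (1 + β / α * θ * c₀) = b' := by
      rw [div_eq_iff hden]
      field_simp at he ⊢
      linear_combination he
    rw [eb] at h1
    have hn1 := cen_norm K h1
    set c₁ := α⁻¹ * α⁻¹ * c₀ / (1 + β / α * θ * c₀)
    have h2 := cen_z K hMi hz hlo h1 (s := c' - c₁) (by rw [map_sub]; linear_combination h' - hn1)
    simpa using h2
  have hn := cen_norm K hv
  have ht : θ * c - K.bar (θ * c) ≠ 0 := fun e => by
    rw [map_mul, hθb] at e
    have : θ * (c + K.bar c) = 0 := by linear_combination e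
    have h0 := (mul_eq_zero.1 this).resolve_left hθ0
    rw [h0, zero_add] at hn
    exact mul_ne_zero hb (bar_ne_zero K hb) hn
  set k := b / b'
  set β := (k - K.bar k) / (θ * c - K.bar (θ * c)) with hβd
  have hβ : K.bar β = β := by
    rw [hβd, map_div₀, map_sub, map_sub, K.bar_bar, K.bar_bar, ← neg_sub k, ← neg_sub (θ * c), neg_div_neg_eq]
  set α := k - β * (θ * c) with hαd
  have hα : K.bar α = α := by
    have : β * (θ * c - K.bar (θ * c)) = k - K.bar k := div_mul_cancel₀ _ ht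
    rw [hαd, map_sub, map_mul, hβ]
    linear_combination this
  by_cases hα0 : α = 0
  · have hk : k = β * (θ * c) := by rw [← sub_eq_zero]; exact hα0
    have hβ0 : β ≠ 0 := fun e => by rw [e, zero_mul] at hk; exact div_ne_zero hb hb' hk
    refine key (cen_z K hMi hz hlo hv (s := θ) hθ) (α := -(β * (θ * θ))) (β := β) ?_ hβ
      (neg_ne_zero.2 (mul_ne_zero hβ0 (mul_ne_zero hθ0 hθ0))) ?_
    · rw [map_neg, map_mul, map_mul, hβ, hθb]; ring
    · show k = _
      rw [hk]; ring
  · exact key hv hα hβ hα0 (by show k = _; rw [hαd]; ring)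

/-- The long root groups of two points and one off their line give everything. -/
theorem top_of_line (hq : 3 ≤ q) {c b : F} (hb : b ≠ 0) (hv : Cen K M c b) : M = iso K := by
  obtain ⟨r, hr, hr0, hr1⟩ : ∃ r : F, K.bar r = r ∧ r ≠ 0 ∧ r ≠ 1 := by
    by_contra hcon
    push Not at hcon
    have hall : ∀ x : F, x * K.bar x = 0 ∨ x * K.bar x = 1 := fun x => by
      by_cases h : x * K.bar x = 0
      · exact Or.inl h
      · exact Or.inr (hcon _ (by rw [map_mul, K.bar_bar, mul_comm]) h)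
    haveI := Fintype.ofFinite F
    classical
    have hle : (Finset.univ.filter fun x : F => x ≠ 0).card ≤ q + 1 := by
      refine le_trans (Finset.card_le_card (t := (Polynomial.X ^ (q + 1) - Polynomial.C (1 : F)).roots.toFinset)
        fun x hx => ?_) ((Multiset.toFinset_card_le _).trans ((Polynomial.card_roots' _).trans ?_))
      · simp only [Finset.mem_filter] at hx
        rw [Multiset.mem_toFinset, Polynomial.mem_roots']
        refine ⟨Polynomial.X_pow_sub_C_ne_zero (by omega) _, ?_⟩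
        rcases hall x with h | h
        · exact absurd ((mul_eq_zero.1 h).resolve_left hx.2) (bar_ne_zero K hx.2)
        · rw [K.bar_apply] at h
          simp [pow_succ', h]
      · rw [Polynomial.natDegree_X_pow_sub_C]
    rw [Finset.filter_ne', Finset.card_erase_of_mem (Finset.mem_univ _), Finset.card_univ,
      ← Nat.card_eq_fintype_card, K.card] at hle
    have h3 : 3 * q ≤ q ^ 2 := by rw [pow_two]; exact Nat.mul_le_mul_right q hq
    omega
  have hU : ∀ a c, c + K.bar c + a * K.bar a = 0 → u a (-K.bar a) c ∈ M := by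
    -- every parameter occurs
    have hY : ∀ a : F, ∃ c, c + K.bar c + a * K.bar a = 0 ∧ u a (-K.bar a) c ∈ M := by
      intro a
      by_cases ha : a = 0
      · exact ⟨0, by simp [ha], by simp [ha, u_zero]⟩
      obtain ⟨a₀, ha₀d⟩ : ∃ a₀, a₀ = a / (1 - r) := ⟨_, rfl⟩
      have h1r : (1 : F) - r ≠ 0 := sub_ne_zero.2 (Ne.symm hr1)
      have ha₀ : a₀ ≠ 0 := ha₀d ▸ div_ne_zero ha h1r
      obtain ⟨g, hg⟩ := exists_par K a₀
      set n := (u a₀ (-K.bar a₀) g : S) with hn
      have hC : Cen K M g (-K.bar a₀) :=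
        cen_all K hMi hz hlo hb hv (neg_ne_zero.2 (bar_ne_zero K ha₀)) (by
          rw [map_neg, K.bar_bar]; linear_combination hg)
      have hCn : CenBy K M (n * w) :=
        hC.cenBy K ((iso K).mul_mem (u_mem K hg) (w_mem K))
          (by simp [hn, Matrix.mul_apply, Fin.sum_univ_three]) (by simp [hn, Matrix.mul_apply, Fin.sum_univ_three])
      let N : Subgroup S :=
        { carrier := {x | n * x * n⁻¹ ∈ M ∧ x ∈ iso K}
          one_mem' := ⟨by simp, one_mem _⟩
          mul_mem' := fun {x y} hx hy => ⟨by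
            have := M.mul_mem hx.1 hy.1
            simpa [mul_assoc] using this, (iso K).mul_mem hx.2 hy.2⟩
          inv_mem' := fun {x} hx => ⟨by
            have := M.inv_mem hx.1
            simpa [mul_assoc] using this, (iso K).inv_mem hx.2⟩ }
      have hzN : ∀ s : F, s + K.bar s = 0 → u 0 0 s ∈ N := fun s hs => by
        refine ⟨?_, z_mem K hs⟩
        have e : n * u 0 0 s * n⁻¹ = u 0 0 s := by
          rw [hn, u_inv, u_mul, u_mul]
          congr 1 <;> ring
        rw [e]; exact hz s hs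
      have hloN : ∀ s : F, s + K.bar s = 0 → lo s ∈ N := fun s hs => by
        refine ⟨?_, hMi (hlo s hs)⟩
        have hw : (w : S)⁻¹ = w := inv_eq_of_mul_eq_one_right w_mul_w
        have := hCn.2 s hs
        rw [lo_eq]
        simpa [_root_.mul_inv_rev, hw, mul_assoc] using this
      have hT := (torus_real K (M := N) (fun x hx => hx.2) hzN hloN hr hr0).1
      have hj := M.mul_mem hT (M.inv_mem (torus_real K hMi hz hlo hr hr0))
      obtain ⟨c', hc'⟩ := (tri_tor K r).conj_u (-a₀) (- -K.bar a₀) (a₀ * -K.bar a₀ - g)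
      have e : n * tor K r * n⁻¹ * (tor K r)⁻¹ = u a₀ (-K.bar a₀) g *
          u (r * -a₀) (r * (K.bar a₀)) c' := by
        have : tor K r * n⁻¹ * (tor K r)⁻¹ = u (r * -a₀) (r * (K.bar a₀)) c' := by
          rw [hn, u_inv, hc', tor_coe K hr0]
          simp [hr, div_self hr0]
        rw [← this, hn]; group
      rw [e, u_mul] at hj
      obtain ⟨eb, ec⟩ := of_u_mem K (hMi hj)
      rw [eb] at hj
      have ea : a₀ + r * -a₀ = a := by rw [ha₀d]; field_simp; ring
      rw [ea] at hj ec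
      exact ⟨_, ec, hj⟩
    intro a c hac
    obtain ⟨c₁, hc₁, hm⟩ := hY a
    have := M.mul_mem (hz (c - c₁) (by rw [map_sub]; linear_combination hac - hc₁)) hm
    rw [u_mul] at this
    simpa using this
  obtain ⟨θ, hθ0, hθ⟩ := exists_skew_ne K
  exact top_of_U K hMi hU ⟨lo θ, hlo θ hθ, fun h => hθ0 (by simpa using (mem_ptStab.1 h).2)⟩

end CfsgLib.Classical.ThreeMax.SUThree
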