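import Cfsg.Agent.Lib.Classical.ThreeMax.SURatBasic
import Cfsg.Agent.Lib.PGroup.SingerFixed

/-!
The isotropic points moved to by a subgroup of the special unitary group of dimension three, and their number.
-/

set_option autoImplicit false
set_option linter.unusedSectionVars false

namespace CfsgLib.Classical.ThreeMax.SUThree

open Matrix
open CfsgLib.ClassicalAut (Unitary.Conj)
open CfsgLib.AutPSL (fixedField)
open scoped MatrixGroups

variable {F : Type*} [Field F] [Finite F] {q : ℕ} (K : Unitary.Conj F q)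

local notation "S" => SpecialLinearGroup (Fin 3) F
local notation "m[" g "]" => (((g : SpecialLinearGroup (Fin 3) F) : Matrix (Fin 3) (Fin 3) F))

/-- The finite points to which `M` moves the first one. -/
def Orb (M : Subgroup (SpecialLinearGroup (Fin 3) F)) : Set (F × F) :=
  {p | ∃ g ∈ M, m[g] 2 0 ≠ 0 ∧ m[g] 0 0 = p.1 * m[g] 2 0 ∧ m[g] 1 0 = p.2 * m[g] 2 0}

omit [Finite F] in
theorem col_mul {g h : S} : (fun i => m[g * h] i 0) = m[g] *ᵥ fun i => m[h] i 0 := by
  funext i
  simp [Matrix.mul_apply, Matrix.mulVec, dotProduct]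

omit [Finite F] in
/-- The first column of `g` moved by `g⁻¹`. -/
theorem mem_ptStab_of_col {g h : S} {l : F} (e : ∀ i, m[h] i 0 = l * m[g] i 0) : g⁻¹ * h ∈ ptStab := by
  have e' : (fun i => m[h] i 0) = l • fun i => m[g] i 0 := funext e
  have h1 : (fun i => m[g⁻¹ * h] i 0) = l • fun i => m[g⁻¹ * g] i 0 := by
    rw [col_mul, e', mulVec_smul, ← col_mul]
  rw [inv_mul_cancel] at h1
  exact mem_ptStab.2 ⟨by simpa [-Matrix.SpecialLinearGroup.coe_mul] using congrFun h1 1,
    by simpa [-Matrix.SpecialLinearGroup.coe_mul] using congrFun h1 2⟩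

variable {M : Subgroup (SpecialLinearGroup (Fin 3) F)} (hMi : M ≤ iso K)
include hMi

theorem relIndex_eq : (ptStab : Subgroup S).relIndex M = (Orb M).ncard + 1 := by
  classical
  have off : ∀ g ∈ M, g ∉ ptStab → m[g] 2 0 ≠ 0 := fun g hg hA => (exists_u_col K (hMi hg) hA).1
  let f : M ⧸ (ptStab : Subgroup S).subgroupOf M → Option (Orb M) := fun x =>
    if h : ((x.out : M) : S) ∈ ptStab then none
    else some ⟨(m[((x.out : M) : S)] 0 0 / m[((x.out : M) : S)] 2 0, m[((x.out : M) : S)] 1 0 / m[((x.out : M) : S)] 2 0),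
      _, (x.out : M).2, off _ (x.out : M).2 h, (div_mul_cancel₀ _ (off _ (x.out : M).2 h)).symm,
      (div_mul_cancel₀ _ (off _ (x.out : M).2 h)).symm⟩
  have hf : Function.Injective f := by
    intro x y e
    rw [← x.out_eq', ← y.out_eq']
    refine QuotientGroup.eq.2 (Subgroup.mem_subgroupOf.2 ?_)
    simp only [f] at e
    by_cases hx : ((x.out : M) : S) ∈ ptStab
    · by_cases hy : ((y.out : M) : S) ∈ ptStab
      · exact ptStab.mul_mem (ptStab.inv_mem hx) hy
      · rw [dif_pos hx, dif_neg hy] at e; exact absurd e (by simp)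
    · by_cases hy : ((y.out : M) : S) ∈ ptStab
      · rw [dif_neg hx, dif_pos hy] at e; exact absurd e (by simp)
      rw [dif_neg hx, dif_neg hy] at e
      simp only [Option.some.injEq, Subtype.mk.injEq] at e
      have n0 := off _ (x.out : M).2 hx
      obtain ⟨e0, e1⟩ := Prod.mk.inj (congrArg Subtype.val e)
      have n1 := off _ (y.out : M).2 hy
      refine mem_ptStab_of_col (l := m[((y.out : M) : S)] 2 0 / m[((x.out : M) : S)] 2 0) fun i => ?_
      fin_cases i
      · show m[((y.out : M) : S)] 0 0 = _ / _ * m[((x.out : M) : S)] 0 0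
        field_simp at e0 ⊢; linear_combination -e0
      · show m[((y.out : M) : S)] 1 0 = _ / _ * m[((x.out : M) : S)] 1 0
        field_simp at e1 ⊢; linear_combination -e1
      · show m[((y.out : M) : S)] 2 0 = _ / _ * m[((x.out : M) : S)] 2 0
        rw [div_mul_cancel₀ _ n0]
  have hs : Function.Surjective f := by
    rintro (_ | ⟨p, g, hg, g2, g0, g1⟩)
    · refine ⟨((1 : M) : M ⧸ _), ?_⟩
      simp only [f]
      rw [dif_pos]
      obtain ⟨h, e⟩ := QuotientGroup.mk_out_eq_mul ((ptStab : Subgroup S).subgroupOf M) (1 : M)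
      rw [e, one_mul]
      exact h.2
    · refine ⟨((⟨g, hg⟩ : M) : M ⧸ _), ?_⟩
      obtain ⟨h, e⟩ := QuotientGroup.mk_out_eq_mul ((ptStab : Subgroup S).subgroupOf M) (⟨g, hg⟩ : M)
      have hh : ((h : M) : S) ∈ ptStab := h.2
      have e' : ((((⟨g, hg⟩ : M) : M ⧸ (ptStab : Subgroup S).subgroupOf M).out : M) : S) = g * (h : M) := by rw [e]; rfl
      obtain ⟨h10, h20⟩ := mem_ptStab.1 hh
      have h00 : m[((h : M) : S)] 0 0 ≠ 0 := by
        intro e0
        have := Matrix.SpecialLinearGroup.det_coe ((h : M) : S)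
        rw [Matrix.det_fin_three, h10, h20, e0] at this
        simp at this
      have hcol : ∀ i, m[g * ((h : M) : S)] i 0 = m[g] i 0 * m[((h : M) : S)] 0 0 := fun i => by
        simp [Matrix.mul_apply, Fin.sum_univ_three, h10, h20]
      simp only [f]
      rw [dif_neg]
      · simp only [e', hcol, g0, g1, Option.some.injEq, Subtype.mk.injEq]
        ext <;> field_simp
      · rw [e']
        intro hA
        exact g2 (mem_ptStab.1 (show g ∈ ptStab by simpa using ptStab.mul_mem hA (ptStab.inv_mem hh))).2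
  rw [Subgroup.relIndex, Subgroup.index_eq_card, Nat.card_congr (Equiv.ofBijective f ⟨hf, hs⟩),
    Finite.card_option, Nat.card_coe_set_eq]

omit hMi in
theorem card_eq_mul : Nat.card M = (ptStab : Subgroup S).relIndex M * Nat.card (ptStab ⊓ M : Subgroup S) := by
  rw [← Subgroup.inf_relIndex_right, Subgroup.relIndex, mul_comm,
    ← Nat.card_congr (Subgroup.subgroupOfEquivOfLe (show ptStab ⊓ M ≤ M from inf_le_right)).toEquiv]
  exact ((ptStab ⊓ M).subgroupOf M).card_mul_index.symm

omit hMi in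
include K in
/-- The parameters of the root group. -/
theorem card_par : Nat.card {p : F × F // p.1 + K.bar p.1 + p.2 * K.bar p.2 = 0} = q ^ 3 := by
  classical
  choose c hc using fun b : F => HermSL.exists_par K b
  obtain ⟨θ, hθ0, hθ⟩ := exists_skew_ne K
  have hθb : K.bar θ = -θ := by linear_combination hθ
  have e : {p : F × F // p.1 + K.bar p.1 + p.2 * K.bar p.2 = 0} ≃ F × fixedField K.bar :=
    { toFun := fun p => (p.1.2, ⟨(p.1.1 - c p.1.2) / θ, show K.bar ((p.1.1 - c p.1.2) / θ) = (p.1.1 - c p.1.2) / θ by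
        rw [map_div₀, map_sub, hθb, div_eq_div_iff (neg_ne_zero.2 hθ0) hθ0]
        linear_combination θ * (p.2 - hc p.1.2)⟩)
      invFun := fun y => ⟨(c y.1 + θ * y.2, y.1), by
        show c y.1 + θ * y.2 + K.bar (c y.1 + θ * y.2) + y.1 * K.bar y.1 = 0
        rw [map_add, map_mul, hθb, show K.bar (y.2 : F) = y.2 from y.2.2]
        linear_combination hc y.1⟩
      left_inv := fun p => Subtype.ext (Prod.ext (by
        show c p.1.2 + θ * ((p.1.1 - c p.1.2) / θ) = p.1.1
        field_simp; ring) rfl)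
      right_inv := fun y => Prod.ext rfl (Subtype.ext (by
        show (c y.1 + θ * y.2 - c y.1) / θ = y.2
        field_simp; ring)) }
  rw [Nat.card_congr e, Nat.card_prod, K.card, card_fix K]
  ring

theorem orb_subset : Orb M ⊆ {p : F × F | p.1 + K.bar p.1 + p.2 * K.bar p.2 = 0} := by
  rintro ⟨c, b⟩ ⟨g, hg, g2, g0, g1⟩
  have h := isotropic_col K (hMi hg)
  simp only at g0 g1
  rw [g0, g1, map_mul, map_mul] at h
  have : (c + K.bar c + b * K.bar b) * (m[g] 2 0 * K.bar (m[g] 2 0)) = 0 := by linear_combination h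
  exact (mul_eq_zero.1 this).resolve_right (mul_ne_zero g2 (bar_ne_zero K g2))

theorem orb_le : (Orb M).ncard ≤ q ^ 3 := by
  rw [← card_par K]
  exact Set.ncard_le_ncard (orb_subset K hMi) (Set.toFinite _)

omit hMi in
include K in
theorem relIndex_iso : (ptStab : Subgroup S).relIndex (iso K) = q ^ 3 + 1 := by
  rw [relIndex_eq K le_rfl, ← card_par K]
  congr 1
  refine congrArg Set.ncard (subset_antisymm (orb_subset K le_rfl) ?_)
  rintro ⟨c, b⟩ (h : c + K.bar c + b * K.bar b = 0)
  refine ⟨u (-K.bar b) (-K.bar (-K.bar b)) c * w, (iso K).mul_mem (u_mem K (by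
    rw [map_neg, K.bar_bar]; linear_combination h)) (w_mem K), ?_, ?_, ?_⟩ <;>
    simp [Matrix.mul_apply, Fin.sum_univ_three, K.bar_bar]

omit hMi in
include K in
theorem card_iso_stab : Nat.card (ptStab ⊓ iso K : Subgroup S) = (q ^ 2 - 1) * q ^ 3 := by
  classical
  have hp : ∀ p : {p : F × F // p.1 + K.bar p.1 + p.2 * K.bar p.2 = 0},
      u p.1.2 (-K.bar p.1.2) p.1.1 ∈ (ptStab ⊓ iso K : Subgroup S) := fun p =>
    ⟨u_mem_ptStab _ _ _, u_mem K p.2⟩
  have ht : ∀ l : F, tor K l ∈ (ptStab ⊓ iso K : Subgroup S) := fun l =>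
    ⟨mem_ptStab.2 ⟨(tri_tor K l).1, (tri_tor K l).2.1⟩, tor_mem K l⟩
  let f : Fˣ × {p : F × F // p.1 + K.bar p.1 + p.2 * K.bar p.2 = 0} → (ptStab ⊓ iso K : Subgroup S) := fun y =>
    ⟨tor K (y.1 : F) * u y.2.1.2 (-K.bar y.2.1.2) y.2.1.1, mul_mem (ht _) (hp _)⟩
  have hf : Function.Bijective f := by
    constructor
    · rintro ⟨l, ⟨c, b⟩, h⟩ ⟨l', ⟨c', b'⟩, h'⟩ e
      have e' : tor K (l : F) * u b (-K.bar b) c = tor K (l' : F) * u b' (-K.bar b') c' := congrArg Subtype.val e
      have hll : (l : F) = l' := by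
        have := congrArg (fun g : S => m[g] 0 0) e'
        simpa [tor_coe K l.ne_zero, tor_coe K l'.ne_zero, Matrix.diagonal_mul] using this
      rw [hll] at e'
      obtain ⟨hb, -, hc⟩ := u_ext (mul_left_cancel e')
      exact Prod.ext (Units.ext hll) (Subtype.ext (Prod.ext hc hb))
    · rintro ⟨x, hA, hx⟩
      obtain ⟨a, c, h, e⟩ := decomp K hx (tri_of_stab K hx hA)
      exact ⟨(Units.mk0 _ (tri_of_stab K hx hA).ne_zero.1, ⟨(c, a), h⟩), Subtype.ext e.symm⟩
  rw [← Nat.card_congr (Equiv.ofBijective f hf), Nat.card_prod, card_par K, Nat.card_units, K.card]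

end CfsgLib.Classical.ThreeMax.SUThree
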