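import Cfsg.Agent.Lib.Classical.ThreeMax.SUFrame
import Cfsg.Agent.Lib.Classical.ThreeMax.SULine

/-!
Stabilisers of isotropic and of non-degenerate points are maximal in the special unitary group of dimension three.
-/

set_option autoImplicit false
set_option linter.unusedSectionVars false

namespace CfsgLib.Classical.ThreeMax.SUThree

open Matrix Cfsg CfsgLib.Classical.Herm
open CfsgLib.ClassicalAut (Unitary.Conj)
open CfsgLib.Classical.ThreeMax.HermSL (hj)
open scoped MatrixGroups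

variable {F : Type*} [Field F] [Finite F] {q : ℕ} (K : Unitary.Conj F q)

local notation "S" => SpecialLinearGroup (Fin 3) F
local notation "m[" g "]" => (((g : SpecialLinearGroup (Fin 3) F) : Matrix (Fin 3) (Fin 3) F))

/-- The stabiliser of a transported point in coordinates. -/
theorem mem_stab_span {P : GL (Fin 3) F} {v : Fin 3 → F} (hv : v ≠ 0) (s : S) :
    tr P s ∈ Cfsg.Geo.subspaceStabilizer (F ∙ ((P : Matrix (Fin 3) (Fin 3) F) *ᵥ v)) ↔
      ∃ c : F, m[s] *ᵥ v = c • v := by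
  have inj : Function.Injective fun x : Fin 3 → F => (P : Matrix (Fin 3) (Fin 3) F) *ᵥ x :=
    Matrix.mulVec_injective_iff_isUnit.2 P.isUnit
  constructor
  · intro h
    have := (h _).1 (Submodule.mem_span_singleton_self _)
    rw [SetLike.mem_coe, Submodule.mem_span_singleton] at this
    obtain ⟨c, hc⟩ := this
    refine ⟨c, inj ?_⟩
    show _ *ᵥ _ = _ *ᵥ _
    rw [← tr_mulVec, mulVec_smul]
    exact hc.symm
  · rintro ⟨c, hc⟩
    have hc0 : c ≠ 0 := fun e => hv (by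
      have h1 : m[s⁻¹] * m[s] = 1 := by show m[s⁻¹ * s] = 1; rw [inv_mul_cancel]; rfl
      rw [← one_mulVec v, ← h1, ← mulVec_mulVec, hc, e, zero_smul, mulVec_zero])
    intro x
    show x ∈ (F ∙ _) ↔ (tr P s : Matrix (Fin 3) (Fin 3) F) *ᵥ x ∈ (F ∙ _)
    rw [Submodule.mem_span_singleton, Submodule.mem_span_singleton]
    constructor
    · rintro ⟨d, rfl⟩
      exact ⟨d * c, by rw [mulVec_smul, tr_mulVec, hc, mulVec_smul, smul_smul]⟩
    · rintro ⟨d, hd⟩
      refine ⟨d / c, ?_⟩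
      refine (Matrix.mulVec_injective_iff_isUnit.2 (tr P s).isUnit) ?_
      show _ *ᵥ _ = _ *ᵥ _
      rw [← hd, mulVec_smul, tr_mulVec, hc, mulVec_smul, smul_smul, div_mul_cancel₀ _ hc0]

include K

/-- Stabilisers of totally singular subspaces. -/
theorem isMaximalIn_singular {W : Submodule F (Fin 3 → F)} (hW : W ≠ ⊥)
    (hs : Cfsg.Geo.IsTotallySingularFor (hermForm 3 F q) W) :
    Cfsg.Geo.IsMaximalIn (GU 3 F q ⊓ Cfsg.Geo.specialLinear (Fin 3) F)
      (Cfsg.Geo.subspaceStabilizer W ⊓ (GU 3 F q ⊓ Cfsg.Geo.specialLinear (Fin 3) F)) := by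
  obtain ⟨a, ha, ha0⟩ := Submodule.exists_mem_ne_zero_of_ne_bot hW
  obtain ⟨P, hP, hPa⟩ := frame_iso K ha0 (hs a ha a ha)
  have hWa : W = F ∙ a := le_antisymm (fun x hx => by
    obtain ⟨x', rfl⟩ : ∃ x', x = (P : Matrix (Fin 3) (Fin 3) F) *ᵥ x' :=
      ⟨(↑P⁻¹ : Matrix (Fin 3) (Fin 3) F) *ᵥ x, by rw [mulVec_mulVec, Units.mul_inv, one_mulVec]⟩
    have h1 := hs _ hx a ha
    have h2 := hs _ hx _ hx
    rw [← hPa, hP] at h1
    rw [hP] at h2
    simp [hj] at h1 h2
    simp [h1] at h2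
    refine Submodule.mem_span_singleton.2 ⟨x' 0, ?_⟩
    rw [← hPa, ← mulVec_smul]
    congr 1
    funext i; fin_cases i <;> simp [h1, h2]) ((Submodule.span_singleton_le_iff_mem _ _).2 ha)
  rw [hWa, ← hPa]
  refine isMaximalIn_of_iso K hP {s | s ∈ ptStab} (fun s _ => ?_) ⟨w, w_mem K, ?_⟩ fun M hMi hM => ?_
  · rw [mem_stab_span (by simp), Set.mem_setOf_eq, mem_ptStab]
    constructor
    · rintro ⟨c, hc⟩
      exact ⟨by simpa [Matrix.mulVec, dotProduct, Fin.sum_univ_three] using congrFun hc 1,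
        by simpa [Matrix.mulVec, dotProduct, Fin.sum_univ_three] using congrFun hc 2⟩
    · rintro ⟨h1, h2⟩
      refine ⟨m[s] 0 0, ?_⟩
      funext i; fin_cases i <;> simp [Matrix.mulVec, dotProduct, Fin.sum_univ_three, h1, h2]
  · intro h
    have := (mem_ptStab.1 h).2
    simp at this
  · by_cases hall : ∀ s ∈ M, s ∈ ptStab
    · exact Or.inr hall
    · push Not at hall
      exact Or.inl (top_of_borel K hMi
        (fun a c h => hM _ (u_mem K h) (mem_ptStab.2 ⟨by simp, by simp⟩))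
        (fun l => hM _ (tor_mem K l) (mem_ptStab.2 ⟨(tri_tor K l).1, (tri_tor K l).2.1⟩)) hall)

/-- An isometry fixing the middle coordinate point also fixes its orthogonal line. -/
theorem middle_of_row {g : S} (hg : g ∈ iso K) (h10 : m[g] 1 0 = 0) (h12 : m[g] 1 2 = 0) :
    m[g] 0 1 = 0 ∧ m[g] 2 1 = 0 := by
  have a := mem_iso K |>.1 hg ![0, 1, 0] ![1, 0, 0]
  have b := mem_iso K |>.1 hg ![0, 1, 0] ![0, 0, 1]
  simp [hj, Matrix.mulVec, dotProduct, Fin.sum_univ_three, h10, h12] at a b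
  have hd := Matrix.SpecialLinearGroup.det_coe g
  rw [Matrix.det_fin_three, h10, h12] at hd
  obtain ⟨D, hD⟩ : ∃ D, D = m[g] 0 0 * m[g] 2 2 - m[g] 0 2 * m[g] 2 0 := ⟨_, rfl⟩
  have hD0 : D ≠ 0 := fun e => one_ne_zero (α := F) (by linear_combination -hd + m[g] 1 1 * (hD.symm.trans e))
  have hD' := bar_ne_zero K hD0
  constructor
  · refine (mul_eq_zero.1 (?_ : m[g] 0 1 * K.bar D = 0)).resolve_right hD'
    rw [hD, map_sub, map_mul, map_mul]
    linear_combination (-(K.bar (m[g] 0 2))) * a + K.bar (m[g] 0 0) * b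
  · refine (mul_eq_zero.1 (?_ : m[g] 2 1 * K.bar D = 0)).resolve_right hD'
    rw [hD, map_sub, map_mul, map_mul]
    linear_combination K.bar (m[g] 2 2) * a - K.bar (m[g] 2 0) * b

/-- Stabilisers of non-degenerate points. -/
theorem isMaximalIn_aniso (hq : 3 ≤ q) {W : Submodule F (Fin 3 → F)} (hW : W ≠ ⊥)
    (hn : Cfsg.Geo.IsNondegenerateOn (hermForm 3 F q) W) (hd : 2 * Module.finrank F W < 3) :
    Cfsg.Geo.IsMaximalIn (GU 3 F q ⊓ Cfsg.Geo.specialLinear (Fin 3) F)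
      (Cfsg.Geo.subspaceStabilizer W ⊓ (GU 3 F q ⊓ Cfsg.Geo.specialLinear (Fin 3) F)) := by
  obtain ⟨p, hp, hp0⟩ := Submodule.exists_mem_ne_zero_of_ne_bot hW
  have hWp : F ∙ p = W := Submodule.eq_of_le_of_finrank_le ((Submodule.span_singleton_le_iff_mem _ _).2 hp)
    (by rw [finrank_span_singleton hp0]; omega)
  have hpp : hermForm 3 F q p p ≠ 0 := by
    obtain ⟨⟨x, hx, hxp⟩, -⟩ := hn p hp hp0
    rw [← hWp] at hx
    obtain ⟨c, rfl⟩ := Submodule.mem_span_singleton.1 hx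
    exact fun e => hxp (by rw [h_smul_left K, e, mul_zero])
  obtain ⟨t, ht⟩ := K.exists_norm (hermForm 3 F q p p)⁻¹ (by rw [map_inv₀, bar_self K])
  have ht0 : t ≠ 0 := fun e => inv_ne_zero hpp (by rw [← ht, e, zero_mul])
  obtain ⟨P, hP, hPz⟩ := frame_unit K (z := t • p)
    (by rw [h_smul_left K, h_smul_right K, ← mul_assoc, ht, inv_mul_cancel₀ hpp])
  rw [← hWp, show F ∙ p = F ∙ (t • p) from (Submodule.span_singleton_smul_eq (Ne.isUnit ht0) p).symm, ← hPz]
  refine isMaximalIn_of_iso K hP {s | m[s] 0 1 = 0 ∧ m[s] 2 1 = 0} (fun s _ => ?_) ?_ fun M hMi hM => ?_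
  · rw [mem_stab_span (by simp), Set.mem_setOf_eq]
    constructor
    · rintro ⟨c, hc⟩
      exact ⟨by simpa [Matrix.mulVec, dotProduct, Fin.sum_univ_three] using congrFun hc 0,
        by simpa [Matrix.mulVec, dotProduct, Fin.sum_univ_three] using congrFun hc 2⟩
    · rintro ⟨h1, h2⟩
      refine ⟨m[s] 1 1, ?_⟩
      funext i; fin_cases i <;> simp [Matrix.mulVec, dotProduct, Fin.sum_univ_three, h1, h2]
  · obtain ⟨c, hc⟩ := HermSL.exists_par K 1
    exact ⟨(u (1 : F) (-K.bar 1) c), u_mem K hc, fun h => one_ne_zero (α := F) (by simpa using h.1)⟩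
  by_cases hall : ∀ s ∈ M, m[s] 0 1 = 0 ∧ m[s] 2 1 = 0
  · exact Or.inr hall
  left
  push Not at hall
  obtain ⟨g, hgM, hg⟩ := hall
  have hz : ∀ c : F, c + K.bar c = 0 → u 0 0 c ∈ M := fun c hc => hM _ (z_mem K hc) ⟨by simp, by simp⟩
  have hw : (w : S) ∈ M := hM _ (w_mem K) ⟨by simp, by simp⟩
  have hlo : ∀ c : F, c + K.bar c = 0 → lo c ∈ M := fun c hc => by
    rw [lo_eq]; exact M.mul_mem (M.mul_mem hw (hz c hc)) hw
  have key : ∀ n : S, n ∈ M → m[n] 1 0 ≠ 0 → M = iso K := fun n hn h1 => by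
    have hi := isotropic_col K (hMi hn)
    have h20 : m[n] 2 0 ≠ 0 := fun e => h1 (by simpa [e] using hi)
    exact top_of_line K hMi hz hlo hq (div_ne_zero h1 h20)
      (cen_of_by K ⟨hMi hn, fun c hc => M.mul_mem (M.mul_mem hn (hz c hc)) (M.inv_mem hn)⟩ h20)
  by_cases h10 : m[g] 1 0 = 0
  · refine key (g * w) (M.mul_mem hgM hw) fun h => ?_
    have h12 : m[g] 1 2 = 0 := by simpa [Matrix.mul_apply, Fin.sum_univ_three] using h
    obtain ⟨a, b⟩ := middle_of_row K (hMi hgM) h10 h12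
    exact hg a b
  · exact key g hgM h10

end CfsgLib.Classical.ThreeMax.SUThree
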