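import Cfsg.Agent.Lib.Classical.ThreeMax.SUFrame
import Cfsg.Agent.Lib.Classical.ThreeMax.SULine
import Cfsg.Agent.Lib.Classical.AschUnitBasic
import Cfsg.Agent.Lib.Classical.PrimeDimDescent

/-!
Subfield structures of odd degree on the three-dimensional hermitian space: rational hyperbolic coordinates.
-/

set_option autoImplicit false
set_option linter.unusedSectionVars false

namespace CfsgLib.Classical.ThreeMax.SUThree

open Matrix Cfsg CfsgLib.Classical.Herm
open CfsgLib.ClassicalAut (Unitary.Conj)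
open CfsgLib.Classical.ThreeMax.HermSL (hj)
open scoped MatrixGroups

variable {F : Type*} [Field F] [Finite F] {q : ℕ} (K : Unitary.Conj F q)

local notation "S" => SpecialLinearGroup (Fin 3) F
local notation "H" => hermForm 3 F q
local notation "m[" g "]" => (((g : SpecialLinearGroup (Fin 3) F) : Matrix (Fin 3) (Fin 3) F))

/-- An element whose entries are rational up to one scalar. -/
def Rt (F₀ : Subfield F) (s : SpecialLinearGroup (Fin 3) F) : Prop :=
  ∃ c : F, c ≠ 0 ∧ ∀ i j, m[s] i j / c ∈ F₀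

theorem Rt.of_entries {F₀ : Subfield F} {s : S} (h : ∀ i j, m[s] i j ∈ F₀) : Rt F₀ s :=
  ⟨1, one_ne_zero, fun i j => by rw [div_one]; exact h i j⟩

theorem Rt.mul {F₀ : Subfield F} {s t : S} (hs : Rt F₀ s) (ht : Rt F₀ t) : Rt F₀ (s * t) := by
  obtain ⟨c, hc, hs⟩ := hs
  obtain ⟨d, hd, ht⟩ := ht
  refine ⟨c * d, mul_ne_zero hc hd, fun i j => ?_⟩
  show (m[s] * m[t]) i j / (c * d) ∈ F₀
  rw [Matrix.mul_apply, Finset.sum_div]
  refine F₀.sum_mem fun k _ => ?_
  rw [mul_div_mul_comm]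
  exact F₀.mul_mem (hs i k) (ht k j)

theorem rt_w (F₀ : Subfield F) : Rt F₀ (w : S) :=
  Rt.of_entries fun i j => by fin_cases i <;> fin_cases j <;> simp [F₀.one_mem, F₀.zero_mem, F₀.neg_mem]

theorem rt_u {F₀ : Subfield F} {a b c : F} (ha : a ∈ F₀) (hb : b ∈ F₀) (hc : c ∈ F₀) : Rt F₀ (u a b c : S) :=
  Rt.of_entries fun i j => by fin_cases i <;> fin_cases j <;> simp [F₀.one_mem, F₀.zero_mem, ha, hb, hc]

/-- A larger subfield of a field of prime degree over a smaller one is everything. -/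
theorem subfield_top_of_prime {E : Type*} [Field E] [Finite E] {A B : Subfield E} {r : ℕ} (hr : r.Prime)
    (hcard : Nat.card E = Nat.card A ^ r) (hle : A ≤ B) {c : E} (hc : c ∈ B) (hcA : c ∉ A) : B = ⊤ :=
  eq_top_iff.2 fun x _ => show x ∈ (B : Set E) from CfsgLib.Classical.MinIndex.Subfield.eq_univ_of_closed hr hcard (fun _ ha => hle ha)
    (fun _ ha _ hb => B.add_mem ha hb) (fun _ ha _ hb => B.mul_mem ha hb) hc hcA x

include K

theorem hj_expand (x y : Fin 3 → F) {Q : GL (Fin 3) F}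
    (h : ∀ i j : Fin 3, H ((Q : Matrix (Fin 3) (Fin 3) F) *ᵥ Pi.single i 1) ((Q : Matrix (Fin 3) (Fin 3) F) *ᵥ Pi.single j 1) =
      hj K (Pi.single i 1) (Pi.single j 1)) :
    H ((Q : Matrix (Fin 3) (Fin 3) F) *ᵥ x) ((Q : Matrix (Fin 3) (Fin 3) F) *ᵥ y) = hj K x y := by
  have e : ∀ z : Fin 3 → F, (Q : Matrix (Fin 3) (Fin 3) F) *ᵥ z =
      z 0 • ((Q : Matrix (Fin 3) (Fin 3) F) *ᵥ Pi.single 0 1) + z 1 • ((Q : Matrix (Fin 3) (Fin 3) F) *ᵥ Pi.single 1 1) +
        z 2 • ((Q : Matrix (Fin 3) (Fin 3) F) *ᵥ Pi.single 2 1) := fun z => by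
    funext i
    simp [Matrix.mulVec, dotProduct, Fin.sum_univ_three]
    ring
  rw [e x, e y]
  simp only [h_add_left K, h_add_right K, h_smul_left K, h_smul_right K, h]
  simp [hj]

/-- Hyperbolic coordinates inside a rational structure of odd degree. -/
theorem exists_rat_frame {F₀ : Subfield F} {r : ℕ} {P : GL (Fin 3) F} (hr : r ≠ 0) (hodd : Odd r)
    (hcard : Nat.card F = Nat.card F₀ ^ r) (hrat : Cfsg.Geo.IsFormRationalStructure H F₀ 1 P) :
    ∃ (q₀ : ℕ) (K₀ : Unitary.Conj F₀ q₀) (Q : GL (Fin 3) F), (∀ c : F₀, (K₀.bar c : F) = K.bar c) ∧ q = q₀ ^ r ∧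
      (∀ x y, H ((Q : Matrix (Fin 3) (Fin 3) F) *ᵥ x) ((Q : Matrix (Fin 3) (Fin 3) F) *ᵥ y) = hj K x y) ∧
      Cfsg.Geo.subfieldSubgroup F₀ Q = Cfsg.Geo.subfieldSubgroup F₀ P := by
  classical
  have bmem : ∀ {c : F}, c ∈ F₀ → K.bar c ∈ F₀ := fun hc => by rw [K.bar_apply]; exact pow_mem hc q
  let σ : F₀ →+* F₀ :=
    { toFun := fun c => ⟨K.bar c, bmem c.2⟩
      map_one' := Subtype.ext (map_one K.bar)
      map_mul' := fun c d => Subtype.ext (map_mul K.bar _ _)
      map_zero' := Subtype.ext (map_zero K.bar)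
      map_add' := fun c d => Subtype.ext (map_add K.bar _ _) }
  have hσb : Function.Bijective σ := Function.bijective_iff_has_inverse.2
    ⟨σ, fun c => Subtype.ext (K.bar_bar _), fun c => Subtype.ext (K.bar_bar _)⟩
  have hmem : ∀ u v : Fin 3 → F₀, H ((P : Matrix (Fin 3) (Fin 3) F) *ᵥ fun i => (u i : F))
      ((P : Matrix (Fin 3) (Fin 3) F) *ᵥ fun i => (v i : F)) ∈ F₀ := fun u v => by
    have := hrat _ _ (fun i => (u i).2) (fun i => (v i).2)
    rwa [one_mul] at this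
  let f : (Fin 3 → F₀) → (Fin 3 → F₀) → F₀ := fun u v => ⟨_, hmem u v⟩
  have hf : Cfsg.Geo.IsUnitaryForm (RingEquiv.ofBijective σ hσb) f := by
    refine ⟨fun e => ?_, fun c => Subtype.ext (K.bar_bar _), fun x y v => Subtype.ext ?_, fun c x v => Subtype.ext ?_,
      fun v w => Subtype.ext ?_, fun v hv => ?_⟩
    · cases nonempty_fintype F
      obtain ⟨y, hy, hne⟩ := Asch.exists_moved_mem K hodd (by rw [← Nat.card_eq_fintype_card, hcard])
      exact hne (congrArg Subtype.val (RingEquiv.congr_fun e ⟨y, hy⟩))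
    · show H _ _ = H _ _ + H _ _
      rw [← h_add_left K, ← mulVec_add]
      rfl
    · show H _ _ = (c : F) * H _ _
      rw [← h_smul_left K, ← mulVec_smul]
      rfl
    · exact h_swap K _ _
    · have hv' : ((P : Matrix (Fin 3) (Fin 3) F) *ᵥ fun i => (v i : F)) ≠ 0 := fun e => hv (funext fun i =>
        Subtype.ext (congrFun (Matrix.mulVec_injective_of_isUnit P.isUnit (e.trans (mulVec_zero _).symm)) i))
      obtain ⟨j, hj'⟩ : ∃ j, H ((P : Matrix (Fin 3) (Fin 3) F) *ᵥ Pi.single j 1)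
          ((P : Matrix (Fin 3) (Fin 3) F) *ᵥ fun i => (v i : F)) ≠ 0 := by
        by_contra hc
        push Not at hc
        refine hv' (h_nondeg K fun z => h_eq_zero_symm K ?_)
        obtain ⟨z', rfl⟩ : ∃ z', z = (P : Matrix (Fin 3) (Fin 3) F) *ᵥ z' :=
          ⟨(↑P⁻¹ : Matrix (Fin 3) (Fin 3) F) *ᵥ z, by rw [mulVec_mulVec, Units.mul_inv, one_mulVec]⟩
        rw [show z' = z' 0 • Pi.single 0 1 + z' 1 • Pi.single 1 1 + z' 2 • Pi.single 2 1 by
          funext i; fin_cases i <;> simp]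
        simp only [mulVec_add, mulVec_smul, h_add_left K, h_smul_left K, hc, mul_zero, add_zero]
      have ej : (fun i => ((Pi.single j (1 : F₀) : Fin 3 → F₀) i : F)) = Pi.single j 1 := funext fun i => by
        rcases eq_or_ne i j with rfl | h <;> simp [*]
      refine ⟨⟨Pi.single j 1, fun e => hj' ?_⟩, ⟨Pi.single j 1, fun e => hj' ?_⟩⟩
      · rw [← ej]; exact congrArg Subtype.val e
      · rw [← ej]; exact h_eq_zero_symm K (congrArg Subtype.val e)
  obtain ⟨q₀, ⟨K₀⟩, P₀, hP₀⟩ := HermSim.exists_coord _ f hf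
  obtain ⟨ζ, hζ⟩ := K₀.exists_norm (-1) (by rw [map_neg, map_one])
  obtain ⟨P₂, hP₂, -⟩ := frame_iso K₀ (a := ![1, ζ, 0])
    (fun e => one_ne_zero (α := F₀) (by simpa using congrFun e 0))
    (by rw [ClassicalAut.Unitary.herm_apply K₀, Fin.sum_univ_three]; simp [hζ])
  obtain ⟨N, hN⟩ : ∃ N, N = Matrix.GeneralLinearGroup.map (F₀.subtype : F₀ →+* F) (P₀ * P₂) := ⟨_, rfl⟩
  have hNv : ∀ u : Fin 3 → F₀, (N : Matrix (Fin 3) (Fin 3) F) *ᵥ (fun i => (u i : F)) =
      fun i => ((((P₀ * P₂ : GL (Fin 3) F₀) : Matrix (Fin 3) (Fin 3) F₀) *ᵥ u) i : F) := fun u => by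
    funext i
    rw [hN]
    exact (RingHom.map_mulVec (F₀.subtype : F₀ →+* F) _ u i).symm
  have key : ∀ u v : Fin 3 → F₀, H (((P * N : GL (Fin 3) F) : Matrix (Fin 3) (Fin 3) F) *ᵥ fun i => (u i : F))
      (((P * N : GL (Fin 3) F) : Matrix (Fin 3) (Fin 3) F) *ᵥ fun i => (v i : F)) = (hj K₀ u v : F₀) := fun u v => by
    rw [Units.val_mul, ← mulVec_mulVec, ← mulVec_mulVec, hNv, hNv, ← hP₂, ← hP₀]
    simp only [Units.val_mul, mulVec_mulVec]
    rfl
  have hbar : ∀ c : F₀, (K₀.bar c : F) = K.bar c := fun c => by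
    have h1 := key (Pi.single 0 1) (c • Pi.single 2 1)
    have h2 := key (Pi.single 0 1) (Pi.single 2 1)
    rw [show (fun i => ((c • Pi.single 2 1 : Fin 3 → F₀) i : F)) =
      (c : F) • fun i => ((Pi.single 2 1 : Fin 3 → F₀) i : F) from rfl, mulVec_smul, h_smul_right K, h2] at h1
    simpa [hj] using h1.symm
  refine ⟨q₀, K₀, P * N, hbar, ?_, fun x y => hj_expand K x y fun i j => ?_, ?_⟩
  · have h := K.card
    rw [hcard, K₀.card, ← pow_mul, Nat.mul_comm, pow_mul] at h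
    exact (Nat.pow_left_injective two_ne_zero h).symm
  · have ei : ∀ i : Fin 3, (fun t => ((Pi.single i (1 : F₀) : Fin 3 → F₀) t : F)) = Pi.single i 1 := fun i =>
      funext fun t => by rcases eq_or_ne t i with rfl | h <;> simp [*]
    have := key (Pi.single i 1) (Pi.single j 1)
    rw [ei, ei] at this
    rw [this]
    fin_cases i <;> fin_cases j <;> simp [hj]
  · rw [Cfsg.Geo.subfieldSubgroup, Cfsg.Geo.subfieldSubgroup, show (MulAut.conj (P * N)).toMonoidHom =
      (MulAut.conj P).toMonoidHom.comp (MulAut.conj N).toMonoidHom from MonoidHom.ext fun g => by simp [mul_assoc],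
      ← Subgroup.map_map]
    · congr 1
      have hNm : N ∈ (Matrix.GeneralLinearGroup.map (F₀.subtype : F₀ →+* F)).range ⊔ Cfsg.Geo.scalars (Fin 3) F :=
        Subgroup.mem_sup_left ⟨_, hN.symm⟩
      refine le_antisymm ?_ fun g hg => ?_
      · rintro _ ⟨g, hg, rfl⟩
        exact mul_mem (mul_mem hNm hg) (inv_mem hNm)
      · exact ⟨N⁻¹ * g * N, mul_mem (mul_mem (inv_mem hNm) hg) hNm, by simp [mul_assoc]⟩

end CfsgLib.Classical.ThreeMax.SUThree
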