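import Cfsg.Agent.Lib.Classical.ThreeMax.SURat
import Cfsg.Agent.Lib.SL2.TwoRoots

/-!
Rational elements of the special unitary group of dimension three, and the long root plane.
-/

set_option autoImplicit false
set_option linter.unusedSectionVars false

namespace CfsgLib.Classical.ThreeMax.SUThree

open Matrix
open CfsgLib.ClassicalAut (Unitary.Conj)
open CfsgLib.Classical.ThreeMax.HermSL (hj)
open CfsgLib.AutPSL (fixedField)
open scoped MatrixGroups

variable {F : Type*} [Field F] [Finite F] {q : ℕ} (K : Unitary.Conj F q)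

local notation "S" => SpecialLinearGroup (Fin 3) F
local notation "m[" g "]" => (((g : SpecialLinearGroup (Fin 3) F) : Matrix (Fin 3) (Fin 3) F))

/-- A matrix of the plane of the two long root groups. -/
def planeElt {θ : F} (hθ : θ ≠ 0) (g : SpecialLinearGroup (Fin 2) (fixedField K.bar)) :
    SpecialLinearGroup (Fin 3) F :=
  ⟨!![((g : Matrix (Fin 2) (Fin 2) (fixedField K.bar)) 0 0 : F), 0, θ * (g : Matrix (Fin 2) (Fin 2) (fixedField K.bar)) 0 1;
      0, 1, 0;
      ((g : Matrix (Fin 2) (Fin 2) (fixedField K.bar)) 1 0 : F) / θ, 0, (g : Matrix (Fin 2) (Fin 2) (fixedField K.bar)) 1 1], by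
    have h := congrArg (fun y : fixedField K.bar => (y : F)) g.2
    simp only [Matrix.det_fin_two] at h
    push_cast at h
    have e : ∀ b c : F, θ * b * (c / θ) = b * c := fun b c => by field_simp
    simp [Matrix.det_fin_three, e]
    linear_combination h⟩

theorem planeElt_coe {θ : F} (hθ : θ ≠ 0) (g : SpecialLinearGroup (Fin 2) (fixedField K.bar)) :
    m[planeElt K hθ g] =
      !![((g : Matrix (Fin 2) (Fin 2) (fixedField K.bar)) 0 0 : F), 0, θ * (g : Matrix (Fin 2) (Fin 2) (fixedField K.bar)) 0 1;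
      0, 1, 0;
      ((g : Matrix (Fin 2) (Fin 2) (fixedField K.bar)) 1 0 : F) / θ, 0, (g : Matrix (Fin 2) (Fin 2) (fixedField K.bar)) 1 1] :=
  rfl

/-- The plane of the two long root groups. -/
def plane {θ : F} (hθ : θ ≠ 0) : SpecialLinearGroup (Fin 2) (fixedField K.bar) →* SpecialLinearGroup (Fin 3) F where
  toFun := planeElt K hθ
  map_one' := by ext i j; fin_cases i <;> fin_cases j <;> simp [planeElt_coe]
  map_mul' g h := by
    ext i j
    fin_cases i <;> fin_cases j <;>
      simp [planeElt_coe, Matrix.mul_apply, Fin.sum_univ_two, Fin.sum_univ_three] <;> field_simp <;> ring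

theorem plane_up {θ : F} (hθ : θ ≠ 0) (t : fixedField K.bar) :
    plane K hθ (SL2.up t) = u 0 0 (θ * t) := by
  show planeElt K hθ _ = _
  ext i j
  fin_cases i <;> fin_cases j <;> simp [planeElt_coe, SL2.up_coe]

theorem plane_lo {θ : F} (hθ : θ ≠ 0) (t : fixedField K.bar) :
    plane K hθ (SL2.lo t) = lo ((t : F) / θ) := by
  show planeElt K hθ _ = _
  ext i j
  fin_cases i <;> fin_cases j <;> simp [planeElt_coe, SL2.lo_coe]

theorem card_fix : Nat.card (fixedField K.bar) = q := by
  have h2 := CfsgLib.AutPSL.card_fixedField_pow K.orderOf_bar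
  rw [K.card] at h2
  exact Nat.pow_left_injective two_ne_zero h2

variable {F₀ : Subfield F}

theorem bar_mem' {c : F} (hc : c ∈ F₀) : K.bar c ∈ F₀ := by
  rw [K.bar_apply]; exact pow_mem hc q

variable {q₀ : ℕ} (K₀ : Unitary.Conj F₀ q₀) (hbar : ∀ c : F₀, (K₀.bar c : F) = K.bar c)
include hbar

theorem card_rat_fix : Nat.card (F₀.comap (fixedField K.bar).subtype) = q₀ := by
  rw [← card_fix K₀]
  exact Nat.card_congr
    { toFun := fun c => ⟨⟨((c : fixedField K.bar) : F), c.2⟩, show K₀.bar _ = _ from Subtype.ext (by rw [hbar]; exact c.1.2)⟩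
      invFun := fun c => ⟨⟨((c : F₀) : F), (hbar _).symm.trans (congrArg (fun y : F₀ => (y : F)) c.2)⟩, c.1.2⟩
      left_inv := fun c => Subtype.ext (Subtype.ext rfl)
      right_inv := fun c => Subtype.ext (Subtype.ext rfl) }

theorem exists_skew_rat : ∃ θ ∈ F₀, θ ≠ 0 ∧ θ + K.bar θ = 0 := by
  obtain ⟨θ, h0, h⟩ := exists_skew_ne K₀
  refine ⟨θ, θ.2, fun e => h0 (Subtype.ext e), ?_⟩
  rw [← hbar]
  exact congrArg (fun y : F₀ => (y : F)) h

theorem exists_moved_rat : ∃ y ∈ F₀, K.bar y ≠ y := by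
  obtain ⟨y, hy⟩ := K₀.exists_moved
  exact ⟨y, y.2, fun e => hy (Subtype.ext ((hbar y).trans e))⟩

theorem exists_par_rat {a : F} (ha : a ∈ F₀) : ∃ c ∈ F₀, c + K.bar c + a * K.bar a = 0 := by
  obtain ⟨c, hc⟩ := HermSL.exists_par K₀ (⟨a, ha⟩ : F₀)
  refine ⟨c, c.2, ?_⟩
  have := congrArg (fun y : F₀ => (y : F)) hc
  push_cast at this
  rw [hbar, hbar] at this
  exact this

end CfsgLib.Classical.ThreeMax.SUThree
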