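import Cfsg.Agent.Lib.Classical.ThreeMax.SURatBasic
import Cfsg.Agent.Lib.Classical.UnitaryDecompMax.Scalars

/-!
A subfield group of odd degree in the three-dimensional unitary group: what an overgroup has in the point
stabiliser, and that it is the subfield group once first columns have rational norms.
-/

set_option autoImplicit false
set_option linter.unusedSectionVars false

namespace CfsgLib.Classical.ThreeMax.SUThree

open Matrix
open CfsgLib.ClassicalAut (Unitary.Conj)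
open CfsgLib.Classical.ThreeMax.HermSL (hj)
open CfsgLib.AutPSL (fixedField)
open scoped MatrixGroups commutatorElement

variable {F : Type*} [Field F] [Finite F] {q : ℕ} (K : Unitary.Conj F q)

local notation "S" => SpecialLinearGroup (Fin 3) F
local notation "m[" g "]" => (((g : SpecialLinearGroup (Fin 3) F) : Matrix (Fin 3) (Fin 3) F))

theorem conj_z_iso {g : S} (hg : g ∈ iso K) (hA : g ∈ ptStab) (c : F) :
    g * u 0 0 c * g⁻¹ = u 0 0 (c * (m[g] 0 0 * K.bar (m[g] 0 0))) := by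
  have hT := tri_of_stab K hg hA
  have hz := conj_z hA c
  rw [hT.inv.2.2, hT.inv_diag.2.2] at hz
  simp only [mul_zero] at hz
  rw [hz]
  have h02 := mem_iso K |>.1 hg ![1, 0, 0] ![0, 0, 1]
  simp [hj, Matrix.mulVec, dotProduct, Fin.sum_univ_three, hT.1, hT.2.1] at h02
  have h20 := congrArg K.bar h02
  rw [map_mul, K.bar_bar, map_one] at h20
  have e : m[g] 0 0 * m[g] 1 1 = K.bar (m[g] 0 0) := by
    linear_combination K.bar (m[g] 0 0) * hT.diag - m[g] 0 0 * m[g] 1 1 * h20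
  rw [e]
  congr 1
  ring

/-- A conjugate of a long root element whose centre is the last point. -/
theorem conj_lo {h : S} (hh : h ∈ iso K) (h0 : m[h] 0 0 = 0) (h1 : m[h] 1 0 = 0) (c : F) :
    h * u 0 0 c * h⁻¹ = lo (c * (m[h] 2 0 * K.bar (m[h] 2 0))) := by
  have hA : (w : S) * h ∈ ptStab := by
    refine mem_ptStab.2 ⟨?_, ?_⟩ <;> simp [Matrix.mul_apply, Fin.sum_univ_three, h0, h1]
  have e := conj_z_iso K ((iso K).mul_mem (w_mem K) hh) hA c
  rw [show m[(w : S) * h] 0 0 = m[h] 2 0 by simp [Matrix.mul_apply, Fin.sum_univ_three]] at e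
  rw [lo_eq, ← e]
  simp only [mul_assoc, _root_.mul_inv_rev]
  rw [← mul_assoc (w : S) w, w_mul_w, one_mul, show (w : S)⁻¹ * w = 1 from inv_mul_cancel _, mul_one]

/-- Conjugating a root element by a torus element. -/
theorem diag_tor {x : S} (hx : x ∈ iso K) (hA : x ∈ ptStab) :
    m[x] 1 1 = K.bar (m[x] 0 0) / m[x] 0 0 := by
  obtain ⟨a, c, -, e⟩ := decomp K hx (tri_of_stab K hx hA)
  have n0 := (tri_of_stab K hx hA).ne_zero.1
  conv_lhs => rw [e]
  simp [tor_coe K n0, Matrix.diagonal_mul]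

variable {F₀ : Subfield F} {q₀ : ℕ} (K₀ : Unitary.Conj F₀ q₀) (hbar : ∀ c : F₀, (K₀.bar c : F) = K.bar c)
  {r : ℕ} (hr : r.Prime) (hodd : Odd r) (hcard : Nat.card F = Nat.card F₀ ^ r) (hq : q = q₀ ^ r)
  {M : Subgroup (SpecialLinearGroup (Fin 3) F)} (hMi : M ≤ iso K)
  (hM : ∀ s ∈ iso K, Rt F₀ s → s ∈ M) (hne : M ≠ iso K)

include hbar hr hodd hcard hq hMi hM hne

theorem u_rat_mem {a c : F} (ha : a ∈ F₀) (hc : c ∈ F₀) (h : c + K.bar c + a * K.bar a = 0) :
    u a (-K.bar a) c ∈ M :=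
  hM _ (u_mem K h) (rt_u ha (F₀.neg_mem (bar_mem' K ha)) hc)

theorem z_rat_mem {c : F} (hc : c ∈ F₀) (h : c + K.bar c = 0) : u 0 0 c ∈ M :=
  hM _ (z_mem K h) (rt_u F₀.zero_mem F₀.zero_mem hc)

theorem lo_rat_mem {c : F} (hc : c ∈ F₀) (h : c + K.bar c = 0) : lo c ∈ M := by
  rw [lo_eq]
  exact M.mul_mem (M.mul_mem (hM _ (w_mem K) (rt_w F₀)) (z_rat_mem K K₀ hbar hr hodd hcard hq hMi hM hne hc h))
    (hM _ (w_mem K) (rt_w F₀))

omit hodd hMi hM hne in
theorem card_fix_pow :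
    Nat.card (fixedField K.bar) = Nat.card (F₀.comap (fixedField K.bar).subtype) ^ r := by
  rw [card_fix K, card_rat_fix K K₀ hbar, hq]

omit hodd hMi hM hne in
theorem fix_top {B : Subfield (fixedField K.bar)} (hle : F₀.comap (fixedField K.bar).subtype ≤ B)
    {c : fixedField K.bar} (hc : c ∈ B) (hc0 : (c : F) ∉ F₀) : B = ⊤ :=
  subfield_top_of_prime hr (card_fix_pow K K₀ hbar hr hcard hq) hle hc hc0

omit hodd hMi hM hne in
theorem two_eq_zero (h : q₀ = 2 ∨ q₀ = 4) : (2 : F) = 0 := by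
  cases nonempty_fintype F
  have h0 := Nat.cast_card_eq_zero F
  rw [← Nat.card_eq_fintype_card, hcard, K₀.card, Nat.cast_pow, Nat.cast_pow] at h0
  have h1 := (pow_eq_zero_iff two_ne_zero).1 ((pow_eq_zero_iff hr.ne_zero).1 h0)
  rcases h with rfl | rfl
  · simpa using h1
  · have : (2 : F) ^ 2 = 0 := by push_cast at h1; linear_combination h1
    exact (pow_eq_zero_iff two_ne_zero).1 this

/-- The long root elements at the flag are rational. -/
theorem z_mem_rat {c : F} (h : u 0 0 c ∈ M) : c ∈ F₀ := by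
  by_contra hc
  have hsk : c + K.bar c = 0 := by
    have := (of_u_mem K (a := 0) (b := 0) (hMi h)).2
    simpa using this
  obtain ⟨θ, hθF, hθ0, hθ⟩ := exists_skew_rat K K₀ hbar
  have hθb : K.bar θ = -θ := by linear_combination hθ
  let W : AddSubgroup (fixedField K.bar) :=
    { carrier := {t | u 0 0 (θ * t) ∈ M}
      zero_mem' := by simp [u_zero]
      add_mem' := fun {s t} hs ht => by
        have := M.mul_mem hs ht
        rw [u_mul] at this
        simpa [mul_add] using this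
      neg_mem' := fun {t} ht => by
        have := M.inv_mem ht
        rw [u_inv] at this
        simpa using this }
  set A := F₀.comap (fixedField K.bar).subtype with hAd
  have hAW : ∀ t ∈ A, t ∈ W := fun t ht =>
    z_rat_mem K K₀ hbar hr hodd hcard hq hMi hM hne (F₀.mul_mem hθF ht)
      (by rw [map_mul, hθb, show K.bar (t : F) = t from t.2]; ring)
  obtain ⟨t₀, ht₀⟩ : ∃ t : fixedField K.bar, (t : F) = c / θ :=
    ⟨⟨c / θ, show K.bar (c / θ) = c / θ by
      rw [map_div₀, hθb, show K.bar c = -c by linear_combination hsk, neg_div_neg_eq]⟩, rfl⟩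
  have ht₀W : t₀ ∈ W := show u 0 0 (θ * t₀) ∈ M by rwa [ht₀, mul_div_cancel₀ _ hθ0]
  have ht₀A : (t₀ : F) ∉ F₀ := fun e => hc (by
    rw [ht₀] at e
    have := F₀.mul_mem e hθF
    rwa [div_mul_cancel₀ _ hθ0] at this)
  have hcardW : 5 < Nat.card W ∨ (Nat.card W = 4 ∧ (2 : fixedField K.bar) = 0) := by
    have hle : A.toAddSubgroup ≤ W := fun t ht => hAW t ht
    have hA : Nat.card A.toAddSubgroup = q₀ := card_rat_fix K K₀ hbar
    obtain ⟨k, hk⟩ := AddSubgroup.card_dvd_of_le hle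
    rw [hA] at hk
    have h2 := K₀.two_le
    have hk2 : 2 ≤ k := by
      by_contra hlt
      have hWpos : 0 < Nat.card W := Nat.card_pos
      have hk1 : k = 1 := by
        rcases Nat.eq_zero_or_pos k with h0 | h0
        · rw [h0, Nat.mul_zero] at hk; omega
        · omega
      rw [hk1, Nat.mul_one] at hk
      exact ht₀A ((AddSubgroup.eq_of_le_of_card_ge hle (le_of_eq (hk.trans hA.symm))).symm ▸ ht₀W :
        t₀ ∈ A.toAddSubgroup)
    rcases Nat.lt_or_ge 5 (Nat.card W) with h5 | h5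
    · exact Or.inl h5
    have hq2 : q₀ = 2 := by
      by_contra hne2
      have : 3 * 2 ≤ q₀ * k := Nat.mul_le_mul (by omega) hk2
      omega
    refine Or.inr ⟨by subst hq2; omega, Subtype.ext ?_⟩
    exact two_eq_zero K K₀ hbar hr hcard hq (Or.inl hq2)
  have hθi : θ⁻¹ + K.bar θ⁻¹ = 0 := by rw [map_inv₀, hθb, inv_neg]; ring
  have htop := SL2.eq_top_of_up_lo' (H := M.comap (plane K hθ0)) W
    (fun t ht => by rw [Subgroup.mem_comap, plane_up]; exact ht) one_ne_zero
    (by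
      rw [Subgroup.mem_comap, plane_lo]
      simpa [one_div] using lo_rat_mem K K₀ hbar hr hodd hcard hq hMi hM hne (F₀.inv_mem hθF) hθi)
    hcardW fun B hB => by
      refine fix_top K K₀ hbar hr hcard hq (fun t ht => ?_) (c := t₀) ?_ ht₀A
      · simpa using hB t (hAW t ht)
      · simpa using hB t₀ ht₀W
  have hz : ∀ s : F, s + K.bar s = 0 → u 0 0 s ∈ M := fun s hs => by
    obtain ⟨t, ht⟩ : ∃ t : fixedField K.bar, (t : F) = s / θ :=
      ⟨⟨s / θ, show K.bar (s / θ) = s / θ by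
        rw [map_div₀, hθb, show K.bar s = -s by linear_combination hs, neg_div_neg_eq]⟩, rfl⟩
    have : SL2.up t ∈ M.comap (plane K hθ0) := htop ▸ Subgroup.mem_top _
    rwa [Subgroup.mem_comap, plane_up, ht, mul_div_cancel₀ _ hθ0] at this
  have hw : (w : S) ∈ M := hM _ (w_mem K) (rt_w F₀)
  have hlo : ∀ s : F, s + K.bar s = 0 → lo s ∈ M := fun s hs => by
    rw [lo_eq]; exact M.mul_mem (M.mul_mem hw (hz s hs)) hw
  obtain ⟨c₁, hc₁, h₁⟩ := exists_par_rat K K₀ hbar F₀.one_mem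
  have hn : u 1 (-K.bar 1) c₁ * w ∈ M := M.mul_mem (u_rat_mem K K₀ hbar hr hodd hcard hq hMi hM hne F₀.one_mem hc₁ h₁) hw
  have hC : Cen K M c₁ (-1) := by
    refine ⟨u 1 (-K.bar 1) c₁ * w, ⟨hMi hn, fun s hs => M.mul_mem (M.mul_mem hn (hz s hs)) (M.inv_mem hn)⟩,
      ?_, ?_, ?_⟩ <;> simp [Matrix.mul_apply, Fin.sum_univ_three]
  have h3 : 3 ≤ q := by
    rw [hq]
    have h1 : 2 ^ 3 ≤ q₀ ^ r := le_trans (Nat.pow_le_pow_right (by norm_num) (by
      have := hr.two_le; obtain ⟨j, rfl⟩ := hodd; omega)) (Nat.pow_le_pow_left K₀.two_le r)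
    omega
  exact hne (top_of_line K hMi hz hlo h3 (by simp) hC)

/-- The unitriangular elements are rational. -/
theorem u_mem_rat {a b c : F} (h : u a b c ∈ M) : a ∈ F₀ ∧ c ∈ F₀ := by
  obtain ⟨eb, hac⟩ := of_u_mem K (hMi h)
  subst eb
  have comm : ∀ σ ∈ F₀, -(a * K.bar σ) + σ * K.bar a ∈ F₀ := fun σ hσ => by
    obtain ⟨cσ, hcσ, hpar⟩ := exists_par_rat K K₀ hbar hσ
    have hm := u_rat_mem K K₀ hbar hr hodd hcard hq hMi hM hne hσ hcσ hpar
    have := M.mul_mem (M.mul_mem (M.mul_mem h hm) (M.inv_mem h)) (M.inv_mem hm)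
    rw [show u a (-K.bar a) c * u σ (-K.bar σ) cσ * (u a (-K.bar a) c)⁻¹ * (u σ (-K.bar σ) cσ)⁻¹ =
      ⁅(u a (-K.bar a) c : S), u σ (-K.bar σ) cσ⁆ from rfl, u_comm] at this
    have h0 := z_mem_rat K K₀ hbar hr hodd hcard hq hMi hM hne this
    simpa using h0
  obtain ⟨σ, hσ, hσb⟩ := exists_moved_rat K K₀ hbar
  have ha : a ∈ F₀ := by
    have h1 := comm 1 F₀.one_mem
    rw [map_one, mul_one, one_mul] at h1
    have h2 := F₀.sub_mem (comm σ hσ) (F₀.mul_mem hσ h1)
    have : a = (-(a * K.bar σ) + σ * K.bar a - σ * (-a + K.bar a)) / (σ - K.bar σ) := by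
      rw [eq_div_iff (sub_ne_zero.2 (Ne.symm hσb))]; ring
    rw [this]
    exact F₀.div_mem h2 (F₀.sub_mem hσ (bar_mem' K hσ))
  refine ⟨ha, ?_⟩
  obtain ⟨c', hc', hpar⟩ := exists_par_rat K K₀ hbar ha
  have := M.mul_mem h (M.inv_mem (u_rat_mem K K₀ hbar hr hodd hcard hq hMi hM hne ha hc' hpar))
  rw [u_inv, u_mul] at this
  simp only [add_neg_cancel] at this
  have h0 := z_mem_rat K K₀ hbar hr hodd hcard hq hMi hM hne this
  rw [show c = c + (a * -K.bar a - c') + a * - -K.bar a + c' by ring]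
  exact F₀.add_mem h0 hc'

/-- The point stabiliser part is rational. -/
theorem stab_rt {x : S} (hx : x ∈ M) (hA : x ∈ ptStab) : Rt F₀ x := by
  have hT := tri_of_stab K (hMi hx) hA
  obtain ⟨a, c, h, e⟩ := decomp K (hMi hx) hT
  obtain ⟨c₁, hc₁, h₁⟩ := exists_par_rat K K₀ hbar F₀.one_mem
  obtain ⟨c', hc'⟩ := hT.conj_u 1 (-K.bar 1) c₁
  have hm := M.mul_mem (M.mul_mem hx (u_rat_mem K K₀ hbar hr hodd hcard hq hMi hM hne F₀.one_mem hc₁ h₁))
    (M.inv_mem hx)
  rw [hc'] at hm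
  have hk := (u_mem_rat K K₀ hbar hr hodd hcard hq hMi hM hne hm).1
  rw [diag_tor K (hMi hx) hA, mul_one] at hk
  set l := m[x] 0 0
  have l0 : l ≠ 0 := hT.ne_zero.1
  have lb : K.bar l ≠ 0 := bar_ne_zero K l0
  have htor : Rt F₀ (tor K l : S) := by
    refine ⟨K.bar l / l, div_ne_zero lb l0, fun i j => ?_⟩
    rw [tor_coe K l0]
    rcases eq_or_ne i j with rfl | hij
    · rw [Matrix.diagonal_apply_eq]
      fin_cases i
      · simpa using hk
      · show K.bar l / l / (K.bar l / l) ∈ F₀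
        rw [div_self (div_ne_zero lb l0)]; exact F₀.one_mem
      · show (K.bar l)⁻¹ / (K.bar l / l) ∈ F₀
        rw [show (K.bar l)⁻¹ / (K.bar l / l) = (K.bar (l / (K.bar l / l)))⁻¹ by
          rw [map_div₀, map_div₀, K.bar_bar]; field_simp]
        exact F₀.inv_mem (bar_mem' K hk)
    · rw [Matrix.diagonal_apply_ne _ hij, zero_div]; exact F₀.zero_mem
  have hu : u a (-K.bar a) c ∈ M := by
    have := M.mul_mem (M.inv_mem (hM _ (tor_mem K l) htor)) hx
    rwa [e, inv_mul_cancel_left] at this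
  obtain ⟨ha, hc⟩ := u_mem_rat K K₀ hbar hr hodd hcard hq hMi hM hne hu
  rw [e]
  exact htor.mul (rt_u ha (F₀.neg_mem (bar_mem' K ha)) hc)

/-- First columns of rational norm give the subfield group. -/
theorem rt_of_norms (key : ∀ g ∈ M, m[g] 2 0 * K.bar (m[g] 2 0) ∈ F₀) {g : S} (hg : g ∈ M) : Rt F₀ g := by
  by_cases hA : g ∈ ptStab
  · exact stab_rt K K₀ hbar hr hodd hcard hq hMi hM hne hg hA
  obtain ⟨h20, a, c, hpar, e0, e1⟩ := exists_u_col K (hMi hg) hA
  set b0 := m[g] 0 0 with hb0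
  set b1 := m[g] 1 0 with hb1
  set b2 := m[g] 2 0 with hb2
  obtain ⟨x, hx⟩ : ∃ x, x = b0 / b2 := ⟨_, rfl⟩
  obtain ⟨y, hy⟩ : ∃ y, y = b1 / b2 := ⟨_, rfl⟩
  have hxy : x + K.bar x + y * K.bar y = 0 := by
    have hi := isotropic_col K (hMi hg)
    have h20' := bar_ne_zero K h20
    rw [hx, hy, map_div₀, map_div₀]
    field_simp
    linear_combination hi
  have hval : ∀ s ∈ F₀, ∀ d ∈ F₀, d + K.bar d + s * K.bar s = 0 →
      (x + s * y + K.bar d) * K.bar (x + s * y + K.bar d) ∈ F₀ := fun s hs d hd hsd => by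
    have hm := u_rat_mem K K₀ hbar hr hodd hcard hq hMi hM hne (F₀.neg_mem hs) hd
      (by rw [map_neg]; linear_combination hsd)
    have hh := key _ (M.mul_mem (M.mul_mem (hM _ (w_mem K) (rt_w F₀)) (M.inv_mem hm)) hg)
    have e : m[(w : S) * (u (-s) (-K.bar (-s)) d)⁻¹ * g] 2 0 = b2 * (x + s * y + K.bar d) := by
      rw [u_inv, map_neg]
      simp [Matrix.mul_apply, Fin.sum_univ_three, ← hb0, ← hb1, ← hb2]
      rw [hx, hy, show K.bar d = -(s * K.bar s) - d by linear_combination hsd]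
      field_simp
    rw [e, map_mul, show ∀ p p' v v' : F, p * v * (p' * v') = p * p' * (v * v') from fun _ _ _ _ => by ring] at hh
    have h2 := key g hg
    rw [← hb2] at h2
    have := F₀.div_mem hh h2
    rwa [mul_div_cancel_left₀ _ (mul_ne_zero h20 (bar_ne_zero K h20))] at this
  -- the rational skew parameters
  obtain ⟨θ, hθF, hθ0, hθ⟩ := exists_skew_rat K K₀ hbar
  have hθb : K.bar θ = -θ := by linear_combination hθ
  have hN : x * K.bar x ∈ F₀ := by simpa using hval 0 F₀.zero_mem 0 F₀.zero_mem (by simp)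
  have hD : x - K.bar x ∈ F₀ := by
    have h1 := hval 0 F₀.zero_mem θ hθF (by rw [map_zero]; linear_combination hθ)
    simp only [zero_mul, add_zero, map_add, hθb, K.bar_bar, map_neg, map_zero] at h1
    have h2 := F₀.div_mem (F₀.add_mem (F₀.sub_mem h1 hN) (F₀.mul_mem hθF hθF)) hθF
    convert h2 using 1
    field_simp
    ring
  -- rationality of the mixed term
  obtain ⟨k, hk, hko⟩ := CfsgLib.Classical.HermDecompMax.exists_circ_gen K₀
  have hmix : ∀ s ∈ F₀, ∀ d ∈ F₀, d + K.bar d + s * K.bar s = 0 → s * y * (K.bar x + d) ∈ F₀ := by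
    intro s hs d hd hsd
    set X := s * y * (K.bar x + d) with hX
    have hstep : ∀ k : F₀, k * K₀.bar k = 1 →
        ((k : F) - 1) * X + K.bar (((k : F) - 1) * X) ∈ F₀ := by
      intro k hk
      have hk' : (k : F) * K.bar k = 1 := by
        rw [← hbar]; exact congrArg (fun z : F₀ => (z : F)) hk
      have h1 := hval s hs d hd hsd
      have h2 := hval (k * s) (F₀.mul_mem k.2 hs) d hd
        (by rw [map_mul]; linear_combination hsd + s * K.bar s * hk')
      convert F₀.sub_mem h2 h1 using 1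
      simp only [hX, map_add, map_mul, map_sub, map_one, K.bar_bar]
      linear_combination -(s * K.bar s * (y * K.bar y)) * hk'
    have hk2 : k ^ 2 * K₀.bar (k ^ 2) = 1 := (hk.pow 2)
    have t1 := hstep k hk
    have t2 := hstep (k ^ 2) hk2
    have hk' : (k : F) * K.bar k = 1 := by
      rw [← hbar]; exact congrArg (fun z : F₀ => (z : F)) (hk : k * K₀.bar k = 1)
    have k1 : (k : F) ≠ 1 := fun e => by
      have : orderOf k = 1 := orderOf_eq_one_iff.2 (Subtype.ext e)
      have := K₀.two_le; omega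
    have k0 : (k : F) ≠ 0 := fun e => by simp [e] at hk'
    push_cast at t2
    have hdet : ((k : F) - 1) * (K.bar ((k : F) ^ 2) - 1) - ((k : F) ^ 2 - 1) * (K.bar (k : F) - 1) ≠ 0 := by
      intro e
      rw [map_pow, show K.bar (k : F) = (k : F)⁻¹ from eq_inv_of_mul_eq_one_right hk'] at e
      field_simp at e
      have : ((k : F) - 1) ^ 3 * ((k : F) + 1) = 0 := by linear_combination e
      rcases mul_eq_zero.1 this with h | h
      · exact k1 (sub_eq_zero.1 ((pow_eq_zero_iff three_ne_zero).1 h))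
      · have h' : k ^ 2 = 1 := Subtype.ext (by push_cast; linear_combination ((k : F) - 1) * h)
        have := Nat.le_of_dvd two_pos (orderOf_dvd_of_pow_eq_one h')
        have := K₀.two_le; omega
    have hnum := F₀.sub_mem (F₀.mul_mem t1 (F₀.sub_mem (bar_mem' K (F₀.pow_mem k.2 2)) F₀.one_mem))
      (F₀.mul_mem t2 (F₀.sub_mem (bar_mem' K k.2) F₀.one_mem))
    have := F₀.div_mem hnum (F₀.sub_mem (F₀.mul_mem (F₀.sub_mem k.2 F₀.one_mem)
        (F₀.sub_mem (bar_mem' K (F₀.pow_mem k.2 2)) F₀.one_mem))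
      (F₀.mul_mem (F₀.sub_mem (F₀.pow_mem k.2 2) F₀.one_mem) (F₀.sub_mem (bar_mem' K k.2) F₀.one_mem)))
    convert this using 1
    rw [eq_div_iff hdet]
    simp only [map_mul, map_sub, map_one, map_pow]
    ring
  obtain ⟨c₁, hc₁, h₁⟩ := exists_par_rat K K₀ hbar F₀.one_mem
  have hyF : y ∈ F₀ := by
    have a1 := hmix 1 F₀.one_mem c₁ hc₁ h₁
    have a2 := hmix 1 F₀.one_mem (c₁ + θ) (F₀.add_mem hc₁ hθF) (by rw [map_add, hθb]; linear_combination h₁)
    have := F₀.div_mem (F₀.sub_mem a2 a1) hθF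
    convert this using 1
    field_simp
    ring
  have hxF : x ∈ F₀ := by
    by_cases hy0 : y = 0
    · have h1 := hval 1 F₀.one_mem c₁ hc₁ h₁
      rw [hy0] at hxy
      simp only [hy0, mul_zero, add_zero, map_add, K.bar_bar, zero_mul] at h1 hxy
      -- the constant term
      have hc : (x - K.bar x) * c₁ + K.bar c₁ * c₁ + x * K.bar x ∈ F₀ :=
        F₀.add_mem (F₀.add_mem (F₀.mul_mem hD hc₁) (F₀.mul_mem (bar_mem' K hc₁) hc₁)) hN
      have h3 : K.bar x ∈ F₀ := by
        have h4 := F₀.sub_mem hc h1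
        have e : (x - K.bar x) * c₁ + K.bar c₁ * c₁ + x * K.bar x - (x + K.bar c₁) * (K.bar x + c₁) = K.bar x := by
          have h₁' : c₁ + K.bar c₁ + 1 = 0 := by simpa using h₁
          linear_combination -(K.bar x) * h₁'
        rwa [e] at h4
      have := bar_mem' K h3; rwa [K.bar_bar] at this
    · have a1 := hmix 1 F₀.one_mem c₁ hc₁ h₁
      have h4 := F₀.sub_mem (F₀.div_mem a1 hyF) hc₁
      rw [one_mul, mul_div_cancel_left₀ _ hy0, add_sub_cancel_right] at h4
      have := bar_mem' K h4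
      rwa [K.bar_bar] at this
  have hw : (w : S) ∈ M := hM _ (w_mem K) (rt_w F₀)
  have hcol : a = -K.bar y ∧ c = x := by
    rw [u_inv] at e0 e1
    simp [Matrix.mul_apply, Fin.sum_univ_three, ← hb0, ← hb1, ← hb2] at e0 e1
    have ea : K.bar a = -y := by rw [hy, eq_neg_iff_add_eq_zero]; field_simp; linear_combination e1
    have ea' : a = -K.bar y := by rw [← K.bar_bar a, ea, map_neg]
    refine ⟨ea', ?_⟩
    rw [ea] at e0
    rw [hx, eq_div_iff h20]
    rw [hy] at e0
    field_simp at e0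
    linear_combination -e0
  have ha : a ∈ F₀ := hcol.1 ▸ F₀.neg_mem (bar_mem' K hyF)
  have hc : c ∈ F₀ := hcol.2 ▸ hxF
  have hrest : Rt F₀ ((w : S) * ((u a (-K.bar a) c)⁻¹ * g)) := by
    refine stab_rt K K₀ hbar hr hodd hcard hq hMi hM hne
      (M.mul_mem hw (M.mul_mem (M.inv_mem (u_rat_mem K K₀ hbar hr hodd hcard hq hMi hM hne ha hc hpar)) hg))
      (mem_ptStab.2 ?_)
    generalize hh : (u a (-K.bar a) c : S)⁻¹ * g = h' at e0 e1
    constructor <;> simp [Matrix.mul_apply, Fin.sum_univ_three, e0, e1]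
  have := ((rt_u (b := -K.bar a) ha (F₀.neg_mem (bar_mem' K ha)) hc).mul (rt_w F₀)).mul hrest
  simpa [mul_assoc, ← mul_assoc (w : S) w, w_mul_w] using this

end CfsgLib.Classical.ThreeMax.SUThree
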