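import Cfsg.Agent.Lib.Classical.ThreeMax.SUPointCount
import Cfsg.Agent.Lib.Classical.ThreeMax.SUSubfield
import Cfsg.Agent.Lib.Classical.ThreeMax.OrthSLMax

/-!
The real subgroup of the special unitary group of dimension three: what an overgroup has in the point stabiliser.
-/

set_option autoImplicit false
set_option linter.unusedSectionVars false

namespace CfsgLib.Classical.ThreeMax.SUThree

open Matrix
open CfsgLib.ClassicalAut (Unitary.Conj)
open CfsgLib.AutPSL (fixedField)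
open scoped MatrixGroups commutatorElement

variable {F : Type*} [Field F] [Finite F] {q : ℕ} (K : Unitary.Conj F q)

local notation "S" => SpecialLinearGroup (Fin 3) F
local notation "m[" g "]" => (((g : SpecialLinearGroup (Fin 3) F) : Matrix (Fin 3) (Fin 3) F))

theorem mem_fix {c : F} : c ∈ fixedField K.bar ↔ K.bar c = c := Iff.rfl

/-- The real root elements. -/
def Ur (t : F) : SpecialLinearGroup (Fin 3) F := u t (-t) (-(t ^ 2) / 2)

theorem Ur_mem {t : F} (ht : K.bar t = t) (h2 : (2 : F) ≠ 0) : Ur t ∈ iso K := by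
  have h : -(t ^ 2) / 2 + K.bar (-(t ^ 2) / 2) + t * K.bar t = 0 := by
    rw [map_div₀, map_neg, map_pow, ht, map_ofNat]
    field_simp
    ring
  have := u_mem K h
  rwa [ht] at this

theorem Ur_rt {t : F} (ht : K.bar t = t) : Rt (fixedField K.bar) (Ur t) := by
  refine rt_u ht ((mem_fix K).2 (by rw [map_neg, ht])) ((mem_fix K).2 ?_)
  rw [map_div₀, map_neg, map_pow, ht, map_ofNat]

omit K [Finite F] in
theorem Ur_mul (h2 : (2 : F) ≠ 0) (s t : F) : (Ur s : S) * Ur t = Ur (s + t) := by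
  rw [Ur, Ur, Ur, u_mul]
  congr 1
  · ring
  · field_simp; ring

/-- The scalars allowed on the diagonal. -/
def Lg : Subgroup Fˣ where
  carrier := {l | K.bar ((l : F) * l / K.bar (l : F)) = (l : F) * l / K.bar (l : F)}
  one_mem' := by simp
  mul_mem' := fun {a b} ha hb => by
    show K.bar _ = _
    have e : ((a * b : Fˣ) : F) * (a * b : Fˣ) / K.bar ((a * b : Fˣ) : F) =
        ((a : F) * a / K.bar (a : F)) * ((b : F) * b / K.bar (b : F)) := by
      rw [Units.val_mul, map_mul, div_mul_div_comm]; ring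
    rw [e, map_mul, ha, hb]
  inv_mem' := fun {a} ha => by
    show K.bar _ = _
    have e : ((a⁻¹ : Fˣ) : F) * (a⁻¹ : Fˣ) / K.bar ((a⁻¹ : Fˣ) : F) = ((a : F) * a / K.bar (a : F))⁻¹ := by
      rw [Units.val_inv_eq_inv_val, map_inv₀, inv_div, div_inv_eq_mul]
      field_simp [bar_ne_zero K a.ne_zero]
    rw [e, map_inv₀, ha]

variable {M : Subgroup (SpecialLinearGroup (Fin 3) F)} (hMi : M ≤ iso K)
  (hM : ∀ s ∈ iso K, Rt (fixedField K.bar) s → s ∈ M) (hne : M ≠ iso K) (h2 : (2 : F) ≠ 0) (h3q : 3 ≤ q)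

include hMi hM hne h2 h3q

theorem Ur_M {t : F} (ht : K.bar t = t) : Ur t ∈ M := hM _ (Ur_mem K ht h2) (Ur_rt K ht)

theorem w_M : (w : S) ∈ M := hM _ (w_mem K) (rt_w _)

theorem tor_M {l : F} (hl : l ≠ 0) (h : K.bar (l * l / K.bar l) = l * l / K.bar l) : tor K l ∈ M := by
  refine hM _ (tor_mem K l) ⟨K.bar l / l, div_ne_zero (bar_ne_zero K hl) hl, fun i j => ?_⟩
  have lb := bar_ne_zero K hl
  rw [tor_coe K hl]
  rcases eq_or_ne i j with rfl | hij
  · rw [Matrix.diagonal_apply_eq]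
    fin_cases i
    · show l / (K.bar l / l) ∈ _
      rw [div_div_eq_mul_div]; exact (mem_fix K).2 h
    · show K.bar l / l / (K.bar l / l) ∈ _
      rw [div_self (div_ne_zero lb hl)]; exact (fixedField K.bar).one_mem
    · show (K.bar l)⁻¹ / (K.bar l / l) ∈ _
      have h' := h
      rw [map_div₀, map_mul, K.bar_bar] at h'
      have e : (K.bar l)⁻¹ / (K.bar l / l) = (K.bar l * K.bar l / l)⁻¹ := by field_simp
      rw [e, h']
      exact (fixedField K.bar).inv_mem ((mem_fix K).2 h)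
  · rw [Matrix.diagonal_apply_ne _ hij, zero_div]; exact (fixedField K.bar).zero_mem

theorem z_zero {c : F} (h : u 0 0 c ∈ M) : c = 0 := by
  by_contra hc
  have hsk : c + K.bar c = 0 := by simpa using (of_u_mem K (a := 0) (b := 0) (hMi h)).2
  let X : AddSubgroup F :=
    { carrier := {x | u 0 0 x ∈ M}
      zero_mem' := by simp [u_zero]
      add_mem' := fun {s t} hs ht => by simpa [u_mul] using M.mul_mem hs ht
      neg_mem' := fun {t} ht => by simpa [u_inv] using M.inv_mem ht }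
  have hsq : ∀ l : F, K.bar l = l → c * (l * l) ∈ X := fun l hl => by
    by_cases hl0 : l = 0
    · simp [hl0]
    have ht : tor K l ∈ M := tor_M K hMi hM hne h2 h3q hl0 (by rw [map_div₀, map_mul, K.bar_bar, hl])
    have := M.mul_mem (M.mul_mem ht h) (M.inv_mem ht)
    rw [conj_z_iso K (tor_mem K l) (mem_ptStab.2 ⟨(tri_tor K l).1, (tri_tor K l).2.1⟩)] at this
    show u 0 0 (c * (l * l)) ∈ M
    simpa [tor_coe K hl0, hl] using this
  have hz : ∀ s : F, s + K.bar s = 0 → u 0 0 s ∈ M := fun s hs => by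
    have hk : K.bar (s / c) = s / c := by
      rw [map_div₀, show K.bar s = -s by linear_combination hs, show K.bar c = -c by linear_combination hsk,
        neg_div_neg_eq]
    have := X.sub_mem (hsq ((s / c + 1) / 2) (by rw [map_div₀, map_add, hk, map_one, map_ofNat]))
      (hsq ((s / c - 1) / 2) (by rw [map_div₀, map_sub, hk, map_one, map_ofNat]))
    show s ∈ X
    convert this using 1
    field_simp
    ring
  have hlo : ∀ s : F, s + K.bar s = 0 → lo s ∈ M := fun s hs => by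
    have hw := w_M K hMi hM hne h2 h3q
    rw [lo_eq]; exact M.mul_mem (M.mul_mem hw (hz s hs)) hw
  have hn := M.mul_mem (Ur_M K hMi hM hne h2 h3q (map_one K.bar)) (w_M K hMi hM hne h2 h3q)
  refine hne (top_of_line K hMi hz hlo h3q (neg_ne_zero.2 one_ne_zero) (c := -(1 : F) / 2) (b := -1) ?_)
  refine ⟨Ur 1 * w, ⟨hMi hn, fun s hs => M.mul_mem (M.mul_mem hn (hz s hs)) (M.inv_mem hn)⟩, ?_, ?_, ?_⟩ <;>
    simp [Ur, Matrix.mul_apply, Fin.sum_univ_three]

theorem unip_real {a b c : F} (h : u a b c ∈ M) : K.bar a = a ∧ (u a b c : S) = Ur a := by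
  obtain ⟨eb, hac⟩ := of_u_mem K (hMi h)
  subst eb
  have hu := Ur_M K hMi hM hne h2 h3q (map_one K.bar)
  have ha : K.bar a = a := by
    have := M.mul_mem (M.mul_mem (M.mul_mem h hu) (M.inv_mem h)) (M.inv_mem hu)
    rw [Ur, show u a (-K.bar a) c * u 1 (-1) (-(1 : F) ^ 2 / 2) * (u a (-K.bar a) c)⁻¹ * (u 1 (-1) (-(1 : F) ^ 2 / 2))⁻¹ =
      ⁅(u a (-K.bar a) c : S), u 1 (-1) (-(1 : F) ^ 2 / 2)⁆ from rfl, u_comm] at this
    have h0 := z_zero K hMi hM hne h2 h3q this
    linear_combination h0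
  refine ⟨ha, ?_⟩
  have := M.mul_mem h (M.inv_mem (Ur_M K hMi hM hne h2 h3q ha))
  rw [Ur, u_inv, u_mul, ha] at this
  simp only [add_neg_cancel, neg_neg, neg_add_cancel] at this
  have h0 := z_zero K hMi hM hne h2 h3q this
  rw [Ur, ha]
  congr 1
  linear_combination h0

theorem stab_real {x : S} (hx : x ∈ M) (hA : x ∈ ptStab) :
    ∃ l t : F, l ≠ 0 ∧ K.bar (l * l / K.bar l) = l * l / K.bar l ∧ K.bar t = t ∧ x = tor K l * Ur t := by
  have hT := tri_of_stab K (hMi hx) hA
  obtain ⟨a, c, h, e⟩ := decomp K (hMi hx) hT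
  obtain ⟨c', hc'⟩ := hT.conj_u 1 (-1) (-(1 : F) ^ 2 / 2)
  have hm := M.mul_mem (M.mul_mem hx (Ur_M K hMi hM hne h2 h3q (map_one K.bar))) (M.inv_mem hx)
  rw [Ur, hc'] at hm
  have hk := (unip_real K hMi hM hne h2 h3q hm).1
  rw [diag_tor K (hMi hx) hA, mul_one, div_div_eq_mul_div] at hk
  have hu : u a (-K.bar a) c ∈ M := by
    have := M.mul_mem (M.inv_mem (tor_M K hMi hM hne h2 h3q hT.ne_zero.1 hk)) hx
    have e' : (tor K (m[x] 0 0))⁻¹ * x = u a (-K.bar a) c := by
      conv_lhs => arg 2; rw [e]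
      rw [inv_mul_cancel_left]
    rwa [e'] at this
  obtain ⟨ha, e'⟩ := unip_real K hMi hM hne h2 h3q hu
  exact ⟨_, a, hT.ne_zero.1, hk, ha, by rw [← e']; exact e⟩

/-- The order of the point stabiliser part. -/
theorem card_stab : Nat.card (ptStab ⊓ M : Subgroup S) = q * Nat.card (Lg K) := by
  classical
  let f : fixedField K.bar × Lg K → (ptStab ⊓ M : Subgroup S) := fun y =>
    ⟨tor K ((y.2 : Fˣ) : F) * Ur (y.1 : F),
      ⟨mul_mem (mem_ptStab.2 ⟨(tri_tor K _).1, (tri_tor K _).2.1⟩) (u_mem_ptStab _ _ _),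
        M.mul_mem (tor_M K hMi hM hne h2 h3q (Units.ne_zero _) y.2.2) (Ur_M K hMi hM hne h2 h3q y.1.2)⟩⟩
  have hf : Function.Bijective f := by
    constructor
    · rintro ⟨t, l⟩ ⟨t', l'⟩ e
      have e' : tor K ((l : Fˣ) : F) * Ur (t : F) = tor K ((l' : Fˣ) : F) * Ur (t' : F) := congrArg Subtype.val e
      have hll : ((l : Fˣ) : F) = ((l' : Fˣ) : F) := by
        have := congrArg (fun g : S => m[g] 0 0) e'
        simpa [Ur, tor_coe K (Units.ne_zero (l : Fˣ)), tor_coe K (Units.ne_zero (l' : Fˣ)), Matrix.diagonal_mul] using this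
      rw [hll] at e'
      exact Prod.ext (Subtype.ext (u_ext (mul_left_cancel e')).1) (Subtype.ext (Units.ext hll))
    · rintro ⟨x, hA, hx⟩
      obtain ⟨l, t, hl, hk, ht, e⟩ := stab_real K hMi hM hne h2 h3q hx hA
      exact ⟨(⟨t, ht⟩, ⟨Units.mk0 l hl, hk⟩), Subtype.ext e.symm⟩
  rw [← Nat.card_congr (Equiv.ofBijective f hf), Nat.card_prod, card_fix K]

end CfsgLib.Classical.ThreeMax.SUThree
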