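import Cfsg.Agent.Lib.Classical.ThreeMax.SUReal

/-!
An overgroup of the real group which is larger moves the first point to every isotropic point.
-/

set_option autoImplicit false
set_option linter.unusedSectionVars false

namespace CfsgLib.Classical.ThreeMax.SUThree

open Matrix
open CfsgLib.ClassicalAut (Unitary.Conj)
open CfsgLib.AutPSL (fixedField)
open scoped MatrixGroups

variable {F : Type*} [Field F] [Finite F] {q : ℕ} (K : Unitary.Conj F q)

local notation "S" => SpecialLinearGroup (Fin 3) F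
local notation "m[" g "]" => (((g : SpecialLinearGroup (Fin 3) F) : Matrix (Fin 3) (Fin 3) F))

/-- The units of the fixed field. -/
def Rg : Subgroup Fˣ where
  carrier := {l | K.bar (l : F) = l}
  one_mem' := by simp
  mul_mem' := fun {a b} ha hb => by
    show K.bar _ = _
    rw [Units.val_mul, map_mul, ha, hb]
  inv_mem' := fun {a} ha => by
    show K.bar _ = _
    rw [Units.val_inv_eq_inv_val, map_inv₀, ha]

theorem card_Rg : Nat.card (Rg K) = q - 1 := by
  rw [show q - 1 = Nat.card (fixedField K.bar)ˣ by rw [Nat.card_units, card_fix K]]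
  exact Nat.card_congr
    { toFun := fun l => Units.mk0 ⟨((l : Fˣ) : F), l.2⟩ fun e => Units.ne_zero (l : Fˣ) (congrArg Subtype.val e)
      invFun := fun l => ⟨Units.mk0 ((l : fixedField K.bar) : F) fun e => l.ne_zero (Subtype.ext e),
        (l : fixedField K.bar).2⟩
      left_inv := fun l => Subtype.ext (Units.ext rfl)
      right_inv := fun l => Units.ext (Subtype.ext rfl) }

/-- The ratio of a scalar and its conjugate. -/
noncomputable def ratio : Lg K →* Fˣ where
  toFun l := (l : Fˣ) / Units.map K.bar.toRingHom.toMonoidHom (l : Fˣ)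
  map_one' := by simp
  map_mul' a b := by simp only [Subgroup.coe_mul, map_mul, mul_div_mul_comm]

theorem ratio_cube (l : Lg K) : ratio K l ^ 3 = 1 := by
  have h : K.bar (((l : Fˣ) : F) * ((l : Fˣ) : F) / K.bar ((l : Fˣ) : F)) = _ := l.2
  have n0 := Units.ne_zero (l : Fˣ)
  have n1 := bar_ne_zero K n0
  rw [map_div₀, map_mul, K.bar_bar, div_eq_div_iff n0 n1] at h
  refine Units.ext ?_
  simp [ratio, Units.val_pow_eq_pow_val, div_pow]
  field_simp
  linear_combination -h

theorem card_Lg : Nat.card (Lg K) = (q - 1) * Nat.card (ratio K).range ∧ Nat.card (ratio K).range ≤ 3 := by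
  have hker : Nat.card (ratio K).ker = q - 1 := by
    rw [← card_Rg K]
    refine Nat.card_congr
      { toFun := fun l => ⟨((l : Lg K) : Fˣ), ?_⟩
        invFun := fun l => ⟨⟨(l : Fˣ), ?_⟩, ?_⟩
        left_inv := fun l => rfl
        right_inv := fun l => rfl }
    · have h := l.2
      rw [MonoidHom.mem_ker] at h
      exact (congrArg Units.val (div_eq_one.1 (h : ((l : Lg K) : Fˣ) / _ = 1))).symm
    · show K.bar _ = _
      simp only [map_div₀, map_mul, show K.bar ((l : Fˣ) : F) = _ from l.2]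
    · exact MonoidHom.mem_ker.2 (div_eq_one.2 (Units.ext (show ((l : Fˣ) : F) = K.bar ((l : Fˣ) : F) from l.2.symm)))
  refine ⟨?_, ?_⟩
  · rw [← hker, ← Subgroup.index_ker, Subgroup.card_mul_index]
  · have hle : Nat.card (ratio K).range ≤ 3 := by
      classical
      let f : (ratio K).range → {x : F // x ∈ (Polynomial.nthRoots 3 (1 : F)).toFinset} := fun x => ⟨((x : Fˣ) : F), by
        obtain ⟨l, hl⟩ := x.2
        rw [Multiset.mem_toFinset, Polynomial.mem_nthRoots (by norm_num), ← hl, ← Units.val_pow_eq_pow_val,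
          ratio_cube, Units.val_one]⟩
      refine (Nat.card_le_card_of_injective f fun x y e => Subtype.ext (Units.ext (congrArg Subtype.val e))).trans ?_
      rw [Nat.card_eq_fintype_card, Fintype.card_coe]
      exact (Multiset.toFinset_card_le _).trans (Polynomial.card_nthRoots _ _)
    exact hle

/-- The real group. -/
def realGrp : Subgroup (SpecialLinearGroup (Fin 3) F) where
  carrier := {s | s ∈ iso K ∧ Rt (fixedField K.bar) s}
  one_mem' := ⟨one_mem _, Rt.of_entries fun i j => by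
    fin_cases i <;> fin_cases j <;> simp [(fixedField K.bar).one_mem, (fixedField K.bar).zero_mem]⟩
  mul_mem' := fun ha hb => ⟨(iso K).mul_mem ha.1 hb.1, ha.2.mul hb.2⟩
  inv_mem' := fun {a} ha => by
    have hp : ∀ k, a ^ k ∈ iso K ∧ Rt (fixedField K.bar) (a ^ k) := fun k => by
      induction k with
      | zero => exact ⟨by simp, Rt.of_entries fun i j => by
          fin_cases i <;> fin_cases j <;> simp [(fixedField K.bar).one_mem, (fixedField K.bar).zero_mem]⟩
      | succ k ih => rw [pow_succ]; exact ⟨(iso K).mul_mem ih.1 ha.1, ih.2.mul ha.2⟩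
    rw [show a⁻¹ = a ^ (orderOf a - 1) from inv_eq_of_mul_eq_one_right (by
      rw [← pow_succ', Nat.sub_add_cancel (orderOf_pos a), pow_orderOf_eq_one])]
    exact hp _

omit [Finite F] in
theorem eq_of_dvd_cube {k q : ℕ} (hq : 2 ≤ q) (h1 : k ≡ 1 [MOD q]) (hdiv : k ∣ q ^ 3 + 1)
    (hle : k ≤ q ^ 2 - q + 1) : k = 1 ∨ k = q + 1 ∨ k = q ^ 2 - q + 1 := by
  obtain ⟨l, hl⟩ := hdiv
  have hk0 : k ≠ 0 := fun e => by rw [e, zero_mul] at hl; omega
  have hl1 : l ≡ 1 [MOD q] := by
    have h : k * l ≡ 1 [MOD q] := by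
      rw [← hl]
      exact ((Nat.modEq_iff_dvd' (by omega)).2 ⟨q ^ 2, by rw [Nat.add_sub_cancel]; ring⟩).symm
    simpa using (h1.mul_right l).symm.trans h
  have hl0 : l ≠ 0 := fun e => by rw [e, mul_zero] at hl; omega
  obtain ⟨a, ha⟩ := (Nat.modEq_iff_dvd' (Nat.one_le_iff_ne_zero.2 hk0)).1 h1.symm
  obtain ⟨b, hb⟩ := (Nat.modEq_iff_dvd' (Nat.one_le_iff_ne_zero.2 hl0)).1 hl1.symm
  have ek : k = q * a + 1 := by omega
  have el : l = q * b + 1 := by omega
  subst ek el
  rcases Nat.eq_zero_or_pos a with rfl | ha0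
  · left; simp
  have hqq : q ≤ q ^ 2 := Nat.le_self_pow two_ne_zero q
  rcases Nat.eq_zero_or_pos b with rfl | hb0
  · exfalso
    have h3 : q ^ 3 = q * (q ^ 2) := by ring
    have : q * a = q ^ 3 := by rw [mul_zero, zero_add, mul_one] at hl; omega
    have : q ^ 2 * 1 ≤ q ^ 2 * q := Nat.mul_le_mul_left _ (by omega)
    have : q ^ 2 * q = q ^ 3 := by ring
    omega
  obtain ⟨a', rfl⟩ : ∃ a', a = a' + 1 := ⟨a - 1, by omega⟩
  obtain ⟨b', rfl⟩ : ∃ b', b = b' + 1 := ⟨b - 1, by omega⟩
  have e1 : q * ((a' + 1) * (b' + 1)) + (a' + b' + 2) = q * q := by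
    refine Nat.eq_of_mul_eq_mul_left (show 0 < q by omega) ?_
    nlinarith [hl]
  obtain ⟨c, hc⟩ : q ∣ a' + b' + 2 := (Nat.dvd_add_right (Dvd.intro _ rfl)).1 (e1 ▸ Dvd.intro q rfl)
  have e2 : (a' + 1) * (b' + 1) + c = q := by
    refine Nat.eq_of_mul_eq_mul_left (show 0 < q by omega) ?_
    rw [Nat.mul_add, ← hc, e1]
  have hc0 : 1 ≤ c := Nat.one_le_iff_ne_zero.2 fun e => by rw [e, mul_zero] at hc; omega
  have e3 : a' * b' + c * (q + 1) = q + 1 := by nlinarith
  have hc1 : c = 1 := by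
    by_contra hne
    have : 2 * (q + 1) ≤ c * (q + 1) := Nat.mul_le_mul_right _ (by omega)
    omega
  rw [hc1, one_mul] at e3
  rw [hc1, mul_one] at hc
  rcases Nat.mul_eq_zero.1 (show a' * b' = 0 by omega) with rfl | rfl
  · right; left; simp
  · right; right
    rw [show a' + 1 = q - 1 by omega, Nat.mul_sub_one, pow_two]

variable {M : Subgroup (SpecialLinearGroup (Fin 3) F)} (hMi : M ≤ iso K)
  (hM : ∀ s ∈ iso K, Rt (fixedField K.bar) s → s ∈ M) (hne : M ≠ iso K) (h2 : (2 : F) ≠ 0) (h3q : 3 ≤ q)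

include hMi hM hne h2 h3q

theorem orb_inv {l : F} (hl : K.bar l = l) (hl0 : l ≠ 0) {c b : F} (h : (c, b) ∈ Orb M) :
    (l * l * c, l * b) ∈ Orb M := by
  obtain ⟨g, hg, g2, g0, g1⟩ := h
  refine ⟨tor K l * g, M.mul_mem (tor_M K hMi hM hne h2 h3q hl0 (by rw [map_div₀, map_mul, K.bar_bar, hl])) hg, ?_, ?_, ?_⟩ <;>
    simp [tor_coe K hl0, Matrix.diagonal_mul, hl, hl0, g0, g1, g2] <;> field_simp

theorem orb_mod : ∃ j, (Orb M).ncard + 1 = 1 + j * q := by
  let U : Subgroup S :=
    { carrier := {x | ∃ t, K.bar t = t ∧ x = Ur t}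
      one_mem' := ⟨0, map_zero _, by simp [Ur, u_zero]⟩
      mul_mem' := by
        rintro x y ⟨s, hs, rfl⟩ ⟨t, ht, rfl⟩
        exact ⟨s + t, by rw [map_add, hs, ht], Ur_mul h2 s t⟩
      inv_mem' := by
        rintro x ⟨s, hs, rfl⟩
        refine ⟨-s, by rw [map_neg, hs], inv_eq_of_mul_eq_one_right ?_⟩
        rw [Ur_mul h2, add_neg_cancel]; simp [Ur, u_zero] }
  have hU : Nat.card U = q := by
    rw [← card_fix K]
    exact (Nat.card_congr (Equiv.ofBijective (fun t : fixedField K.bar => (⟨Ur (t : F), t, t.2, rfl⟩ : U))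
      ⟨fun s t e => Subtype.ext (u_ext (congrArg Subtype.val e)).1,
        fun ⟨_, t, ht, e⟩ => ⟨⟨t, ht⟩, Subtype.ext e.symm⟩⟩)).symm
  obtain ⟨j, hj⟩ := exists_relIndex_eq (H := M) (A := (ptStab : Subgroup S)) (U := U)
    (by rintro x ⟨t, ht, rfl⟩; exact Ur_M K hMi hM hne h2 h3q ht)
    (by rintro x ⟨t, -, rfl⟩; exact u_mem_ptStab _ _ _) fun g hg hA x hx hxA => by
      obtain ⟨t, ht, rfl⟩ := hx
      have g2 := (exists_u_col K (hMi hg) hA).1
      obtain ⟨a1, a2⟩ := mem_ptStab.1 hxA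
      obtain ⟨y, hy⟩ : ∃ y, y = g⁻¹ * Ur t * g := ⟨_, rfl⟩
      rw [← hy] at a1 a2
      have e : (Ur t : S) * g = g * y := by rw [hy]; group
      have e2 := congrArg (fun z : S => m[z] 2 0) e
      have e1 := congrArg (fun z : S => m[z] 1 0) e
      simp [Ur, Matrix.mul_apply, Fin.sum_univ_three, a1, a2] at e1 e2
      have hl : m[y] 0 0 = 1 := mul_left_cancel₀ g2 (by rw [mul_one]; exact e2.symm)
      rw [hl, mul_one] at e1
      have h0 : t = 0 := (mul_eq_zero.1 (show t * m[g] 2 0 = 0 by linear_combination -e1)).resolve_right g2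
      subst h0
      simp [Ur, u_zero]
  rw [relIndex_eq K hMi, hU] at hj
  exact ⟨j, hj⟩

theorem orb_torus {s : ℕ} (hs : q = 2 * s + 1) : s ∣ (Orb M).ncard - 1 := by
  classical
  let S0 : Set F := {c | c ≠ 0 ∧ (c, (0 : F)) ∈ Orb M}
  let S1 : Set (F × F) := {p | p.2 ≠ 0 ∧ p ∈ Orb M}
  have h00 : ((0 : F), (0 : F)) ∈ Orb M :=
    ⟨w, w_M K hMi hM hne h2 h3q, by simp, by simp, by simp⟩
  have hsplit : Orb M = insert ((0 : F), (0 : F)) ((fun c : F => (c, (0 : F))) '' S0 ∪ S1) := by
    ext ⟨c, b⟩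
    constructor
    · intro h
      by_cases hb : b = 0
      · subst hb
        by_cases hc : c = 0
        · subst hc; exact Set.mem_insert _ _
        · exact Or.inr (Or.inl ⟨c, ⟨hc, h⟩, rfl⟩)
      · exact Or.inr (Or.inr ⟨hb, h⟩)
    · rintro (e | ⟨x, hx, e⟩ | h)
      · rw [e]; exact h00
      · rw [← e]; exact hx.2
      · exact h.2
  have hn : (Orb M).ncard = S0.ncard + S1.ncard + 1 := by
    rw [hsplit, Set.ncard_insert_of_notMem, Set.ncard_union_eq, Set.ncard_image_of_injective _ fun x y e => (Prod.mk.inj e).1]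
    · rw [Set.disjoint_left]
      rintro _ ⟨x, -, rfl⟩ h
      exact h.1 rfl
    · rintro (⟨x, hx, e⟩ | h)
      · exact hx.1 (Prod.mk.inj e).1
      · exact h.1 rfl
  have hS1 : Nat.card (Rg K) ∣ S1.ncard := by
    let _ : MulAction (Rg K) S1 :=
      { smul := fun l p => ⟨(((l : Fˣ) : F) * ((l : Fˣ) : F) * p.1.1, ((l : Fˣ) : F) * p.1.2),
          mul_ne_zero (Units.ne_zero _) p.2.1, orb_inv K hMi hM hne h2 h3q l.2 (Units.ne_zero _) p.2.2⟩
        one_smul := fun p => Subtype.ext (Prod.ext (by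
          show ((((1 : Rg K) : Fˣ)) : F) * _ * p.1.1 = _; simp) (by
          show ((((1 : Rg K) : Fˣ)) : F) * p.1.2 = _; simp))
        mul_smul := fun l l' p => Subtype.ext (Prod.ext (by
          show (((l * l' : Rg K) : Fˣ) : F) * _ * p.1.1 = ((l : Fˣ) : F) * _ * (((l' : Fˣ) : F) * _ * p.1.1)
          push_cast; ring) (by
          show (((l * l' : Rg K) : Fˣ) : F) * p.1.2 = ((l : Fˣ) : F) * (((l' : Fˣ) : F) * p.1.2)
          push_cast; ring)) }
    rw [← Nat.card_coe_set_eq]
    refine CfsgLib.SingerFixed.card_dvd_of_free fun l p e => Subtype.ext (Units.ext ?_)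
    have h := (Prod.ext_iff.1 (congrArg Subtype.val e)).2
    show ((l : Fˣ) : F) = 1
    exact mul_right_cancel₀ p.2.1 (by rw [one_mul]; exact h)
  let Q2 : Subgroup Fˣ := (powMonoidHom 2 : Fˣ →* Fˣ).comp (Rg K).subtype |>.range
  have hQ2 : Nat.card Q2 = s := by
    have h1 := ((powMonoidHom 2 : Fˣ →* Fˣ).comp (Rg K).subtype).ker.card_mul_index
    rw [Subgroup.index_ker, card_Rg K] at h1
    have hker : Nat.card ((powMonoidHom 2 : Fˣ →* Fˣ).comp (Rg K).subtype).ker = 2 := by
      rw [Nat.card_eq_two_iff]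
      have hm : (-1 : Fˣ) ∈ Rg K := show K.bar ((-1 : Fˣ) : F) = _ by simp
      refine ⟨1, ⟨⟨-1, hm⟩, MonoidHom.mem_ker.2 (by simp)⟩, fun e => ?_, ?_⟩
      · have := congrArg (fun x : ((powMonoidHom 2 : Fˣ →* Fˣ).comp (Rg K).subtype).ker => (((x : Rg K) : Fˣ) : F)) e
        simp at this
        exact h2 (by linear_combination this)
      · refine Set.eq_univ_of_forall fun x => ?_
        have hx := MonoidHom.mem_ker.1 x.2
        simp only [MonoidHom.comp_apply, Subgroup.coe_subtype, powMonoidHom_apply] at hx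
        have hx' : (((x : Rg K) : Fˣ) : F) * (((x : Rg K) : Fˣ) : F) = 1 := by
          rw [← Units.val_mul, ← pow_two, hx, Units.val_one]
        rcases mul_self_eq_one_iff.1 hx' with h | h
        · exact Or.inl (Subtype.ext (Subtype.ext (Units.ext h)))
        · exact Or.inr (Subtype.ext (Subtype.ext (Units.ext (by simpa using h))))
    rw [hker] at h1
    have : 2 * Nat.card Q2 = q - 1 := h1
    omega
  have hS0 : Nat.card Q2 ∣ S0.ncard := by
    let _ : MulAction Q2 S0 :=
      { smul := fun l c => ⟨((l : Fˣ) : F) * c.1, mul_ne_zero (Units.ne_zero _) c.2.1, by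
          obtain ⟨m, hm⟩ := l.2
          have := orb_inv K hMi hM hne h2 h3q m.2 (Units.ne_zero _) c.2.2
          rw [mul_zero] at this
          rwa [show ((l : Fˣ) : F) = ((m : Fˣ) : F) * ((m : Fˣ) : F) by rw [← hm]; simp [pow_two]]⟩
        one_smul := fun c => Subtype.ext (by show ((((1 : Q2) : Fˣ)) : F) * c.1 = _; simp)
        mul_smul := fun l l' c => Subtype.ext (by
          show (((l * l' : Q2) : Fˣ) : F) * c.1 = ((l : Fˣ) : F) * (((l' : Fˣ) : F) * c.1)
          push_cast; ring) }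
    rw [← Nat.card_coe_set_eq]
    refine CfsgLib.SingerFixed.card_dvd_of_free fun l c e => Subtype.ext (Units.ext ?_)
    show ((l : Fˣ) : F) = 1
    exact mul_right_cancel₀ c.2.1 (by rw [one_mul]; exact congrArg Subtype.val e)
  rw [hQ2] at hS0
  rw [card_Rg K] at hS1
  rw [hn, Nat.add_sub_cancel]
  exact Nat.dvd_add hS0 (dvd_trans ⟨2, by omega⟩ hS1)

theorem card_M_eq : Nat.card M = ((Orb M).ncard + 1) * (q * ((q - 1) * Nat.card (ratio K).range)) := by
  rw [card_eq_mul, relIndex_eq K hMi, card_stab K hMi hM hne h2 h3q, (card_Lg K).1]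

/-- The orbit is everything or the real one. -/
theorem orb_cases (hodd : Odd q) (h7 : 7 ≤ q) :
    (∀ g ∈ M, Rt (fixedField K.bar) g) ∨ (Orb M).ncard = q ^ 3 := by
  classical
  have hHM : realGrp K ≤ M := fun s hs => hM s hs.1 hs.2
  have hHA : (ptStab ⊓ realGrp K : Subgroup S) = ptStab ⊓ M := by
    refine le_antisymm (inf_le_inf_left _ hHM) fun x hx => ⟨hx.1, hMi hx.2, ?_⟩
    obtain ⟨l, t, hl, hk, ht, e⟩ := stab_real K hMi hM hne h2 h3q hx.2 hx.1
    rw [e]
    refine Rt.mul ?_ (Ur_rt K ht)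
    have lb := bar_ne_zero K hl
    refine ⟨K.bar l / l, div_ne_zero lb hl, fun i j => ?_⟩
    rw [tor_coe K hl]
    rcases eq_or_ne i j with rfl | hij
    · rw [Matrix.diagonal_apply_eq]
      fin_cases i
      · show l / (K.bar l / l) ∈ _
        rw [div_div_eq_mul_div]; exact (mem_fix K).2 hk
      · show K.bar l / l / (K.bar l / l) ∈ _
        rw [div_self (div_ne_zero lb hl)]; exact (fixedField K.bar).one_mem
      · show (K.bar l)⁻¹ / (K.bar l / l) ∈ _
        have h' := hk
        rw [map_div₀, map_mul, K.bar_bar] at h'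
        rw [show (K.bar l)⁻¹ / (K.bar l / l) = (K.bar l * K.bar l / l)⁻¹ by field_simp, h']
        exact (fixedField K.bar).inv_mem ((mem_fix K).2 hk)
    · rw [Matrix.diagonal_apply_ne _ hij, zero_div]; exact (fixedField K.bar).zero_mem
  have hOH : (Orb (realGrp K)).ncard = q := by
    have e : Orb (realGrp K) = (fun t : F => (-(t ^ 2) / 2, t)) '' {t | K.bar t = t} := by
      ext ⟨c, b⟩
      constructor
      · intro hcb
        obtain ⟨g, ⟨hgi, l, hl, hgr⟩, g2, g0, g1⟩ := hcb
        have hv := orb_subset K (M := realGrp K) (fun x (hx : x ∈ realGrp K) => hx.1) ⟨g, ⟨hgi, l, hl, hgr⟩, g2, g0, g1⟩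
        simp only [Set.mem_ofPred_eq] at hv
        simp only at g0 g1
        have hb : K.bar b = b := (mem_fix K).1 (by
          have := (fixedField K.bar).div_mem (hgr 1 0) (hgr 2 0)
          rwa [div_div_div_cancel_right₀ hl, g1, mul_div_assoc, div_self g2, mul_one] at this)
        have hc : K.bar c = c := (mem_fix K).1 (by
          have := (fixedField K.bar).div_mem (hgr 0 0) (hgr 2 0)
          rwa [div_div_div_cancel_right₀ hl, g0, mul_div_assoc, div_self g2, mul_one] at this)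
        rw [hb, hc] at hv
        refine ⟨b, hb, Prod.ext ?_ rfl⟩
        show -(b ^ 2) / 2 = c
        field_simp
        linear_combination -hv
      · rintro ⟨t, ht, e⟩
        rw [← e]
        refine ⟨Ur (-t) * w, ⟨(iso K).mul_mem (Ur_mem K (by rw [map_neg, ht]) h2) (w_mem K),
          (Ur_rt K (by rw [map_neg, ht])).mul (rt_w _)⟩, ?_, ?_, ?_⟩ <;>
          simp [Ur, Matrix.mul_apply, Fin.sum_univ_three]
    rw [e, Set.ncard_image_of_injective _ fun x y h => (Prod.mk.inj h).2]
    conv_rhs => rw [← card_fix K]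
    rw [← Nat.card_coe_set_eq]
    rfl
  have hcH : Nat.card (realGrp K) = (q + 1) * Nat.card (ptStab ⊓ M : Subgroup S) := by
    rw [card_eq_mul, relIndex_eq K (fun x (hx : x ∈ realGrp K) => hx.1), hOH, hHA]
  have hcM : Nat.card M = ((Orb M).ncard + 1) * Nat.card (ptStab ⊓ M : Subgroup S) := by
    rw [card_eq_mul, relIndex_eq K hMi]
  have hApos : 0 < Nat.card (ptStab ⊓ M : Subgroup S) := Nat.card_pos
  obtain ⟨k, hk⟩ : q + 1 ∣ (Orb M).ncard + 1 := by
    have := Subgroup.card_dvd_of_le hHM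
    rw [hcH, hcM] at this
    exact (Nat.mul_dvd_mul_iff_right hApos).1 this
  by_cases hk1 : k = 1
  · left
    intro g hg
    have e : realGrp K = M := Subgroup.eq_of_le_of_card_ge hHM (by rw [hcH, hcM, hk, hk1, mul_one])
    exact (e.symm ▸ hg : g ∈ realGrp K).2
  right
  have hk0 : k ≠ 0 := fun e => by rw [e, mul_zero] at hk; omega
  obtain ⟨s, hs⟩ := hodd
  obtain ⟨j, hj⟩ := orb_mod K hMi hM hne h2 h3q
  have m1 : k ≡ 1 [MOD q] := by
    have h : ((q + 1) * k) % q = (1 + j * q) % q := congrArg (· % q) (hk.symm.trans hj)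
    rw [Nat.add_mul, one_mul, Nat.mul_add_mod, Nat.add_mul_mod_self_right] at h
    exact h
  have hA : Nat.card (ptStab ⊓ M : Subgroup S) = q * ((q - 1) * Nat.card (ratio K).range) := by
    rw [card_stab K hMi hM hne h2 h3q, (card_Lg K).1]
  have hdiv : k ∣ q ^ 3 + 1 := by
    have h := Subgroup.card_dvd_of_le hMi
    rw [card_eq_mul (M := iso K), relIndex_iso K, card_iso_stab K, hcM, hA, hk] at h
    obtain ⟨t, ht⟩ := h
    have hq2 : q ^ 2 - 1 = (q - 1) * (q + 1) := by
      rw [Nat.mul_comm, ← Nat.sq_sub_sq, one_pow]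
    rw [hq2] at ht
    have hpos : 0 < (q + 1) * (q * (q - 1)) := Nat.mul_pos (by omega) (Nat.mul_pos (by omega) (by omega))
    have e : (q ^ 3 + 1) * q ^ 2 = k * (Nat.card (ratio K).range * t) := by
      refine Nat.eq_of_mul_eq_mul_left hpos ?_
      calc (q + 1) * (q * (q - 1)) * ((q ^ 3 + 1) * q ^ 2) = (q ^ 3 + 1) * ((q - 1) * (q + 1) * q ^ 3) := by ring
        _ = _ := ht
        _ = _ := by ring
    have hcop : Nat.Coprime k (q ^ 2) := by
      refine Nat.Coprime.pow_right 2 ?_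
      have := Nat.ModEq.gcd_eq m1
      rw [Nat.gcd_one_left] at this
      exact this
    exact hcop.dvd_of_dvd_mul_right ⟨_, e⟩
  have hle : k ≤ q ^ 2 - q + 1 := by
    by_contra hgt
    have h := orb_le K hMi
    have : (q + 1) * (q ^ 2 - q + 2) ≤ (q + 1) * k := Nat.mul_le_mul_left _ (by omega)
    obtain ⟨d, hd⟩ := Nat.exists_eq_add_of_le (Nat.le_self_pow two_ne_zero q)
    rw [hd, Nat.add_sub_cancel_left] at this
    nlinarith
  rcases eq_of_dvd_cube (by omega) m1 hdiv hle with e | e | e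
  · exact absurd e hk1
  · exfalso
    obtain ⟨i, hi⟩ := orb_torus K hMi hM hne h2 h3q hs
    rw [e] at hk
    have e4 : (q + 1) * (q + 1) = s * (4 * s + 8) + 4 := by rw [hs]; ring
    rw [e4] at hk
    have : s ∣ 2 := by
      have h5 : s * (4 * s + 8) + 2 = s * i := by omega
      exact (Nat.dvd_add_right (Dvd.intro _ rfl)).1 (h5 ▸ Dvd.intro i rfl)
    have := Nat.le_of_dvd two_pos this
    omega
  · rw [e] at hk
    obtain ⟨d, hd⟩ := Nat.exists_eq_add_of_le (Nat.le_self_pow two_ne_zero q)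
    rw [hd, Nat.add_sub_cancel_left] at hk
    have : q ^ 3 + 1 = (q + 1) * (d + 1) := by
      have : q * q = q + d := by rw [← pow_two]; exact hd
      nlinarith
    omega

end CfsgLib.Classical.ThreeMax.SUThree
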