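import Cfsg.Agent.Lib.Classical.ThreeMax.SURealCount
import Mathlib.NumberTheory.LegendreSymbol.QuadraticChar.Basic

/-!
An overgroup of the real group moving the first point to every isotropic point exists only for small fields:
the centraliser of a diagonal involution would pair the points of its line equivariantly.
-/

set_option autoImplicit false
set_option linter.unusedSectionVars false

namespace CfsgLib.Classical.ThreeMax.SUThree

open Matrix
open CfsgLib.ClassicalAut (Unitary.Conj)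
open CfsgLib.Classical.ThreeMax.HermSL (hj)
open CfsgLib.AutPSL (fixedField)
open scoped MatrixGroups

variable {F : Type*} [Field F] [Finite F] {q : ℕ} (K : Unitary.Conj F q)

local notation "S" => SpecialLinearGroup (Fin 3) F
local notation "m[" g "]" => (((g : SpecialLinearGroup (Fin 3) F) : Matrix (Fin 3) (Fin 3) F))

/-- The middle coordinate splits off. -/
def Cm (g : SpecialLinearGroup (Fin 3) F) : Prop :=
  m[g] 0 1 = 0 ∧ m[g] 1 0 = 0 ∧ m[g] 1 2 = 0 ∧ m[g] 2 1 = 0

omit K [Finite F] in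
theorem Cm.mul {g h : S} (hg : Cm g) (hh : Cm h) : Cm (g * h) := by
  obtain ⟨a, b, c, d⟩ := hg
  obtain ⟨a', b', c', d'⟩ := hh
  refine ⟨?_, ?_, ?_, ?_⟩ <;> simp [Matrix.mul_apply, Fin.sum_univ_three, a, b, c, d, a', b', c', d']

omit K [Finite F] in
theorem cm_w : Cm (w : S) := by simp [Cm]

omit K [Finite F] in
theorem Cm.inv {g : S} (hg : Cm g) : Cm g⁻¹ := by
  obtain ⟨a, b, c, d⟩ := hg
  refine ⟨?_, ?_, ?_, ?_⟩ <;> simp [SpecialLinearGroup.coe_inv, Matrix.adjugate_fin_three, a, b, c, d]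

theorem cm_tor {l : F} (hl : l ≠ 0) : Cm (tor K l : S) := by simp [Cm, tor_coe K hl]

/-- A pair of slopes of images of the two points of the line. -/
def Pair (M : Subgroup (SpecialLinearGroup (Fin 3) F)) (θ r s : F) : Prop :=
  ∃ g ∈ M, Cm g ∧ m[g] 2 0 ≠ 0 ∧ m[g] 2 2 ≠ 0 ∧ m[g] 0 0 = θ * r * m[g] 2 0 ∧ m[g] 0 2 = θ * s * m[g] 2 2

variable {M : Subgroup (SpecialLinearGroup (Fin 3) F)} (hMi : M ≤ iso K)
  (hM : ∀ s ∈ iso K, Rt (fixedField K.bar) s → s ∈ M) (hne : M ≠ iso K) (h2 : (2 : F) ≠ 0) (h3q : 3 ≤ q)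

include hMi hM hne h2 h3q

theorem cm_stab {x : S} (hx : x ∈ M) (hA : x ∈ ptStab) (hc : Cm x) : m[x] 0 2 = 0 := by
  obtain ⟨l, t, hl, -, -, e⟩ := stab_real K hMi hM hne h2 h3q hx hA
  have h := hc.1
  rw [e] at h ⊢
  simp [Ur, tor_coe K hl, Matrix.diagonal_mul, hl] at h ⊢
  simp [h]

theorem exists_line_elt (hall : (Orb M).ncard = q ^ 3) {c : F} (hc : c + K.bar c = 0) :
    ∃ g ∈ M, Cm g ∧ m[g] 2 0 ≠ 0 ∧ m[g] 0 0 = c * m[g] 2 0 := by
  classical
  have hO : Orb M = {p : F × F | p.1 + K.bar p.1 + p.2 * K.bar p.2 = 0} :=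
    Set.eq_of_subset_of_ncard_le (orb_subset K hMi) (by
      rw [hall, ← card_par K]; exact le_of_eq (Nat.card_coe_set_eq _)) (Set.toFinite _)
  obtain ⟨g, hg, g2, g0, g1⟩ : (c, (0 : F)) ∈ Orb M := by rw [hO]; simpa using hc
  simp only at g0 g1
  rw [zero_mul] at g1
  have hneg : (-1 : F) ≠ 0 := neg_ne_zero.2 one_ne_zero
  obtain ⟨t, htd⟩ : ∃ t : S, t = tor K (-1) := ⟨_, rfl⟩
  have ht : m[t] = Matrix.diagonal ![-1, 1, -1] := by rw [htd, tor_coe K hneg]; simp [neg_div_neg_eq]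
  have htM : t ∈ M := htd ▸ tor_M K hMi hM hne h2 h3q hneg (by simp)
  obtain ⟨y, hy⟩ : ∃ y : S, y = g⁻¹ * (t * g) := ⟨_, rfl⟩
  have hyA : y ∈ ptStab := hy ▸ mem_ptStab_of_col (l := -1) fun i => by
    fin_cases i <;> simp [ht, Matrix.diagonal_mul, g1]
  have ht2 : t * t = 1 := by
    refine Subtype.ext ?_
    show m[t] * m[t] = 1
    rw [ht, Matrix.diagonal_mul_diagonal, ← Matrix.diagonal_one]
    congr 1; funext i; fin_cases i <;> simp
  obtain ⟨l, s, hl, -, hs, hye⟩ :=
    stab_real K hMi hM hne h2 h3q (hy ▸ M.mul_mem (M.inv_mem hg) (M.mul_mem htM hg)) hyA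
  have hy2 : y * y = 1 := by rw [hy]; simp [mul_assoc, ← mul_assoc t t, ht2]
  have e00 := congrArg (fun z : S => m[z] 0 0) hy2
  have e01 := congrArg (fun z : S => m[z] 0 1) hy2
  rw [hye] at e00 e01
  simp [Ur, tor_coe K hl, Matrix.mul_apply, Fin.sum_univ_three, Matrix.diagonal_mul] at e00 e01
  have hl1 : l = 1 ∨ l = -1 := mul_self_eq_one_iff.1 e00
  have hlb : K.bar l = l := by rcases hl1 with rfl | rfl <;> simp
  rw [hlb, div_self hl] at e01
  rcases hl1 with rfl | rfl
  · exfalso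
    have hs0 : s = 0 := (mul_eq_zero.1 (show (2 : F) * s = 0 by linear_combination e01)).resolve_left h2
    rw [hs0] at hye
    have hy1 : y = 1 := by
      rw [hye]
      refine Subtype.ext ?_
      show m[tor K 1] * m[Ur 0] = 1
      rw [tor_coe K hl]
      ext i j
      fin_cases i <;> fin_cases j <;> simp [Ur, Matrix.diagonal_mul]
    rw [hy, inv_mul_eq_one] at hy1
    have ht1 : t = 1 := mul_right_cancel (hy1.symm.trans (one_mul g).symm)
    have := congrArg (fun z : S => m[z] 0 0) ht1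
    simp [ht] at this
    exact h2 (by linear_combination -this)
  · rw [← htd] at hye
    have hmove : ∀ b : F, t * Ur b = (Ur (-b) : S) * t := fun b => by
      refine Subtype.ext ?_
      show m[t] * m[Ur b] = m[Ur (-b)] * m[t]
      rw [ht]
      ext i j
      fin_cases i <;> fin_cases j <;> simp [Ur, Matrix.diagonal_mul, Matrix.mul_diagonal]
    obtain ⟨b, hb⟩ : ∃ b, b = -s / 2 := ⟨_, rfl⟩
    have hbb : K.bar b = b := by rw [hb, map_div₀, map_neg, hs, map_ofNat]
    have hUinv : (Ur b : S)⁻¹ = Ur (-b) := inv_eq_of_mul_eq_one_right (by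
      rw [Ur_mul h2, add_neg_cancel]; simp [Ur, u_zero])
    have hcomm : t * (g * Ur b) = g * Ur b * t := by
      have e1 : t * g = g * y := by rw [hy, mul_inv_cancel_left]
      rw [← mul_assoc, e1, hye, mul_assoc, mul_assoc, Ur_mul h2, mul_assoc g (Ur b) t]
      congr 1
      rw [hmove]
      congr 2
      rw [hb]; field_simp; ring
    refine ⟨g * Ur b, M.mul_mem hg (Ur_M K hMi hM hne h2 h3q hbb), ?_, ?_, ?_⟩
    · have h' : m[t] * m[g * Ur b] = m[g * Ur b] * m[t] := congrArg Subtype.val hcomm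
      rw [ht] at h'
      have cancel : ∀ x : F, x = -x → x = 0 := fun x e =>
        (mul_eq_zero.1 (show (2 : F) * x = 0 by linear_combination e)).resolve_left h2
      refine ⟨?_, ?_, ?_, ?_⟩
      · have := congrFun (congrFun h' 0) 1
        simp only [Matrix.diagonal_mul, Matrix.mul_diagonal] at this
        exact cancel _ (by simpa using this.symm)
      · have := congrFun (congrFun h' 1) 0
        simp only [Matrix.diagonal_mul, Matrix.mul_diagonal] at this
        exact cancel _ (by simpa using this)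
      · have := congrFun (congrFun h' 1) 2
        simp only [Matrix.diagonal_mul, Matrix.mul_diagonal] at this
        exact cancel _ (by simpa using this)
      · have := congrFun (congrFun h' 2) 1
        simp only [Matrix.diagonal_mul, Matrix.mul_diagonal] at this
        exact cancel _ (by simpa using this.symm)
    · simpa [Ur, Matrix.mul_apply, Fin.sum_univ_three] using g2
    · simp [Ur, Matrix.mul_apply, Fin.sum_univ_three, g0]

theorem line_nonzero {g : S} (hg : g ∈ M) (hc : Cm g) (h20 : m[g] 2 0 ≠ 0) (h00 : m[g] 0 0 ≠ 0) :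
    m[g] 2 2 ≠ 0 ∧ m[g] 0 2 ≠ 0 := by
  have hw := w_M K hMi hM hne h2 h3q
  refine ⟨fun e => ?_, fun e => ?_⟩
  · have hA : g * w ∈ ptStab := mem_ptStab.2 ⟨by simp [Matrix.mul_apply, Matrix.vecMul, dotProduct, Fin.sum_univ_three, hc.2.2.1],
      by simp [Matrix.mul_apply, Matrix.vecMul, dotProduct, Fin.sum_univ_three, e]⟩
    have := cm_stab K hMi hM hne h2 h3q (M.mul_mem hg hw) hA (hc.mul cm_w)
    simp [Matrix.mul_apply, Matrix.vecMul, dotProduct, Fin.sum_univ_three] at this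
    exact h00 this
  · have hA : (w : S) * g * w ∈ ptStab := mem_ptStab.2 ⟨by simp [Matrix.mul_apply, Matrix.vecMul, dotProduct, Fin.sum_univ_three, hc.2.2.1],
      by simp [Matrix.mul_apply, Matrix.vecMul, dotProduct, Fin.sum_univ_three, e]⟩
    have := cm_stab K hMi hM hne h2 h3q (M.mul_mem (M.mul_mem hw hg) hw) hA ((cm_w.mul hc).mul cm_w)
    simp [Matrix.mul_apply, Matrix.vecMul, dotProduct, Fin.sum_univ_three] at this
    exact h20 this

variable {θ : F} (hθ0 : θ ≠ 0) (hθ : θ + K.bar θ = 0)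
include hθ0 hθ

theorem exists_pair (hall : (Orb M).ncard = q ^ 3) {r : F} (hr : K.bar r = r) (hr0 : r ≠ 0) :
    ∃ s, K.bar s = s ∧ s ≠ 0 ∧ Pair M θ r s := by
  obtain ⟨g, hg, hc, g2, g0⟩ := exists_line_elt K hMi hM hne h2 h3q hall (c := θ * r)
    (by rw [map_mul, hr]; linear_combination r * hθ)
  obtain ⟨g22, g02⟩ := line_nonzero K hMi hM hne h2 h3q hg hc g2 (by rw [g0]; exact mul_ne_zero (mul_ne_zero hθ0 hr0) g2)
  obtain ⟨s, hs⟩ : ∃ s, s = m[g] 0 2 / (θ * m[g] 2 2) := ⟨_, rfl⟩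
  have e02 : m[g] 0 2 = θ * s * m[g] 2 2 := by rw [hs]; field_simp
  refine ⟨s, ?_, fun e => g02 (by rw [e02, e]; ring), g, hg, hc, g2, g22, g0, e02⟩
  have h := mem_iso K |>.1 (hMi hg) ![0, 0, 1] ![0, 0, 1]
  simp [hj, Matrix.mulVec, dotProduct, Fin.sum_univ_three, hc.2.2.1] at h
  rw [e02, map_mul, map_mul, show K.bar θ = -θ by linear_combination hθ] at h
  have : (s - K.bar s) * (θ * (m[g] 2 2 * K.bar (m[g] 2 2))) = 0 := by linear_combination h
  exact (sub_eq_zero.1 ((mul_eq_zero.1 this).resolve_right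
    (mul_ne_zero hθ0 (mul_ne_zero g22 (bar_ne_zero K g22))))).symm

theorem pair_ne {r s : F} (hr : K.bar r = r) (hs : K.bar s = s) (h : Pair M θ r s) : r ≠ s := by
  obtain ⟨g, hg, hc, g20, g22, g0, g2⟩ := h
  intro e
  have h := mem_iso K |>.1 (hMi hg) ![1, 0, 0] ![0, 0, 1]
  simp [hj, Matrix.mulVec, dotProduct, Fin.sum_univ_three, hc.2.1] at h
  rw [g0, g2, map_mul, map_mul, hs, show K.bar θ = -θ by linear_combination hθ, e] at h
  exact one_ne_zero (α := F) (by linear_combination -h)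

theorem pair_unique {r s s' : F} (h : Pair M θ r s) (h' : Pair M θ r s') : s = s' := by
  obtain ⟨g, hg, hc, g20, g22, g0, g2⟩ := h
  obtain ⟨g', hg', hc', g20', g22', g0', g2'⟩ := h'
  have hA : g⁻¹ * g' ∈ ptStab := mem_ptStab_of_col (l := m[g'] 2 0 / m[g] 2 0) fun i => by
    fin_cases i
    · show m[g'] 0 0 = _ * m[g] 0 0
      rw [g0, g0']; field_simp
    · show m[g'] 1 0 = _ * m[g] 1 0
      rw [hc.2.1, hc'.2.1, mul_zero]
    · show m[g'] 2 0 = _ * m[g] 2 0
      rw [div_mul_cancel₀ _ g20]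
  obtain ⟨x, hx⟩ : ∃ x : S, x = g⁻¹ * g' := ⟨_, rfl⟩
  have hxc : Cm x := hx ▸ hc.inv.mul hc'
  have hx02 := cm_stab K hMi hM hne h2 h3q (M.mul_mem (M.inv_mem hg) hg') hA (hc.inv.mul hc')
  rw [← hx] at hx02 hA
  have e : g' = g * x := by rw [hx, mul_inv_cancel_left]
  have a0 : m[g'] 0 2 = m[g] 0 2 * m[x] 2 2 := by
    rw [e]; simp [Matrix.mul_apply, Fin.sum_univ_three, hx02, hxc.2.2.1]
  have a2 : m[g'] 2 2 = m[g] 2 2 * m[x] 2 2 := by
    rw [e]; simp [Matrix.mul_apply, Fin.sum_univ_three, hx02, hxc.2.2.1]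
  rw [g2, g2', a2] at a0
  have hx22 : m[x] 2 2 ≠ 0 := fun e0 => g22' (by rw [a2, e0, mul_zero])
  exact (mul_left_cancel₀ hθ0 (mul_right_cancel₀ (mul_ne_zero g22 hx22)
    (by linear_combination a0))).symm

theorem pair_symm {r s : F} (h : Pair M θ r s) : Pair M θ s r := by
  obtain ⟨g, hg, hc, g20, g22, g0, g2⟩ := h
  refine ⟨g * w, M.mul_mem hg (w_M K hMi hM hne h2 h3q), hc.mul cm_w, ?_, ?_, ?_, ?_⟩ <;>
    simp [Matrix.mul_apply, Fin.sum_univ_three, g20, g22, g0, g2]

theorem pair_scale {r s l : F} (hl : K.bar l = l) (hl0 : l ≠ 0) (h : Pair M θ r s) :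
    Pair M θ (l * l * r) (l * l * s) := by
  obtain ⟨g, hg, hc, g20, g22, g0, g2⟩ := h
  refine ⟨tor K l * g, M.mul_mem (tor_M K hMi hM hne h2 h3q hl0 (by rw [map_div₀, map_mul, K.bar_bar, hl])) hg,
    (cm_tor K hl0).mul hc, ?_, ?_, ?_, ?_⟩ <;>
    simp [tor_coe K hl0, Matrix.diagonal_mul, hl, hl0, g20, g22, g0, g2] <;> field_simp

/-- An element carrying the pair of the line to a pair with slopes `1, c` acts by a linear fractional map. -/
theorem exists_move {c : F} (hc : K.bar c = c) (h : Pair M θ 1 c) : ∃ β : F, K.bar β = β ∧ β ≠ 0 ∧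
    ∀ r s, r ≠ 0 → Pair M θ r s →
      (1 + β * r = 0 → 1 + c * β * s = 0) ∧
      (1 + β * r ≠ 0 → 1 + c * β * r ≠ 0 →
        Pair M θ ((1 + c * β * r) / (1 + β * r)) ((1 + c * β * s) / (1 + β * s))) := by
  have hc1 : (1 : F) ≠ c := pair_ne K hMi hM hne h2 h3q hθ0 hθ (map_one K.bar) hc h
  obtain ⟨k, hk, kc, k20, k22, k0, k2⟩ := pair_symm K hMi hM hne h2 h3q hθ0 hθ h
  have hθb : K.bar θ = -θ := by linear_combination hθ
  have hform := mem_iso K |>.1 (hMi hk) ![1, 0, 0] ![0, 0, 1]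
  simp [hj, Matrix.mulVec, dotProduct, Fin.sum_univ_three, kc.2.1] at hform
  rw [k0, k2, mul_one, map_mul, hθb] at hform
  obtain ⟨β, hβ⟩ : ∃ β, β = θ * (m[k] 2 0 / m[k] 2 2) := ⟨_, rfl⟩
  have hN : (c - 1) * (m[k] 2 2 * K.bar (m[k] 2 2)) * β = 1 := by
    rw [hβ]; field_simp; linear_combination hform
  have hNb : K.bar ((c - 1) * (m[k] 2 2 * K.bar (m[k] 2 2))) = (c - 1) * (m[k] 2 2 * K.bar (m[k] 2 2)) := by
    rw [map_mul, map_sub, map_one, hc, map_mul, K.bar_bar]; ring
  refine ⟨β, ?_, fun e => by simp [e] at hN, fun r s hr ⟨g, hg, gc, g20, g22, g0, g2⟩ => ?_⟩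
  · rw [eq_inv_of_mul_eq_one_right hN, map_inv₀, hNb]
  have hk20 : θ * m[k] 2 0 = β * m[k] 2 2 := by rw [hβ]; field_simp
  have a20 : m[k * g] 2 0 = m[k] 2 2 * m[g] 2 0 * (1 + β * r) := by
    simp [Matrix.mul_apply, Fin.sum_univ_three, gc.2.1, g0]
    linear_combination r * m[g] 2 0 * hk20
  have a00 : m[k * g] 0 0 = θ * (m[k] 2 2 * m[g] 2 0) * (1 + c * β * r) := by
    simp [Matrix.mul_apply, Fin.sum_univ_three, gc.2.1, g0, k0, k2]
    linear_combination c * θ * r * m[g] 2 0 * hk20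
  have a22 : m[k * g] 2 2 = m[k] 2 2 * m[g] 2 2 * (1 + β * s) := by
    simp [Matrix.mul_apply, Fin.sum_univ_three, gc.2.2.1, g2]
    linear_combination s * m[g] 2 2 * hk20
  have a02 : m[k * g] 0 2 = θ * (m[k] 2 2 * m[g] 2 2) * (1 + c * β * s) := by
    simp [Matrix.mul_apply, Fin.sum_univ_three, gc.2.2.1, g2, k0, k2]
    linear_combination c * θ * s * m[g] 2 2 * hk20
  refine ⟨fun e => ?_, fun e e' => ?_⟩
  · have hA : k * g ∈ ptStab := mem_ptStab.2 ⟨(kc.mul gc).2.1, by rw [a20, e, mul_zero]⟩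
    have := cm_stab K hMi hM hne h2 h3q (M.mul_mem hk hg) hA (kc.mul gc)
    rw [a02] at this
    exact (mul_eq_zero.1 this).resolve_left (mul_ne_zero hθ0 (mul_ne_zero k22 g22))
  · have n20 : m[k * g] 2 0 ≠ 0 := by rw [a20]; exact mul_ne_zero (mul_ne_zero k22 g20) e
    obtain ⟨n22, n02⟩ := line_nonzero K hMi hM hne h2 h3q (M.mul_mem hk hg) (kc.mul gc) n20
      (by rw [a00]; exact mul_ne_zero (mul_ne_zero hθ0 (mul_ne_zero k22 g20)) e')
    have es : 1 + β * s ≠ 0 := fun z => n22 (by rw [a22, z, mul_zero])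
    refine ⟨k * g, M.mul_mem hk hg, kc.mul gc, n20, n22, ?_, ?_⟩
    · rw [a00, a20]; field_simp
    · rw [a02, a22]; field_simp

omit hMi hM hne h2 h3q hθ0 hθ in
include K in
theorem real_square_cases {x y : F} (hx : K.bar x = x) (hy : K.bar y = y) (hx0 : x ≠ 0) (hy0 : y ≠ 0) :
    (∃ l, K.bar l = l ∧ l ≠ 0 ∧ x = l * l) ∨ (∃ l, K.bar l = l ∧ l ≠ 0 ∧ y = l * l) ∨
      (∃ l, K.bar l = l ∧ l ≠ 0 ∧ x * y = l * l) := by
  classical
  let _ := Fintype.ofFinite (fixedField K.bar)
  obtain ⟨a, ha⟩ : ∃ a : fixedField K.bar, (a : F) = x := ⟨⟨x, hx⟩, rfl⟩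
  obtain ⟨b, hb⟩ : ∃ b : fixedField K.bar, (b : F) = y := ⟨⟨y, hy⟩, rfl⟩
  have ha0 : a ≠ 0 := fun e => hx0 (by rw [← ha, e]; rfl)
  have hb0 : b ≠ 0 := fun e => hy0 (by rw [← hb, e]; rfl)
  have sq : ∀ {z : fixedField K.bar}, z ≠ 0 → IsSquare z → ∃ l, K.bar l = l ∧ l ≠ 0 ∧ (z : F) = l * l := by
    rintro z hz ⟨l, rfl⟩
    exact ⟨(l : F), l.2, fun e => hz (by rw [show l = 0 from Subtype.ext e, zero_mul]), rfl⟩
  by_cases h1 : IsSquare a
  · exact Or.inl (ha ▸ sq ha0 h1)
  by_cases h1' : IsSquare b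
  · exact Or.inr (Or.inl (hb ▸ sq hb0 h1'))
  refine Or.inr (Or.inr ?_)
  have h := sq (mul_ne_zero ha0 hb0) ((quadraticChar_one_iff_isSquare (mul_ne_zero ha0 hb0)).1 (by
    rw [map_mul, quadraticChar_neg_one_iff_not_isSquare.2 h1, quadraticChar_neg_one_iff_not_isSquare.2 h1']; rfl))
  simpa [ha, hb] using h

omit hMi hM hne h2 h3q hθ0 hθ in
include K in
theorem card_real_le {P : Polynomial F} (hP : P ≠ 0) {d : ℕ} (hd : P.natDegree ≤ d)
    (h : ∀ x : F, K.bar x = x → x ≠ 0 → P.eval x = 0) : q - 1 ≤ d := by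
  classical
  rw [← card_Rg K]
  let f : Rg K → {x : F // x ∈ P.roots.toFinset} := fun l => ⟨((l : Fˣ) : F), by
    rw [Multiset.mem_toFinset, Polynomial.mem_roots hP]; exact h _ l.2 (Units.ne_zero _)⟩
  refine (Nat.card_le_card_of_injective f fun a b e => Subtype.ext (Units.ext (congrArg Subtype.val e))).trans ?_
  rw [Nat.card_eq_fintype_card, Fintype.card_coe]
  exact ((Multiset.toFinset_card_le _).trans (Polynomial.card_roots' _)).trans hd

omit hθ0 hθ in
theorem q_le_eleven (hall : (Orb M).ncard = q ^ 3) : q ≤ 11 := by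
  classical
  obtain ⟨θ, hθ0, hθ⟩ := exists_skew_ne K
  obtain ⟨c, hc, hc0, hc1⟩ := exists_pair K hMi hM hne h2 h3q hθ0 hθ hall (map_one K.bar) one_ne_zero
  have hc1' : (1 : F) ≠ c := pair_ne K hMi hM hne h2 h3q hθ0 hθ (map_one K.bar) hc hc1
  obtain ⟨β, hβ, hβ0, hmove⟩ := exists_move K hMi hM hne h2 h3q hθ0 hθ hc hc1
  have hsq : ∀ l, K.bar l = l → l ≠ 0 → Pair M θ (l * l) (l * l * c) := fun l hl hl0 => by
    simpa using pair_scale K hMi hM hne h2 h3q hθ0 hθ hl hl0 hc1
  have hreal : ∀ r, K.bar r = r → K.bar ((1 + c * β * r) / (1 + β * r)) = (1 + c * β * r) / (1 + β * r) :=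
    fun r hr => by simp only [map_div₀, map_add, map_one, map_mul, hc, hβ, hr]
  by_cases hcm : c = -1
  · subst hcm
    have hall' : ∀ x, K.bar x = x → x ≠ 0 → Pair M θ x (-x) := by
      intro x hx hx0
      obtain ⟨s, hs, hs0, hp⟩ := exists_pair K hMi hM hne h2 h3q hθ0 hθ hall hx hx0
      have hp' := pair_symm K hMi hM hne h2 h3q hθ0 hθ hp
      rcases real_square_cases K hx hs hx0 hs0 with ⟨l, hl, hl0, e⟩ | ⟨l, hl, hl0, e⟩ | ⟨l, hl, hl0, e⟩
      · subst e; simpa using hsq l hl hl0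
      · subst e
        have : x = l * l * -1 := pair_unique K hMi hM hne h2 h3q hθ0 hθ hp' (hsq l hl hl0)
        rw [this]
        simpa using pair_symm K hMi hM hne h2 h3q hθ0 hθ (hsq l hl hl0)
      · have h1 := pair_scale K hMi hM hne h2 h3q hθ0 hθ (l := l / x) (by rw [map_div₀, hl, hx]) (div_ne_zero hl0 hx0) hp
        have e1 : l / x * (l / x) * x = s := by field_simp; linear_combination -e
        rw [e1] at h1
        have h3 := pair_unique K hMi hM hne h2 h3q hθ0 hθ hp' h1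
        have h4 : x * x = s * s := by
          have e2 : l / x * (l / x) * s = s * s / x := by field_simp; linear_combination -e
          rw [e2] at h3
          field_simp at h3
          linear_combination h3
        rcases mul_self_eq_mul_self_iff.1 h4 with h | h
        · exact absurd h (pair_ne K hMi hM hne h2 h3q hθ0 hθ hx hs hp)
        · rw [show -x = s by linear_combination -h]; exact hp
    have := card_real_le K (P := Polynomial.C (β ^ 4) * Polynomial.X ^ 4 - 1) (d := 4)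
      (fun e => by simpa using congrArg (Polynomial.eval 0) e) (by compute_degree) fun x hx hx0 => by
      simp only [Polynomial.eval_sub, Polynomial.eval_mul, Polynomial.eval_C, Polynomial.eval_pow,
        Polynomial.eval_X, Polynomial.eval_one]
      obtain ⟨hm1, hm2⟩ := hmove x (-x) hx0 (hall' x hx hx0)
      by_cases e1 : 1 + β * x = 0
      · linear_combination (β * x - 1) * (β ^ 2 * x ^ 2 + 1) * e1
      by_cases e2 : 1 + -1 * β * x = 0
      · linear_combination -(β * x + 1) * (β ^ 2 * x ^ 2 + 1) * e2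
      have hp := hm2 e1 e2
      have hy0 : (1 + -1 * β * x) / (1 + β * x) ≠ 0 := div_ne_zero e2 e1
      have h3 := pair_unique K hMi hM hne h2 h3q hθ0 hθ hp (hall' _ (hreal x hx) hy0)
      have e2' : 1 + β * -x ≠ 0 := by intro z; exact e2 (by linear_combination z)
      rw [← neg_div, div_eq_div_iff e2' e1] at h3
      have h5 : (2 : F) * (1 + β ^ 2 * x ^ 2) = 0 := by linear_combination h3
      linear_combination (β ^ 2 * x ^ 2 - 1) * ((mul_eq_zero.1 h5).resolve_left h2)
    omega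
  · have hcns : ∀ l, K.bar l = l → l ≠ 0 → c ≠ l * l := by
      intro l hl hl0 e
      have h1 := hsq l hl hl0
      rw [← e] at h1
      have h3 := pair_unique K hMi hM hne h2 h3q hθ0 hθ h1 (pair_symm K hMi hM hne h2 h3q hθ0 hθ hc1)
      rcases mul_self_eq_one_iff.1 h3 with h | h
      · exact hc1' h.symm
      · exact hcm h
    have := card_real_le K (d := 10)
      (P := (1 + Polynomial.C (c * β) * Polynomial.X ^ 2) *
        ((1 + Polynomial.C ((1 + c) * β) * Polynomial.X ^ 2 + Polynomial.C (c * c * β * β) * Polynomial.X ^ 4) *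
         (1 + Polynomial.C (c * (1 + c) * β) * Polynomial.X ^ 2 + Polynomial.C (c * c * β * β) * Polynomial.X ^ 4)))
      (fun e => by simpa using congrArg (Polynomial.eval 0) e) (by compute_degree) fun l hl hl0 => by
      simp only [Polynomial.eval_add, Polynomial.eval_mul, Polynomial.eval_C, Polynomial.eval_pow,
        Polynomial.eval_X, Polynomial.eval_one]
      have hp := hsq l hl hl0
      obtain ⟨hm1, hm2⟩ := hmove (l * l) (l * l * c) (mul_ne_zero hl0 hl0) hp
      by_cases e2 : 1 + c * β * (l * l) = 0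
      · linear_combination (1 + (1 + c) * β * l ^ 2 + c * c * β * β * l ^ 4) *
          (1 + c * (1 + c) * β * l ^ 2 + c * c * β * β * l ^ 4) * e2
      have e1 : 1 + β * (l * l) ≠ 0 := by
        intro z
        have h := hm1 z
        rcases mul_self_eq_one_iff.1 (show c * c = 1 by linear_combination (c * c) * z - h) with h' | h'
        · exact hc1' h'.symm
        · exact hcm h'
      have hp' := hm2 e1 e2
      have hy : K.bar (l * l) = l * l := by rw [map_mul, hl]
      have hx0 : (1 + c * β * (l * l)) / (1 + β * (l * l)) ≠ 0 := div_ne_zero e2 e1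
      have e3 : 1 + β * (l * l * c) ≠ 0 := fun z => e2 (by linear_combination z)
      have hc1m : c - 1 ≠ 0 := sub_ne_zero.2 hc1'.symm
      rcases real_square_cases K (hreal _ hy) hc hx0 hc0 with ⟨k, hk, hk0, e⟩ | ⟨k, hk, hk0, e⟩ | ⟨k, hk, hk0, e⟩
      · have h := hsq k hk hk0
        rw [← e] at h
        have h3 := pair_unique K hMi hM hne h2 h3q hθ0 hθ hp' h
        rw [div_mul_eq_mul_div, div_eq_div_iff e3 e1] at h3
        have h5 : (c - 1) * (1 + (1 + c) * β * l ^ 2 + c * c * β * β * l ^ 4) = 0 := by linear_combination -h3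
        rw [(mul_eq_zero.1 h5).resolve_left hc1m, zero_mul, mul_zero]
      · exact absurd e (hcns k hk hk0)
      · have h := pair_symm K hMi hM hne h2 h3q hθ0 hθ (hsq (k / c) (by rw [map_div₀, hk, hc]) (div_ne_zero hk0 hc0))
        rw [show k / c * (k / c) * c = (1 + c * β * (l * l)) / (1 + β * (l * l)) by
          rw [div_mul_div_comm, ← e]; field_simp] at h
        have h3 := pair_unique K hMi hM hne h2 h3q hθ0 hθ hp' h
        rw [show k / c * (k / c) = (1 + c * β * (l * l)) / (1 + β * (l * l)) / c by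
          rw [div_mul_div_comm, ← e]; field_simp] at h3
        rw [div_div, div_eq_div_iff e3 (mul_ne_zero e1 hc0)] at h3
        have h5 : (c - 1) * (1 + c * (1 + c) * β * l ^ 2 + c * c * β * β * l ^ 4) = 0 := by linear_combination h3
        rw [(mul_eq_zero.1 h5).resolve_left hc1m, mul_zero, mul_zero]
    omega

end CfsgLib.Classical.ThreeMax.SUThree
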