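import Cfsg.Agent.Lib.Classical.ThreeMax.SUSubfield
import Cfsg.Agent.Lib.ZStar.Main

/-!
The norms of first columns in an overgroup of a subfield group over the field with two elements, from
Glauberman's theorem applied to a long root involution.
-/

set_option autoImplicit false
set_option linter.unusedSectionVars false

namespace CfsgLib.Classical.ThreeMax.SUThree

open Matrix
open CfsgLib.ClassicalAut (Unitary.Conj)
open scoped MatrixGroups commutatorElement

variable {F : Type*} [Field F] [Finite F] {q : ℕ} (K : Unitary.Conj F q)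

local notation "S" => SpecialLinearGroup (Fin 3) F
local notation "m[" g "]" => (((g : SpecialLinearGroup (Fin 3) F) : Matrix (Fin 3) (Fin 3) F))

theorem eq_one_of_odd_sub {A : Type*} [Group A] [Finite A] {O : Subgroup A} (hO : Odd (Nat.card O)) {x : A}
    (hx : x ∈ O) (h4 : x ^ 4 = 1) : x = 1 := by
  have h1 := O.orderOf_dvd_natCard hx
  have hc : (Nat.card O).Coprime 4 := by
    rw [show (4 : ℕ) = 2 ^ 2 from rfl]
    exact Nat.Coprime.pow_right _ (Nat.coprime_two_right.2 hO)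
  exact orderOf_eq_one_iff.1 (Nat.eq_one_of_dvd_coprimes hc h1 (orderOf_dvd_of_pow_eq_one h4))

/-- If the centraliser of an involution in a normal odd subgroup is central of exponent three, cubes of inverted
elements commute with all inverted elements. -/
theorem cube_commute {A : Type*} [Group A] [Finite A] {z : A} (hz : z * z = 1) {O : Subgroup A} [O.Normal]
    (hC : ∀ y ∈ O, Commute z y → (∀ x : A, Commute y x) ∧ y ^ 3 = 1) {x y : A} (hx : x ∈ O) (hy : y ∈ O)
    (hxi : z * x * z = x⁻¹) (hyi : z * y * z = y⁻¹) : Commute (x ^ 3) y := by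
  classical
  have hzi : z⁻¹ = z := inv_eq_of_mul_eq_one_right hz
  have conjO : ∀ y ∈ O, z * y * z ∈ O := fun y hy => by
    have := Subgroup.Normal.conj_mem inferInstance y hy z
    rwa [hzi] at this
  let C := {c : O // Commute z (c : A)}
  let I := {i : O // z * (i : A) * z = (i : A)⁻¹}
  have key : ∀ a : O, ∃ c : C, ∃ i : I, (a : A) = (c.1 : A) * (i.1 : A) := by
    let T : O → I := fun a => ⟨⟨(a : A)⁻¹ * (z * a * z), O.mul_mem (O.inv_mem a.2) (conjO _ a.2)⟩, by
      show z * ((a : A)⁻¹ * (z * a * z)) * z = ((a : A)⁻¹ * (z * a * z))⁻¹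
      rw [_root_.mul_inv_rev, _root_.mul_inv_rev, _root_.mul_inv_rev, hzi, inv_inv]
      simp only [mul_assoc, hz, mul_one]⟩
    let s : I → O := fun i => if h : ∃ a, T a = i then h.choose else 1
    have hs : ∀ a, T (s (T a)) = T a := fun a => by
      have h : ∃ b, T b = T a := ⟨a, rfl⟩
      simp only [s, dif_pos h]
      exact h.choose_spec
    have hdiff : ∀ a b : O, T a = T b → Commute z ((a * b⁻¹ : O) : A) := fun a b e => by
      have e' : (a : A)⁻¹ * (z * a * z) = (b : A)⁻¹ * (z * b * z) := congrArg (fun i : I => (i.1 : A)) e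
      show z * ((a : A) * (b : A)⁻¹) = (a : A) * (b : A)⁻¹ * z
      have e1 : z * (a : A) * z = (a : A) * (b : A)⁻¹ * z * b * z := by
        calc z * (a : A) * z = (a : A) * ((a : A)⁻¹ * (z * a * z)) := by group
          _ = _ := by rw [e']; group
      have e2 := congrArg (fun w => w * z * (b : A)⁻¹) e1
      simp only [mul_assoc, hz, mul_one, mul_inv_cancel] at e2 ⊢
      exact e2
    let e₁ : O → C × I := fun a => (⟨a * (s (T a))⁻¹, hdiff _ _ (hs a).symm⟩, T a)
    have he₁ : Function.Injective e₁ := fun a b e => by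
      obtain ⟨h1, h2⟩ := Prod.mk.inj e
      have h1' := congrArg (fun c : C => c.1) h1
      simp only [h2] at h1'
      exact mul_right_cancel h1'
    let e₂ : C × I → O := fun p => p.1.1 * p.2.1
    have he₂ : Function.Injective e₂ := fun ⟨c, i⟩ ⟨c', i'⟩ e => by
      have e' : (c.1 : A) * i.1 = (c'.1 : A) * i'.1 := congrArg Subtype.val e
      set d : O := c'.1⁻¹ * c.1 with hd
      have hdz : Commute z (d : A) := by
        show Commute z ((c'.1 : A)⁻¹ * (c.1 : A))
        exact (c'.2.inv_right).mul_right c.2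
      obtain ⟨hdc, hd3⟩ := hC _ d.2 hdz
      have hi' : (i'.1 : A) = (d : A) * i.1 := by
        show _ = (c'.1 : A)⁻¹ * (c.1 : A) * i.1
        rw [mul_assoc, e']; group
      have h' := i'.2
      have hp : z * ((d : A) * i.1) * z = (d : A) * (z * i.1 * z) := by
        rw [← mul_assoc z, hdz.eq]; simp only [mul_assoc]
      rw [hi', hp, i.2, _root_.mul_inv_rev, (hdc _).eq, mul_right_inj] at h'
      have hd2 : (d : A) ^ 2 = 1 := by rw [pow_two]; nth_rw 1 [h']; exact inv_mul_cancel _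
      have hd1 : (d : A) = 1 := by
        have : (d : A) ^ 3 = (d : A) ^ 2 * d := pow_succ _ 2
        rw [hd3, hd2, one_mul] at this
        exact this.symm
      have hd1' : d = 1 := Subtype.ext hd1
      rw [hd, inv_mul_eq_one] at hd1'
      rw [hd1, one_mul] at hi'
      exact Prod.ext (Subtype.ext hd1'.symm) (Subtype.ext (Subtype.ext hi'.symm))
    have hcard : Nat.card (C × I) = Nat.card O :=
      le_antisymm (Nat.card_le_card_of_injective e₂ he₂) (Nat.card_le_card_of_injective e₁ he₁)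
    intro a
    obtain ⟨⟨c, i⟩, h⟩ := ((Nat.bijective_iff_injective_and_card e₂).2 ⟨he₂, hcard⟩).2 a
    exact ⟨c, i, congrArg Subtype.val h.symm⟩
  obtain ⟨c, i, hci⟩ := key ⟨x * y, O.mul_mem hx hy⟩
  change x * y = (c.1 : A) * (i.1 : A) at hci
  obtain ⟨hcc, hc3⟩ := hC _ c.1.2 c.2
  have hyx : y * x = ((c.1 : A) ^ 2)⁻¹ * (x * y) := by
    have h1 : z * (x * y) * z = x⁻¹ * y⁻¹ := by
      rw [← hxi, ← hyi]
      simp only [mul_assoc]
      rw [← mul_assoc z z, hz, one_mul]
    rw [hci, ← mul_assoc z, c.2.eq, mul_assoc (c.1 : A), mul_assoc (c.1 : A), i.2] at h1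
    have h2 := congrArg (·⁻¹) h1
    simp only [_root_.mul_inv_rev, inv_inv] at h2
    rw [← h2, hci, pow_two, _root_.mul_inv_rev, ((hcc (i.1 : A)).inv_left).eq.symm]
    group
  obtain ⟨l, hl⟩ : ∃ l, l = (c.1 : A) ^ 2 := ⟨_, rfl⟩
  have hlc : ∀ w, Commute l w := fun w => hl ▸ (hcc w).pow_left 2
  have hl3 : l ^ 3 = 1 := by rw [hl, ← pow_mul, mul_comm, pow_mul, hc3, one_pow]
  rw [← hl] at hyx
  have step : x * y = l * (y * x) := by rw [hyx, mul_inv_cancel_left]
  show x ^ 3 * y = y * x ^ 3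
  calc x ^ 3 * y = x * (x * (x * y)) := by rw [pow_succ, pow_succ, pow_one]; simp only [mul_assoc]
    _ = x * (x * (l * (y * x))) := by rw [step]
    _ = l * (x * ((x * y) * x)) := by
      rw [← mul_assoc x l, ← (hlc x).eq, mul_assoc l, ← mul_assoc x l, ← (hlc x).eq]; simp only [mul_assoc]
    _ = l * (x * (l * (y * x) * x)) := by rw [step]
    _ = l * l * ((x * y) * (x * x)) := by
      rw [← mul_assoc x, ← mul_assoc x l, ← (hlc x).eq]; simp only [mul_assoc]
    _ = l * l * (l * (y * x) * (x * x)) := by rw [step]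
    _ = l ^ 3 * (y * x ^ 3) := by rw [pow_succ, pow_succ, pow_one, pow_succ, pow_succ, pow_one]; simp only [mul_assoc]
    _ = y * x ^ 3 := by rw [hl3, one_mul]

variable {F₀ : Subfield F} {q₀ : ℕ} (K₀ : Unitary.Conj F₀ q₀) (hbar : ∀ c : F₀, (K₀.bar c : F) = K.bar c)
  {r : ℕ} (hr : r.Prime) (hodd : Odd r) (hcard : Nat.card F = Nat.card F₀ ^ r) (hq : q = q₀ ^ r)
  {M : Subgroup (SpecialLinearGroup (Fin 3) F)} (hMi : M ≤ iso K)
  (hM : ∀ s ∈ iso K, Rt F₀ s → s ∈ M) (hne : M ≠ iso K)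

include hbar hr hodd hcard hq hMi hM hne

set_option maxHeartbeats 1000000 in
theorem norm_mem_two (hq₀ : q₀ = 2) {g₀ : S} (hg₀ : g₀ ∈ M) : m[g₀] 2 0 * K.bar (m[g₀] 2 0) ∈ F₀ := by
  classical
  have h2 : (2 : F) = 0 := two_eq_zero K K₀ hbar hr hcard hq (Or.inl hq₀)
  have hneg : ∀ y : F, -y = y := fun y => by linear_combination -y * h2
  have hfix : ∀ y ∈ F₀, K.bar y = y → y = 0 ∨ y = 1 := fun y hy hb => by
    have h1 := (hbar ⟨y, hy⟩).trans hb
    rw [K₀.bar_apply, hq₀, SubmonoidClass.coe_pow] at h1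
    have : y * (y - 1) = 0 := by linear_combination h1
    rcases mul_eq_zero.1 this with h | h
    · exact Or.inl h
    · exact Or.inr (sub_eq_zero.1 h)
  have hzM : u 0 0 (1 : F) ∈ M :=
    z_rat_mem K K₀ hbar hr hodd hcard hq hMi hM hne F₀.one_mem (by rw [map_one]; linear_combination h2)
  obtain ⟨z, hzd⟩ : ∃ z : M, z = ⟨u 0 0 (1 : F), hzM⟩ := ⟨_, rfl⟩
  have hzc : (z : S) = u 0 0 1 := by rw [hzd]
  have hz2 : z * z = 1 := Subtype.ext (by
    rw [Subgroup.coe_mul, hzc, u_mul, Subgroup.coe_one, ← u_zero]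
    congr 1 <;> first | ring1 | linear_combination h2)
  -- commuting with the involution
  have hstab : ∀ g : M, Commute z (g * z * g⁻¹) → (g : S) ∈ ptStab := fun g hc => by
    by_contra hA
    obtain ⟨h20, a, c, hpar, e0, e1⟩ := exists_u_col K (hMi g.2) hA
    set v := (u a (-K.bar a) c : S) with hv
    have e := conj_lo K (h := v⁻¹ * g) ((iso K).mul_mem ((iso K).inv_mem (u_mem K hpar)) (hMi g.2)) e0 e1 1
    rw [show m[v⁻¹ * (g : S)] 2 0 = m[(g : S)] 2 0 by rw [hv, u_inv]; simp [Matrix.mul_apply, Fin.sum_univ_three],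
      one_mul] at e
    have hvz : v⁻¹ * u 0 0 1 * v = u 0 0 1 := by rw [hv, u_inv, u_mul, u_mul]; congr 1 <;> ring
    have hc' : Commute (u 0 0 1 : S) (lo (m[(g : S)] 2 0 * K.bar (m[(g : S)] 2 0))) := by
      have h1 : Commute (u 0 0 1 : S) ((g : S) * u 0 0 1 * (g : S)⁻¹) := by
        have := congrArg (fun y : M => (y : S)) hc.eq
        simp only [Subgroup.coe_mul, Subgroup.coe_inv, hzc] at this
        exact this
      have hcv : Commute (u 0 0 1 : S) v := by
        show u 0 0 1 * v = v * u 0 0 1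
        rw [hv, u_mul, u_mul]; congr 1 <;> ring
      rw [← e, show v⁻¹ * (g : S) * u 0 0 1 * (v⁻¹ * (g : S))⁻¹ = v⁻¹ * ((g : S) * u 0 0 1 * (g : S)⁻¹) * v by group]
      exact (hcv.inv_right.mul_right h1).mul_right hcv
    have h00 := congrArg (fun y : S => (y : Matrix (Fin 3) (Fin 3) F) 0 0) hc'.eq
    simp [Matrix.mul_apply, Fin.sum_univ_three, h20] at h00
  have hzz : ∀ g : M, (g : S) ∈ ptStab → g * z * g⁻¹ = z := fun g hA => by
    refine Subtype.ext ?_
    have hrt : ((g * z * g⁻¹ : M) : S) = u 0 0 (m[(g : S)] 0 0 * K.bar (m[(g : S)] 0 0)) := by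
      rw [Subgroup.coe_mul, Subgroup.coe_mul, Subgroup.coe_inv, hzc, conj_z_iso K (hMi g.2) hA, one_mul]
    have hF : m[(g : S)] 0 0 * K.bar (m[(g : S)] 0 0) ∈ F₀ :=
      z_mem_rat K K₀ hbar hr hodd hcard hq hMi hM hne (hrt ▸ (g * z * g⁻¹).2)
    rcases hfix _ hF (by rw [map_mul, K.bar_bar, mul_comm]) with h | h
    · exfalso
      exact mul_ne_zero (tri_of_stab K (hMi g.2) hA).ne_zero.1
        (bar_ne_zero K (tri_of_stab K (hMi g.2) hA).ne_zero.1) h
    · rw [hrt, h, hzc]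
  have hiso : Cfsg.IsIsolatedInvolution z := by
    refine ⟨orderOf_eq_prime (by rw [pow_two]; exact hz2) fun e => ?_, fun g hc => hzz g (hstab g hc)⟩
    have := congrArg (fun y : M => (y : S)) e
    rw [hzc, Subgroup.coe_one, ← u_zero] at this
    exact one_ne_zero (u_ext this).2.2
  set O : Subgroup M := Cfsg.pPrimeCore 2 M with hOd
  haveI : O.Normal := Transfer.pPrimeCore_normal 2 M
  have hOodd : Odd (Nat.card O) := ZStar.odd_card_core
  obtain ⟨c₁, hc₁, h₁⟩ := exists_par_rat K K₀ hbar F₀.one_mem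
  -- the centraliser in the core
  have hC : ∀ y ∈ O, Commute z y → (∀ x : M, Commute y x) ∧ y ^ 3 = 1 := by
    intro y hy hc
    have hA : (y : S) ∈ ptStab := hstab y (by
      have : y * z * y⁻¹ = z := by rw [← hc.eq, mul_inv_cancel_right]
      rw [this])
    have hT := tri_of_stab K (hMi y.2) hA
    have fix : ∀ σ ∈ F₀, ∀ d ∈ F₀, d + K.bar d + σ * K.bar σ = 0 →
        (y : S) * u σ (-K.bar σ) d * (y : S)⁻¹ = u σ (-K.bar σ) d := by
      intro σ hσ d hd hpar
      have hm := u_rat_mem K K₀ hbar hr hodd hcard hq hMi hM hne hσ hd hpar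
      obtain ⟨v, hv⟩ : ∃ v : M, v = ⟨_, hm⟩ := ⟨_, rfl⟩
      have hvO : y * v * y⁻¹ * v⁻¹ ∈ O := by
        have := O.mul_mem hy (Subgroup.Normal.conj_mem inferInstance _ (O.inv_mem hy) v)
        simpa [mul_assoc] using this
      obtain ⟨d', hd'⟩ := hT.conj_u σ (-K.bar σ) d
      have e4 : (y * v * y⁻¹ * v⁻¹) ^ 4 = 1 := Subtype.ext (by
        rw [SubmonoidClass.coe_pow, Subgroup.coe_one]
        simp only [Subgroup.coe_mul, Subgroup.coe_inv, hv]
        rw [hd', u_inv, u_mul, pow_succ, pow_succ, pow_succ, pow_one, u_mul, u_mul, u_mul, ← u_zero]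
        congr 1
        · linear_combination 2 * (m[(y : S)] 0 0 / m[(y : S)] 1 1 * σ + -σ) * h2
        · linear_combination 2 * (m[(y : S)] 1 1 / m[(y : S)] 2 2 * -K.bar σ + - -K.bar σ) * h2
        · linear_combination (2 * (d' + (σ * -K.bar σ - d) + m[(y : S)] 0 0 / m[(y : S)] 1 1 * σ * - -K.bar σ) +
            3 * ((m[(y : S)] 0 0 / m[(y : S)] 1 1 * σ + -σ) *
              (m[(y : S)] 1 1 / m[(y : S)] 2 2 * -K.bar σ + - -K.bar σ))) * h2)
      have h1 := congrArg (fun w : M => (w : S)) (mul_inv_eq_one.1 (eq_one_of_odd_sub hOodd hvO e4))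
      simpa [hv] using h1
    have f1 := fix 1 F₀.one_mem c₁ hc₁ h₁
    obtain ⟨d', hd'⟩ := hT.conj_u 1 (-K.bar 1) c₁
    rw [hd'] at f1
    have hl := (u_ext f1).1
    obtain ⟨a, c, hac, edec⟩ := decomp K (hMi y.2) hT
    rw [diag_tor K (hMi y.2) hA] at hl
    set l := m[(y : S)] 0 0
    have l0 : l ≠ 0 := hT.ne_zero.1
    have hlb : K.bar l = l * l := by
      have lb := bar_ne_zero K l0
      field_simp at hl
      linear_combination -hl
    have hl3 : l ^ 3 = 1 := by
      have h4 := congrArg K.bar hlb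
      rw [K.bar_bar, map_mul, hlb] at h4
      exact (mul_left_cancel₀ l0 (by linear_combination h4 : l * 1 = l * l ^ 3)).symm
    have htor : m[tor K l] = l • (1 : Matrix (Fin 3) (Fin 3) F) := by
      rw [tor_coe K l0, hlb]
      ext i j
      fin_cases i <;> fin_cases j <;> simp <;> field_simp <;> linear_combination -hl3
    have hcent : ∀ x : S, Commute (tor K l : S) x := fun x => by
      show _ = _
      refine Subtype.ext ?_
      show m[tor K l] * m[x] = m[x] * m[tor K l]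
      rw [htor, smul_mul_assoc, one_mul, mul_smul_comm, mul_one]
    -- the root part commutes with the rational root elements
    have hroot : ∀ σ ∈ F₀, a * K.bar σ = σ * K.bar a := by
      intro σ hσ
      obtain ⟨d, hd, hpar⟩ := exists_par_rat K K₀ hbar hσ
      have h := fix σ hσ d hd hpar
      rw [edec] at h
      have h' : u a (-K.bar a) c * u σ (-K.bar σ) d * (u a (-K.bar a) c)⁻¹ = u σ (-K.bar σ) d := by
        calc u a (-K.bar a) c * u σ (-K.bar σ) d * (u a (-K.bar a) c)⁻¹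
            = (tor K l)⁻¹ * (tor K l * u a (-K.bar a) c * u σ (-K.bar σ) d * (tor K l * u a (-K.bar a) c)⁻¹) * tor K l := by group
          _ = (tor K l)⁻¹ * u σ (-K.bar σ) d * tor K l := by rw [h]
          _ = u σ (-K.bar σ) d := by rw [mul_assoc, ← (hcent _).eq, inv_mul_cancel_left]
      have h3 : ⁅(u a (-K.bar a) c : S), u σ (-K.bar σ) d⁆ = 1 := by
        rw [commutatorElement_def, h', mul_inv_cancel]
      rw [u_comm, ← u_zero] at h3
      linear_combination -(u_ext h3).2.2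
    have ha : a = 0 := by
      obtain ⟨σ, hσ, hσb⟩ := exists_moved_rat K K₀ hbar
      have r1 := hroot 1 F₀.one_mem
      rw [map_one, mul_one, one_mul] at r1
      have r2 := hroot σ hσ
      rw [← r1] at r2
      exact (mul_eq_zero.1 (show a * (K.bar σ - σ) = 0 by linear_combination r2)).resolve_right
        (sub_ne_zero.2 hσb)
    rw [ha, map_zero, neg_zero] at edec
    have h3 : (y : S) ^ 3 = u 0 0 c := by
      rw [edec, (hcent _).mul_pow]
      have : (tor K l : S) ^ 3 = 1 := by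
        refine Subtype.ext ?_
        show m[tor K l] ^ 3 = 1
        rw [htor, smul_pow, one_pow, hl3, one_smul]
      rw [this, one_mul, pow_succ, pow_succ, pow_one, u_mul, u_mul]
      congr 1 <;> first | ring1 | linear_combination c * h2 | linear_combination -c * h2
    have hy3 : y ^ 3 = 1 := eq_one_of_odd_sub hOodd (O.pow_mem hy 3) (Subtype.ext (by
      rw [← pow_mul, SubmonoidClass.coe_pow, pow_mul, h3, Subgroup.coe_one, pow_succ, pow_succ, pow_succ, pow_one,
        u_mul, u_mul, u_mul, ← u_zero]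
      congr 1 <;> first | ring1 | linear_combination 2 * c * h2 | linear_combination -2 * c * h2))
    have hc0 : c = 0 := by
      have := congrArg (fun w : M => (w : S)) hy3
      rw [SubmonoidClass.coe_pow, h3, Subgroup.coe_one, ← u_zero] at this
      exact (u_ext this).2.2
    rw [hc0, u_zero, mul_one] at edec
    exact ⟨fun x => Subtype.ext (by
      show (y : S) * x = x * y
      rw [edec]; exact hcent _), hy3⟩
  -- the inverted element
  by_cases hA₀ : g₀ ∈ ptStab
  · rw [(mem_ptStab.1 hA₀).2, zero_mul]; exact F₀.zero_mem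
  obtain ⟨h20, a, c, hpar, e0, e1⟩ := exists_u_col K (hMi hg₀) hA₀
  obtain ⟨δ, hδd⟩ : ∃ δ, δ = m[g₀] 2 0 * K.bar (m[g₀] 2 0) := ⟨_, rfl⟩
  rw [← hδd]
  by_contra hδ
  have hδ0 : δ ≠ 0 := fun e => hδ (e ▸ F₀.zero_mem)
  have hδ1 : δ + 1 ≠ 0 := fun e => hδ (by
    rw [show δ = -1 by linear_combination e]; exact F₀.neg_mem F₀.one_mem)
  set g : M := ⟨g₀, hg₀⟩ with hgd
  obtain ⟨x, hxd⟩ : ∃ x : M, x = g * z * g⁻¹ * z := ⟨_, rfl⟩
  have hzi : z⁻¹ = z := inv_eq_of_mul_eq_one_right hz2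
  have hxO : x ∈ O := by
    have := O.inv_mem (ZStar.commutatorsInCore_of_isolated hiso g)
    simpa [hxd, mul_assoc, hzi] using this
  have hxi : z * x * z = x⁻¹ := by
    rw [hxd]
    simp only [_root_.mul_inv_rev, hzi, inv_inv, mul_assoc]
    rw [hz2, mul_one]
  obtain ⟨v, hv⟩ : ∃ v : M, v = ⟨_, u_rat_mem K K₀ hbar hr hodd hcard hq hMi hM hne F₀.one_mem hc₁ h₁⟩ := ⟨_, rfl⟩
  have hvz : z * v = v * z := Subtype.ext (by
    simp only [Subgroup.coe_mul, hv, hzc, u_mul]; congr 1 <;> ring)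
  have hvz' : z * v⁻¹ = v⁻¹ * z := (Commute.inv_right (hvz : Commute z v)).eq
  have hx'O : v * x * v⁻¹ ∈ O := Subgroup.Normal.conj_mem inferInstance x hxO v
  have hx'i : z * (v * x * v⁻¹) * z = (v * x * v⁻¹)⁻¹ := by
    rw [_root_.mul_inv_rev, _root_.mul_inv_rev, inv_inv, ← hxi]
    simp only [mul_assoc]
    rw [← hvz', ← mul_assoc z v, hvz]
    simp only [mul_assoc]
  have hcomm : Commute (x ^ 3) (v * x ^ 3 * v⁻¹) := by
    rw [← conj_pow]
    exact (cube_commute hz2 hC hxO hx'O hxi hx'i).pow_right 3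
  -- the coordinates
  set t := (u a (-K.bar a) c : S) with ht
  have hx0 : t⁻¹ * (x : S) * t = lo δ * u 0 0 1 := by
    have e := conj_lo K (h := t⁻¹ * g₀) ((iso K).mul_mem ((iso K).inv_mem (u_mem K hpar)) (hMi hg₀)) e0 e1 1
    rw [show m[t⁻¹ * g₀] 2 0 = m[g₀] 2 0 by rw [ht, u_inv]; simp [Matrix.mul_apply, Fin.sum_univ_three],
      ← hδd, one_mul] at e
    have htz : t⁻¹ * u 0 0 1 * t = u 0 0 1 := by rw [ht, u_inv, u_mul, u_mul]; congr 1 <;> ring
    rw [← e]
    conv_rhs => arg 2; rw [← htz]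
    rw [hxd]
    simp only [Subgroup.coe_mul, Subgroup.coe_inv, hgd, hzc]
    group
  obtain ⟨c', hB⟩ : ∃ c', t⁻¹ * u 1 (-K.bar 1) c₁ * t = (u 1 (-K.bar 1) c' : S) := by
    refine ⟨a * K.bar 1 - K.bar a + c₁, ?_⟩
    rw [ht, u_inv, u_mul, u_mul]
    congr 1 <;> ring
  obtain ⟨P, hP⟩ : ∃ P : S, P = (lo δ * u 0 0 1) ^ 3 := ⟨_, rfl⟩
  obtain ⟨B, hBd⟩ : ∃ B : S, B = u 1 (-K.bar 1) c' := ⟨_, rfl⟩
  have hcc : P * (B * P * B⁻¹) = B * P * B⁻¹ * P := by
    have eP : P = t⁻¹ * (x : S) ^ 3 * t := by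
      have h3 := conj_pow (i := 3) (a := t⁻¹) (b := (x : S))
      rw [inv_inv] at h3
      rw [hP, ← hx0, h3]
    have h1 := congrArg (fun y : M => t⁻¹ * (y : S) * t) hcomm.eq
    simp only [Subgroup.coe_mul, Subgroup.coe_inv, SubmonoidClass.coe_pow, hv] at h1
    rw [eP, hBd, ← hB]
    simp only [mul_assoc, _root_.mul_inv_rev, inv_inv, mul_inv_cancel_left] at h1 ⊢
    exact h1
  have e1v : m[P] *ᵥ ![(0 : F), 1, 0] = ![0, 1, 0] := by
    rw [hP]
    ext i
    fin_cases i <;> simp [pow_succ, Matrix.mul_apply, Fin.sum_univ_three, Matrix.mulVec, dotProduct]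
  obtain ⟨y, hyd⟩ : ∃ y, y = m[B⁻¹ * P * B] *ᵥ ![(0 : F), 1, 0] := ⟨_, rfl⟩
  have hPy : m[P] *ᵥ y = y := by
    have h := congrArg (fun w => B⁻¹ * w * B) hcc
    simp only [mul_assoc, inv_mul_cancel, inv_mul_cancel_left, mul_one] at h
    have h' := congrArg (fun w : S => (w : Matrix (Fin 3) (Fin 3) F) *ᵥ ![(0 : F), 1, 0]) h
    rw [hyd, ← mv_mul]
    simp only [mv_mul, e1v] at h' ⊢
    exact h'.symm
  have hy2 : y 2 = δ * (δ + 1) * (δ + 1) := by
    rw [hyd, hBd, hP, u_inv]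
    simp [pow_succ, Matrix.mul_apply, Fin.sum_univ_three, Matrix.mulVec, dotProduct]
    linear_combination (δ * δ + δ) * h2
  have g0 := congrFun hPy 0
  have g2 := congrFun hPy 2
  rw [hP] at g0 g2
  simp [pow_succ, Matrix.mul_apply, Fin.sum_univ_three, Matrix.mulVec, dotProduct] at g0 g2
  have hz0 : (δ * (δ + 1) * (δ + 1)) * y 2 = 0 := by
    linear_combination (δ ^ 2 + δ) * g2 - (δ ^ 3 + δ) * g0 +
      (y 0 * (-δ ^ 4 - 3 * δ ^ 3) + y 2 * (-δ ^ 4 - 3 * δ ^ 3 + 2 * δ)) * h2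
  rw [hy2] at hz0
  have hpos : δ * (δ + 1) * (δ + 1) ≠ 0 := mul_ne_zero (mul_ne_zero hδ0 hδ1) hδ1
  exact mul_ne_zero hpos hpos hz0

end CfsgLib.Classical.ThreeMax.SUThree
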