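import Cfsg.Agent.Lib.Classical.ThreeMax.SUSubfieldKey
import Cfsg.Agent.Lib.Classical.ThreeMax.SUSubfieldTwo

/-!
Subfield groups of odd prime degree are maximal in `SU₃(q)`.
-/

set_option autoImplicit false
set_option linter.unusedSectionVars false

namespace CfsgLib.Classical.ThreeMax.SUThree

open Matrix Cfsg
open CfsgLib.ClassicalAut (Unitary.Conj)
open CfsgLib.AutPSL (fixedField)
open scoped MatrixGroups

variable {F : Type*} [Field F] [Finite F] {q : ℕ} (K : Unitary.Conj F q)

local notation "S" => SpecialLinearGroup (Fin 3) F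
local notation "m[" g "]" => (((g : SpecialLinearGroup (Fin 3) F) : Matrix (Fin 3) (Fin 3) F))

omit [Finite F] in
theorem tr_mem_subfield [Finite F] {F₀ : Subfield F} (Q : GL (Fin 3) F) (s : S) :
    tr Q s ∈ Cfsg.Geo.subfieldSubgroup F₀ Q ↔ Rt F₀ s := by
  rw [PrimeDim.mem_subfieldSubgroup]
  have e : Q⁻¹ * tr Q s * Q = SpecialLinearGroup.toGL s := by simp [tr, mul_assoc]
  rw [e]
  rfl

include K

theorem isMaximalIn_subfield_odd {F₀ : Subfield F} {r : ℕ} {P : GL (Fin 3) F} (hr : r.Prime) (hodd : Odd r)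
    (hcard : Nat.card F = Nat.card F₀ ^ r)
    (hrat : Cfsg.Geo.IsFormRationalStructure (hermForm 3 F q) F₀ 1 P) :
    Cfsg.Geo.IsMaximalIn (GU 3 F q ⊓ Cfsg.Geo.specialLinear (Fin 3) F)
      (Cfsg.Geo.subfieldSubgroup F₀ P ⊓ (GU 3 F q ⊓ Cfsg.Geo.specialLinear (Fin 3) F)) := by
  obtain ⟨q₀, K₀, Q, hbar, hq, hQ, hsub⟩ := exists_rat_frame K hr.ne_zero hodd hcard hrat
  rw [← hsub]
  refine isMaximalIn_of_iso K hQ {s | Rt F₀ s} (fun s _ => tr_mem_subfield Q s) ?_ fun M hMi hM => ?_
  · -- a long root element with an irrational parameter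
    obtain ⟨θ, hθF, hθ0, hθ⟩ := exists_skew_rat K K₀ hbar
    obtain ⟨t, ht⟩ : ∃ t : fixedField K.bar, (t : F) ∉ F₀ := by
      by_contra hall
      push Not at hall
      have h1 : Nat.card (fixedField K.bar) ≤ Nat.card (F₀.comap (fixedField K.bar).subtype) :=
        Nat.card_le_card_of_injective
          (fun t => (⟨t, hall t⟩ : F₀.comap (fixedField K.bar).subtype))
          fun x y e => congrArg Subtype.val e
      rw [card_fix K, card_rat_fix K K₀ hbar] at h1
      rw [hq] at h1
      have := Nat.pow_lt_pow_right K₀.two_le hr.one_lt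
      rw [pow_one] at this
      omega
    refine ⟨u 0 0 (θ * t), z_mem K ?_, ?_⟩
    · rw [map_mul, show K.bar (t : F) = t from t.2]
      linear_combination (t : F) * hθ
    rintro ⟨c, hc, h⟩
    have h00 := h 0 0
    have h02 := h 0 2
    simp at h00 h02
    have := F₀.div_mem (F₀.mul_mem h02 h00) hθF
    rw [div_mul_cancel₀ _ hc, mul_div_cancel_left₀ _ hθ0] at this
    exact ht this
  by_cases hne : M = iso K
  · exact Or.inl hne
  refine Or.inr fun g hg => rt_of_norms K K₀ hbar hr hodd hcard hq hMi hM hne (fun x hx => ?_) hg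
  rcases Nat.lt_or_ge q₀ 3 with h | h
  · exact norm_mem_two K K₀ hbar hr hodd hcard hq hMi hM hne (by have := K₀.two_le; omega) hx
  · exact norm_mem K K₀ hbar hr hodd hcard hq hMi hM hne h hx

end CfsgLib.Classical.ThreeMax.SUThree
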