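import Cfsg.Agent.Lib.Classical.ThreeMax.SURealSmall
import Cfsg.Agent.Lib.Classical.ThreeMax.SUSubfieldMax

/-!
The real subfield groups are maximal in `SU₃(q)`, `q` odd and at least seven.
-/

set_option autoImplicit false
set_option linter.unusedSectionVars false

namespace CfsgLib.Classical.ThreeMax.SUThree

open Matrix Cfsg CfsgLib.Classical.Herm
open CfsgLib.ClassicalAut (Unitary.Conj)
open CfsgLib.Classical.ThreeMax.HermSL (hj)
open CfsgLib.AutPSL (fixedField)
open CfsgLib.Orth (Nondeg)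
open scoped MatrixGroups

variable {F : Type*} [Field F] [Finite F] {q : ℕ} (K : Unitary.Conj F q)

local notation "S" => SpecialLinearGroup (Fin 3) F
local notation "H" => hermForm 3 F q

include K

theorem eq_fixedField {F₀ : Subfield F} (hcard : Nat.card F = Nat.card F₀ ^ 2) : F₀ = fixedField K.bar := by
  cases nonempty_fintype F
  have hcard' : Fintype.card F = Nat.card F₀ ^ 2 := by rw [← Nat.card_eq_fintype_card, hcard]
  have hle : (F₀ : Set F) ⊆ (fixedField K.bar : Set F) := fun c hc => Asch.bar_eq_self_of_mem K hcard' hc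
  refine SetLike.coe_injective (Set.eq_of_subset_of_ncard_le hle ?_ (Set.toFinite _))
  rw [← Nat.card_coe_set_eq, ← Nat.card_coe_set_eq]
  show Nat.card (fixedField K.bar) ≤ Nat.card F₀
  rw [card_fix K, Asch.card_fixed_of_two K hcard']

/-- Hyperbolic coordinates inside a real structure. -/
theorem exists_real_frame (h2 : (2 : F) ≠ 0) {P : GL (Fin 3) F}
    (hrat : Cfsg.Geo.IsFormRationalStructure H (fixedField K.bar) 1 P) :
    ∃ Q : GL (Fin 3) F,
      (∀ x y, H ((Q : Matrix (Fin 3) (Fin 3) F) *ᵥ x) ((Q : Matrix (Fin 3) (Fin 3) F) *ᵥ y) = hj K x y) ∧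
      Cfsg.Geo.subfieldSubgroup (fixedField K.bar) Q = Cfsg.Geo.subfieldSubgroup (fixedField K.bar) P := by
  classical
  have hmem : ∀ u v : Fin 3 → fixedField K.bar, H ((P : Matrix (Fin 3) (Fin 3) F) *ᵥ fun i => (u i : F))
      ((P : Matrix (Fin 3) (Fin 3) F) *ᵥ fun i => (v i : F)) ∈ fixedField K.bar := fun u v => by
    have := hrat _ _ (fun i => (u i).2) (fun i => (v i).2)
    rwa [one_mul] at this
  let B : LinearMap.BilinMap (fixedField K.bar) (Fin 3 → fixedField K.bar) (fixedField K.bar) :=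
    LinearMap.mk₂ (fixedField K.bar) (fun u v => (⟨_, hmem u v⟩ : fixedField K.bar))
      (fun a b v => Subtype.ext (by
        show H _ _ = H _ _ + H _ _
        rw [← h_add_left K, ← mulVec_add]; rfl))
      (fun c a v => Subtype.ext (by
        show H _ _ = (c : F) * H _ _
        rw [← h_smul_left K, ← mulVec_smul]; rfl))
      (fun v a b => Subtype.ext (by
        show H _ _ = H _ _ + H _ _
        rw [← h_add_right K, ← mulVec_add]; rfl))
      (fun c v a => Subtype.ext (by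
        show H _ _ = (c : F) * H _ _
        conv_rhs => rw [← (mem_fix K).1 c.2, ← h_smul_right K, ← mulVec_smul]
        rfl))
  have hsym : ∀ u v, B u v = B v u := fun u v => Subtype.ext (by
    show H _ _ = H _ _
    rw [← (mem_fix K).1 (hmem v u), ← h_swap K])
  obtain ⟨Q0, hQ0⟩ : ∃ Q0 : QuadraticForm (fixedField K.bar) (Fin 3 → fixedField K.bar), Q0 = LinearMap.BilinMap.toQuadraticMap B :=
    ⟨_, rfl⟩
  have hval : ∀ u, Q0 u = B u u := fun u => by rw [hQ0]; rfl
  have h20 : (2 : fixedField K.bar) ≠ 0 := fun e => h2 (congrArg Subtype.val e)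
  have hpol : ∀ u v, QuadraticMap.polar ⇑Q0 u v = 2 * B u v := fun u v => by
    rw [hQ0, LinearMap.BilinMap.polar_toQuadraticMap, hsym v u]; ring
  have hnd : Nondeg Q0 := fun v hv => by
    by_contra hv0
    refine hv0 (funext fun i => Subtype.ext ?_)
    have hall : ((P : Matrix (Fin 3) (Fin 3) F) *ᵥ fun i => (v i : F)) = 0 := by
      refine h_nondeg K fun z => h_eq_zero_symm K ?_
      obtain ⟨z', rfl⟩ : ∃ z', z = (P : Matrix (Fin 3) (Fin 3) F) *ᵥ z' :=
        ⟨(↑P⁻¹ : Matrix (Fin 3) (Fin 3) F) *ᵥ z, by rw [mulVec_mulVec, Units.mul_inv, one_mulVec]⟩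
      have hc : ∀ j, H ((P : Matrix (Fin 3) (Fin 3) F) *ᵥ Pi.single j 1)
          ((P : Matrix (Fin 3) (Fin 3) F) *ᵥ fun i => (v i : F)) = 0 := fun j => by
        have h := hv (Pi.single j 1)
        rw [hpol, hsym] at h
        have h' : B (Pi.single j 1) v = 0 := (mul_eq_zero.1 h).resolve_left h20
        have e : (fun i => ((Pi.single j (1 : fixedField K.bar) : Fin 3 → fixedField K.bar) i : F)) = Pi.single j 1 :=
          funext fun i => by rcases eq_or_ne i j with rfl | h <;> simp [*]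
        rw [← e]
        exact congrArg Subtype.val h'
      rw [show z' = z' 0 • Pi.single 0 1 + z' 1 • Pi.single 1 1 + z' 2 • Pi.single 2 1 by
        funext i; fin_cases i <;> simp]
      simp only [mulVec_add, mulVec_smul, h_add_left K, h_smul_left K, hc, mul_zero, add_zero]
    exact congrFun (Matrix.mulVec_injective_of_isUnit P.isUnit (hall.trans (mulVec_zero _).symm)) i
  obtain ⟨P1, γ, hγ, hP1⟩ := OrthSL.exists_frame hnd h20
  have hB : ∀ x y, B ((P1 : Matrix (Fin 3) (Fin 3) (fixedField K.bar)) *ᵥ x) ((P1 : Matrix (Fin 3) (Fin 3) (fixedField K.bar)) *ᵥ y) =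
      γ * (x 1 * y 1 - x 0 * y 2 - x 2 * y 0) := fun x y => by
    have h := hpol ((P1 : Matrix (Fin 3) (Fin 3) (fixedField K.bar)) *ᵥ x) ((P1 : Matrix (Fin 3) (Fin 3) (fixedField K.bar)) *ᵥ y)
    rw [QuadraticMap.polar, ← mulVec_add, hP1, hP1, hP1] at h
    refine mul_left_cancel₀ h20 ?_
    rw [← h]
    simp [OrthSL.q0]
    ring
  have hγF : (γ : F) ≠ 0 := fun e => hγ (Subtype.ext e)
  obtain ⟨s, hs⟩ := K.exists_norm (γ : F)⁻¹ (by rw [map_inv₀, (mem_fix K).1 γ.2])
  have hs0 : s ≠ 0 := fun e => by rw [e, zero_mul] at hs; exact inv_ne_zero hγF hs.symm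
  obtain ⟨C, hC⟩ : ∃ C : GL (Fin 3) (fixedField K.bar), (C : Matrix (Fin 3) (Fin 3) (fixedField K.bar)) =
      Matrix.diagonal ![-1, 1, 1] :=
    ⟨Matrix.GeneralLinearGroup.mkOfDetNeZero (Matrix.diagonal ![-1, 1, 1]) (by simp [Fin.prod_univ_three]), rfl⟩
  obtain ⟨Z, hZ⟩ : ∃ Z : GL (Fin 3) F, (Z : Matrix (Fin 3) (Fin 3) F) = s • (1 : Matrix (Fin 3) (Fin 3) F) :=
    ⟨Units.map (Matrix.scalar (Fin 3) : F →+* Matrix (Fin 3) (Fin 3) F).toMonoidHom (Units.mk0 s hs0),
      by simp [Matrix.smul_one_eq_diagonal]⟩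
  obtain ⟨N, hN⟩ : ∃ N, N = Matrix.GeneralLinearGroup.map ((fixedField K.bar).subtype : fixedField K.bar →+* F) (P1 * C) * Z :=
    ⟨_, rfl⟩
  have hNv : ∀ u : Fin 3 → fixedField K.bar, (N : Matrix (Fin 3) (Fin 3) F) *ᵥ (fun i => (u i : F)) =
      s • fun i => ((((P1 * C : GL (Fin 3) (fixedField K.bar)) : Matrix (Fin 3) (Fin 3) (fixedField K.bar)) *ᵥ u) i : F) := fun u => by
    rw [hN, Units.val_mul, hZ, Matrix.mul_smul, Matrix.mul_one, smul_mulVec]
    refine congrArg (s • ·) (funext fun i => ?_)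
    exact (RingHom.map_mulVec ((fixedField K.bar).subtype : fixedField K.bar →+* F) _ u i).symm
  refine ⟨P * N, fun x y => hj_expand K x y fun i j => ?_, ?_⟩
  · have ei : ∀ i : Fin 3, (fun t => ((Pi.single i (1 : fixedField K.bar) : Fin 3 → fixedField K.bar) t : F)) = Pi.single i 1 :=
      fun i => funext fun t => by rcases eq_or_ne t i with rfl | h <;> simp [*]
    rw [Units.val_mul, ← mulVec_mulVec, ← mulVec_mulVec, ← ei, ← ei, hNv, hNv, mulVec_smul, mulVec_smul,
      h_smul_left K, h_smul_right K]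
    have e := congrArg Subtype.val (hB ((C : Matrix (Fin 3) (Fin 3) (fixedField K.bar)) *ᵥ Pi.single i 1)
      ((C : Matrix (Fin 3) (Fin 3) (fixedField K.bar)) *ᵥ Pi.single j 1))
    rw [mulVec_mulVec, mulVec_mulVec, ← Units.val_mul] at e
    change H _ _ = _ at e
    rw [e, ei, ei]
    fin_cases i <;> fin_cases j <;> simp [hj, hC] <;> rw [← mul_assoc, hs, inv_mul_cancel₀ hγF]
  · rw [Cfsg.Geo.subfieldSubgroup, Cfsg.Geo.subfieldSubgroup, show (MulAut.conj (P * N)).toMonoidHom =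
      (MulAut.conj P).toMonoidHom.comp (MulAut.conj N).toMonoidHom from MonoidHom.ext fun g => by simp [mul_assoc],
      ← Subgroup.map_map]
    congr 1
    have hNm : N ∈ (Matrix.GeneralLinearGroup.map ((fixedField K.bar).subtype : fixedField K.bar →+* F)).range ⊔
        Cfsg.Geo.scalars (Fin 3) F := by
      rw [hN]
      exact mul_mem (Subgroup.mem_sup_left ⟨_, rfl⟩)
        (Subgroup.mem_sup_right ((Cfsg.Geo.mem_scalars_iff Z).2 ⟨Units.mk0 s hs0, hZ⟩))
    refine le_antisymm ?_ fun g hg => ?_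
    · rintro _ ⟨g, hg, rfl⟩
      exact mul_mem (mul_mem hNm hg) (inv_mem hNm)
    · exact ⟨N⁻¹ * g * N, mul_mem (mul_mem (inv_mem hNm) hg) hNm, by simp [mul_assoc]⟩

theorem isMaximalIn_subfield_two (hodd : Odd q) (h7 : 7 ≤ q) {F₀ : Subfield F} {P : GL (Fin 3) F}
    (hcard : Nat.card F = Nat.card F₀ ^ 2)
    (hrat : Cfsg.Geo.IsFormRationalStructure (hermForm 3 F q) F₀ 1 P) :
    Cfsg.Geo.IsMaximalIn (GU 3 F q ⊓ Cfsg.Geo.specialLinear (Fin 3) F)
      (Cfsg.Geo.subfieldSubgroup F₀ P ⊓ (GU 3 F q ⊓ Cfsg.Geo.specialLinear (Fin 3) F)) := by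
  obtain rfl := eq_fixedField K hcard
  have h2 : (2 : F) ≠ 0 := by
    let _ := Fintype.ofFinite F
    refine Ring.two_ne_zero fun e => ?_
    have h := FiniteField.even_card_of_char_two e
    rw [← Nat.card_eq_fintype_card, K.card] at h
    exact Nat.not_even_iff_odd.2 (hodd.pow) (Nat.even_iff.2 h)
  obtain ⟨Q, hQ, hsub⟩ := exists_real_frame K h2 hrat
  rw [← hsub]
  refine isMaximalIn_of_iso K hQ {s | Rt (fixedField K.bar) s} (fun s _ => tr_mem_subfield Q s) ?_ fun M hMi hM => ?_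
  · obtain ⟨θ, hθ0, hθ⟩ := exists_skew_ne K
    refine ⟨u 0 0 θ, z_mem K hθ, fun ⟨c, hc, h⟩ => ?_⟩
    have h00 := h 0 0
    have h02 := h 0 2
    simp at h00 h02
    have := (fixedField K.bar).mul_mem h02 (show c ∈ fixedField K.bar from h00)
    rw [div_mul_cancel₀ _ hc, mem_fix] at this
    rw [this] at hθ
    exact hθ0 ((mul_eq_zero.1 (show (2 : F) * θ = 0 by linear_combination hθ)).resolve_left h2)
  by_cases hne : M = iso K
  · exact Or.inl hne
  refine Or.inr ?_
  have h3q : 3 ≤ q := by omega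
  rcases orb_cases K hMi hM hne h2 h3q hodd h7 with h | h
  · exact h
  exfalso
  have h11 := q_le_eleven K hMi hM hne h2 h3q h
  obtain ⟨k, hk⟩ := hodd
  have : q = 7 ∨ q = 9 ∨ q = 11 := by omega
  rcases this with e | e | e
  · exact false_seven K hMi hM hne h2 h3q h e
  · exact false_nine K hMi hM hne h2 h3q h e
  · exact false_eleven K hMi hM hne h2 h3q h e

end CfsgLib.Classical.ThreeMax.SUThree
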