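import Cfsg.Agent.Lib.Classical.ThreeMax.SURealLine
import Mathlib.GroupTheory.Transfer
import Mathlib.GroupTheory.Sylow

/-!
The small fields: no overgroup of the real group moves the first point to every isotropic point.
-/

set_option autoImplicit false
set_option linter.unusedSectionVars false

namespace CfsgLib.Classical.ThreeMax.SUThree

open Matrix
open CfsgLib.ClassicalAut (Unitary.Conj)
open CfsgLib.AutPSL (fixedField)
open scoped MatrixGroups

variable {F : Type*} [Field F] [Finite F] {q : ℕ} (K : Unitary.Conj F q)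

local notation "S" => SpecialLinearGroup (Fin 3) F
local notation "m[" g "]" => (((g : SpecialLinearGroup (Fin 3) F) : Matrix (Fin 3) (Fin 3) F))

variable {M : Subgroup (SpecialLinearGroup (Fin 3) F)} (hMi : M ≤ iso K)
  (hM : ∀ s ∈ iso K, Rt (fixedField K.bar) s → s ∈ M) (hne : M ≠ iso K) (h2 : (2 : F) ≠ 0) (h3q : 3 ≤ q)

include hMi hM hne h2 h3q

theorem semi_real {g : S} (hg : g ∈ M) (hA : g ∉ ptStab) {t : F} (h : g⁻¹ * Ur t * g ∈ ptStab) : t = 0 := by
  have g2 := (exists_u_col K (hMi hg) hA).1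
  obtain ⟨a1, a2⟩ := mem_ptStab.1 h
  obtain ⟨y, hy⟩ : ∃ y, y = g⁻¹ * Ur t * g := ⟨_, rfl⟩
  rw [← hy] at a1 a2
  have e : (Ur t : S) * g = g * y := by rw [hy]; group
  have e2 := congrArg (fun z : S => m[z] 2 0) e
  have e1 := congrArg (fun z : S => m[z] 1 0) e
  simp [Ur, Matrix.mul_apply, Fin.sum_univ_three, a1, a2] at e1 e2
  have hl : m[y] 0 0 = 1 := mul_left_cancel₀ g2 (by rw [mul_one]; exact e2.symm)
  rw [hl, mul_one] at e1
  exact (mul_eq_zero.1 (show t * m[g] 2 0 = 0 by linear_combination -e1)).resolve_right g2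

/-- A normal subgroup of prime order not dividing the order of the point stabiliser is impossible. -/
theorem not_normal_prime {r : ℕ} (hr : r.Prime) (hrA : ¬ r ∣ Nat.card (ptStab ⊓ M : Subgroup S))
    (P : Subgroup M) [P.Normal] (hP : Nat.card P = r) : False := by
  haveI : Fact r.Prime := ⟨hr⟩
  haveI : IsCyclic P := isCyclic_of_prime_card hP
  obtain ⟨g, hg⟩ := IsCyclic.exists_generator (α := P)
  have hexp : ∀ x : M, ∃ a : ℤ, x * (g : M) * x⁻¹ = (g : M) ^ a := fun x => by
    obtain ⟨a, ha⟩ := Subgroup.mem_zpowers_iff.1 (hg ⟨_, Subgroup.Normal.conj_mem inferInstance _ g.2 x⟩)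
    exact ⟨a, (congrArg Subtype.val ha).symm.trans (by simp)⟩
  have hcomm : ∀ x y : M, Commute (x * y * x⁻¹ * y⁻¹) (g : M) := fun x y => by
    obtain ⟨a, ha⟩ := hexp x
    obtain ⟨b, hb⟩ := hexp y
    have e1 : x * y * (g : M) * (x * y)⁻¹ = (g : M) ^ (a * b) := by
      rw [_root_.zpow_mul, ← ha, conj_zpow, ← hb]; group
    have e2 : y * x * (g : M) * (y * x)⁻¹ = (g : M) ^ (a * b) := by
      rw [mul_comm a b, _root_.zpow_mul, ← hb, conj_zpow, ← ha]; group
    show _ * _ = _ * _
    have e3 := e1.trans e2.symm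
    have e4 : (g : M) = (y * x)⁻¹ * (x * y) * (g : M) * ((y * x)⁻¹ * (x * y))⁻¹ := by
      calc (g : M) = (y * x)⁻¹ * (y * x * g * (y * x)⁻¹) * (y * x) := by group
        _ = (y * x)⁻¹ * (x * y * g * (x * y)⁻¹) * (y * x) := by rw [e3]
        _ = _ := by group
    have e5 : (y * x) * (g : M) * (y * x)⁻¹ = (x * y * x⁻¹ * y⁻¹) * (y * x * g * (y * x)⁻¹) * (x * y * x⁻¹ * y⁻¹)⁻¹ := by
      conv_lhs => rw [← e3]
      group
    obtain ⟨c, hc⟩ := hexp (y * x)
    have e6 : Commute (x * y * x⁻¹ * y⁻¹) ((g : M) ^ c) := by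
      rw [← hc]
      have := eq_mul_inv_iff_mul_eq.1 e5
      exact this.symm
    -- the conjugate generates too
    obtain ⟨d, hd⟩ : ∃ d : ℤ, (g : M) = ((g : M) ^ c) ^ d := by
      have hgc : (⟨(g : M) ^ c, P.zpow_mem g.2 c⟩ : P) ≠ 1 := fun e => by
        have e' : (g : M) ^ c = 1 := congrArg Subtype.val e
        rw [← hc] at e'
        have : (g : M) = 1 := conj_eq_one_iff.1 e'
        have hg1 : g = 1 := Subtype.ext this
        have htop := hg
        rw [hg1] at htop
        have h1 : Nat.card P ≤ 1 := Finite.card_le_one_iff_subsingleton.2 ⟨fun u v => by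
          have hu := htop u; have hv := htop v
          rw [Subgroup.zpowers_one_eq_bot, Subgroup.mem_bot] at hu hv
          rw [hu, hv]⟩
        have := hr.two_le; omega
      have hmem := mem_zpowers_of_prime_card hP (g' := g) hgc
      obtain ⟨d, hd⟩ := Subgroup.mem_zpowers_iff.1 hmem
      exact ⟨d, (congrArg Subtype.val hd).symm.trans (by simp)⟩
    rw [hd]
    exact e6.zpow_right d
  have hg1 : (g : M) ≠ 1 := fun e => by
    have hg1 : g = 1 := Subtype.ext e
    have htop := hg
    rw [hg1] at htop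
    have h1 : Nat.card P ≤ 1 := Finite.card_le_one_iff_subsingleton.2 ⟨fun u v => by
      have hu := htop u; have hv := htop v
      rw [Subgroup.zpowers_one_eq_bot, Subgroup.mem_bot] at hu hv
      rw [hu, hv]⟩
    have := hr.two_le; omega
  have hneg : (-1 : F) ≠ 0 := neg_ne_zero.2 one_ne_zero
  obtain ⟨x, hx⟩ : ∃ x : M, (x : S) = tor K (-1) := ⟨⟨_, tor_M K hMi hM hne h2 h3q hneg (by simp)⟩, rfl⟩
  obtain ⟨y, hy⟩ : ∃ y : M, (y : S) = Ur 1 := ⟨⟨_, Ur_M K hMi hM hne h2 h3q (map_one K.bar)⟩, rfl⟩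
  have hU : ((x * y * x⁻¹ * y⁻¹ : M) : S) = Ur (-2) := by
    simp only [Subgroup.coe_mul, Subgroup.coe_inv, hx, hy]
    have e : tor K (-1) * Ur 1 = (Ur (-1) : S) * tor K (-1) := by
      refine Subtype.ext ?_
      show m[tor K (-1)] * m[Ur 1] = m[Ur (-1)] * m[tor K (-1)]
      rw [tor_coe K hneg]
      ext i j
      fin_cases i <;> fin_cases j <;> simp [Ur, Matrix.diagonal_mul, Matrix.mul_diagonal, neg_div_neg_eq]
    have hinv : (Ur 1 : S)⁻¹ = Ur (-1) := inv_eq_of_mul_eq_one_right (by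
      rw [Ur_mul h2, add_neg_cancel]; simp [Ur, u_zero])
    rw [e, mul_inv_cancel_right, hinv, Ur_mul h2]
    norm_num
  have hgA : ((g : M) : S) ∈ ptStab := by
    by_contra hA
    have hc := congrArg (fun z : M => (z : S)) (hcomm x y).eq
    simp only [Subgroup.coe_mul (G := S)] at hc
    rw [← Subgroup.coe_mul, ← Subgroup.coe_mul, ← Subgroup.coe_mul] at hc
    rw [hU] at hc
    have := semi_real K hMi hM hne h2 h3q (g : M).2 hA (t := -2) (by
      rw [mul_assoc, hc, inv_mul_cancel_left]; exact u_mem_ptStab _ _ _)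
    exact h2 (by linear_combination -this)
  apply hrA
  have ho : orderOf (⟨((g : M) : S), hgA, (g : M).2⟩ : (ptStab ⊓ M : Subgroup S)) = r := by
    rw [← Subgroup.orderOf_coe, Subgroup.orderOf_coe (g : M)]
    refine orderOf_eq_prime ?_ hg1
    have h := pow_card_eq_one' (G := P) (x := g)
    rw [hP] at h
    rw [← SubmonoidClass.coe_pow, h, Subgroup.coe_one]
  rw [← ho]
  exact orderOf_dvd_natCard _

/-- An arithmetical Sylow situation with a normal Sylow subgroup is impossible. -/
theorem false_of_sylow {r N : ℕ} (hr : r.Prime) (hrN : ¬ r ∣ N) (hcard : Nat.card M = r * N)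
    (hrA : ¬ r ∣ Nat.card (ptStab ⊓ M : Subgroup S))
    (hn : ∀ n, n ∣ N → n % r = 1 → n = 1) : False := by
  haveI : Fact r.Prime := ⟨hr⟩
  obtain ⟨P⟩ : Nonempty (Sylow r M) := inferInstance
  have hP : Nat.card P = r := by
    rw [P.card_eq_multiplicity, hcard]
    have hN : N ≠ 0 := fun e => hrN (e ▸ dvd_zero r)
    rw [Nat.factorization_mul hr.ne_zero hN, Finsupp.add_apply, hr.factorization_self,
      Nat.factorization_eq_zero_of_not_dvd hrN, pow_one]
  have hind : (P : Subgroup M).index = N := by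
    have h := (P : Subgroup M).card_mul_index
    rw [hcard, show Nat.card (P : Subgroup M) = r from hP] at h
    exact Nat.eq_of_mul_eq_mul_left hr.pos h
  have hs : Nat.card (Sylow r M) = 1 := by
    refine hn _ (hind ▸ P.card_dvd_index) ?_
    have := card_sylow_modEq_one r M
    rw [Nat.ModEq, Nat.mod_eq_of_lt hr.one_lt] at this
    exact this
  haveI : Subsingleton (Sylow r M) := (Nat.card_eq_one_iff_unique.1 hs).1
  haveI := P.normal_of_subsingleton
  exact not_normal_prime K hMi hM hne h2 h3q hr hrA (P : Subgroup M) hP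

theorem false_seven (hall : (Orb M).ncard = q ^ 3) (h7 : q = 7) : False := by
  obtain ⟨-, h3⟩ := card_Lg K
  have hpos : 0 < Nat.card (ratio K).range := Nat.card_pos
  have hc := card_M_eq K hMi hM hne h2 h3q
  have hA : Nat.card (ptStab ⊓ M : Subgroup S) = q * ((q - 1) * Nat.card (ratio K).range) := by
    rw [card_stab K hMi hM hne h2 h3q, (card_Lg K).1]
  subst h7
  rw [hall] at hc
  refine false_of_sylow K hMi hM hne h2 h3q (r := 43) (N := 336 * Nat.card (ratio K).range) (by norm_num) ?_ ?_ ?_ ?_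
  · interval_cases Nat.card (ratio K).range <;> norm_num
  · rw [hc]; norm_num; ring
  · rw [hA]; interval_cases Nat.card (ratio K).range <;> norm_num
  · intro n hn hmod
    have hle : n ≤ 1008 := (Nat.le_of_dvd (by omega) hn).trans (by omega)
    obtain ⟨i, rfl⟩ : ∃ i, n = 43 * i + 1 := ⟨n / 43, by omega⟩
    have hi : i ≤ 23 := by omega
    interval_cases Nat.card (ratio K).range <;> interval_cases i <;> first | rfl | (norm_num at hn)

theorem false_nine (hall : (Orb M).ncard = q ^ 3) (h9 : q = 9) : False := by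
  obtain ⟨-, h3⟩ := card_Lg K
  have hpos : 0 < Nat.card (ratio K).range := Nat.card_pos
  have hc := card_M_eq K hMi hM hne h2 h3q
  have hA : Nat.card (ptStab ⊓ M : Subgroup S) = q * ((q - 1) * Nat.card (ratio K).range) := by
    rw [card_stab K hMi hM hne h2 h3q, (card_Lg K).1]
  subst h9
  rw [hall] at hc
  refine false_of_sylow K hMi hM hne h2 h3q (r := 73) (N := 720 * Nat.card (ratio K).range) (by norm_num) ?_ ?_ ?_ ?_
  · interval_cases Nat.card (ratio K).range <;> norm_num
  · rw [hc]; norm_num; ring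
  · rw [hA]; interval_cases Nat.card (ratio K).range <;> norm_num
  · intro n hn hmod
    have hle : n ≤ 2160 := (Nat.le_of_dvd (by omega) hn).trans (by omega)
    obtain ⟨i, rfl⟩ : ∃ i, n = 73 * i + 1 := ⟨n / 73, by omega⟩
    have hi : i ≤ 29 := by omega
    interval_cases Nat.card (ratio K).range <;> interval_cases i <;> first | rfl | (norm_num at hn)

theorem range_three (h11 : q = 11) : Nat.card (ratio K).range = 3 := by
  obtain ⟨-, h3⟩ := card_Lg K
  haveI : Fact (Nat.Prime 3) := ⟨Nat.prime_three⟩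
  obtain ⟨ω, hω⟩ := exists_prime_orderOf_dvd_card' (G := Fˣ) 3 (by
    rw [Nat.card_units, K.card, h11]; norm_num)
  have hω3 : (ω : F) ^ 3 = 1 := by rw [← Units.val_pow_eq_pow_val, ← hω, pow_orderOf_eq_one, Units.val_one]
  have hω1 : (ω : F) ≠ 1 := fun e => by
    rw [Units.val_eq_one] at e
    rw [e, orderOf_one] at hω
    norm_num at hω
  have hb : K.bar (ω : F) = (ω : F) ^ 2 := by
    rw [K.bar_apply, show (ω : F) ^ q = (ω : F) ^ 11 by rw [h11],
      show (ω : F) ^ 11 = ((ω : F) ^ 3) ^ 3 * (ω : F) ^ 2 by ring, hω3, one_pow, one_mul]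
  have hmem : ω ∈ Lg K := by
    show K.bar _ = _
    rw [hb, ← pow_two, div_self (pow_ne_zero _ ω.ne_zero), map_one]
  have hne1 : (⟨ratio K ⟨ω, hmem⟩, ⟨_, rfl⟩⟩ : (ratio K).range) ≠ 1 := fun e => hω1 (by
    have h := congrArg (fun z : (ratio K).range => ((z : Fˣ) : F)) e
    simp [ratio, hb] at h
    field_simp at h
    exact h.symm)
  have ho : orderOf (⟨ratio K ⟨ω, hmem⟩, ⟨_, rfl⟩⟩ : (ratio K).range) = 3 :=
    orderOf_eq_prime (Subtype.ext (ratio_cube K _)) hne1
  have h := ho ▸ orderOf_dvd_natCard (⟨ratio K ⟨ω, hmem⟩, ⟨_, rfl⟩⟩ : (ratio K).range)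
  have hpos : 0 < Nat.card (ratio K).range := Nat.card_pos
  omega

theorem false_eleven (hall : (Orb M).ncard = q ^ 3) (h11 : q = 11) : False := by
  classical
  have hj := range_three K hMi hM hne h2 h3q h11
  have hc := card_M_eq K hMi hM hne h2 h3q
  have hA : Nat.card (ptStab ⊓ M : Subgroup S) = q * ((q - 1) * Nat.card (ratio K).range) := by
    rw [card_stab K hMi hM hne h2 h3q, (card_Lg K).1]
  rw [hall, hj] at hc
  rw [hj] at hA
  obtain ⟨ω, hω⟩ := exists_prime_orderOf_dvd_card' (G := Fˣ) (p := 3) (hp := ⟨Nat.prime_three⟩) (by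
    rw [Nat.card_units, K.card, h11]; norm_num)
  have hq11 : ∀ x : F, K.bar x = x ^ 11 := fun x => by rw [K.bar_apply, h11]
  subst h11
  replace hc : Nat.card M = 439560 := hc.trans (by norm_num)
  replace hA : Nat.card (ptStab ⊓ M : Subgroup S) = 330 := hA.trans (by norm_num)
  haveI : Fact (Nat.Prime 37) := ⟨by norm_num⟩
  obtain ⟨P⟩ : Nonempty (Sylow 37 M) := inferInstance
  have hP : Nat.card (P : Subgroup M) = 37 := by
    show Nat.card P = 37
    rw [P.card_eq_multiplicity, hc, show 439560 = 37 * 11880 from rfl,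
      Nat.factorization_mul (by norm_num) (by norm_num), Finsupp.add_apply,
      (by norm_num : Nat.Prime 37).factorization_self,
      Nat.factorization_eq_zero_of_not_dvd (by norm_num), pow_one]
  have hind : (P : Subgroup M).index = 11880 := by
    have h := (P : Subgroup M).card_mul_index
    rw [hc, hP] at h; omega
  have hsyl : Nat.card (Sylow 37 M) % 37 = 1 := by
    have := card_sylow_modEq_one 37 M
    exact this
  -- the central scalars
  have hω3 : (ω : F) ^ 3 = 1 := by rw [← Units.val_pow_eq_pow_val, ← hω, pow_orderOf_eq_one, Units.val_one]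
  have hωL : K.bar ((ω : F) * ω / K.bar (ω : F)) = (ω : F) * ω / K.bar (ω : F) := by
    have e : K.bar (ω : F) = (ω : F) ^ 2 := by
      rw [hq11, show (ω : F) ^ 11 = ((ω : F) ^ 3) ^ 3 * (ω : F) ^ 2 by ring, hω3, one_pow, one_mul]
    rw [e, ← pow_two, div_self (pow_ne_zero _ ω.ne_zero), map_one]
  obtain ⟨z, hz⟩ : ∃ z : M, (z : S) = tor K (ω : F) := ⟨⟨_, tor_M K hMi hM hne h2 h3q ω.ne_zero hωL⟩, rfl⟩
  have hzs : m[(z : S)] = (ω : F) • (1 : Matrix (Fin 3) (Fin 3) F) := by
    rw [hz, tor_coe K ω.ne_zero, hq11, show (ω : F) ^ 11 = ((ω : F) ^ 3) ^ 3 * (ω : F) ^ 2 by ring, hω3, one_pow, one_mul]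
    ext i j
    fin_cases i <;> fin_cases j <;> simp <;> field_simp <;> linear_combination -hω3
  have hzc : ∀ x : M, Commute z x := fun x => Subtype.ext (Subtype.ext (by
    show m[(z : S)] * m[(x : S)] = m[(x : S)] * m[(z : S)]
    rw [hzs, smul_mul_assoc, one_mul, mul_smul_comm, mul_one]))
  have hz3 : orderOf z = 3 := by
    haveI : Fact (Nat.Prime 3) := ⟨Nat.prime_three⟩
    refine orderOf_eq_prime (Subtype.ext (Subtype.ext ?_)) fun e => ?_
    · show m[(z : S)] ^ 3 = 1
      rw [hzs, smul_pow, one_pow, hω3, one_smul]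
    · have h00 : m[(z : S)] 0 0 = 1 := by rw [e]; simp
      rw [hzs] at h00
      have h00' : (ω : F) = 1 := by simpa using h00
      rw [Units.val_eq_one] at h00'
      rw [h00', orderOf_one] at hω
      norm_num at hω
  set N := Subgroup.normalizer ((P : Subgroup M) : Set M) with hN
  set C := Subgroup.centralizer ((P : Subgroup M) : Set M) with hC
  haveI : IsCyclic (P : Subgroup M) := isCyclic_of_prime_card hP
  have hPC : (P : Subgroup M) ≤ C := fun x hx y hy => by
    let _ : CommGroup (P : Subgroup M) := IsCyclic.commGroup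
    exact congrArg Subtype.val (mul_comm (⟨y, hy⟩ : (P : Subgroup M)) ⟨x, hx⟩)
  have hzC : z ∈ C := fun y _ => (hzc y).eq.symm
  have hCN : C ≤ N := Subgroup.centralizer_le_normalizer _
  have h37 : 37 ∣ Nat.card C := hP ▸ Subgroup.card_dvd_of_le hPC
  have h3' : 3 ∣ Nat.card C := by
    have h := Subgroup.orderOf_dvd_natCard C hzC
    rwa [hz3] at h
  have h111 : 111 ∣ Nat.card C := (by norm_num : Nat.Coprime 37 3).mul_dvd_of_dvd_of_dvd h37 h3'
  have hNn : Nat.card N * Nat.card (Sylow 37 M) = 439560 := by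
    rw [P.card_eq_index_normalizer, ← hc]
    exact Subgroup.card_mul_index _
  have hn : Nat.card (Sylow 37 M) ∣ 3960 := by
    obtain ⟨a, ha⟩ := h111.trans (Subgroup.card_dvd_of_le hCN)
    rw [ha, mul_assoc] at hNn
    exact ⟨a, by rw [mul_comm]; omega⟩
  obtain ⟨i, hi⟩ : ∃ i, Nat.card (Sylow 37 M) = 37 * i + 1 := ⟨Nat.card (Sylow 37 M) / 37, by omega⟩
  have hile : i ≤ 107 := by
    have := Nat.le_of_dvd (by norm_num) hn
    omega
  rw [hi] at hn
  have hcases : i = 0 ∨ i = 107 := by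
    interval_cases i <;> first | exact Or.inl rfl | exact Or.inr rfl | (norm_num at hn)
  rcases hcases with rfl | rfl
  · haveI : Subsingleton (Sylow 37 M) := (Nat.card_eq_one_iff_unique.1 (by simpa using hi)).1
    haveI := P.normal_of_subsingleton
    exact not_normal_prime K hMi hM hne h2 h3q (by norm_num) (by rw [hA]; norm_num) (P : Subgroup M) hP
  rw [hi] at hNn
  have hNC : N ≤ C := by
    have h1 : C = N := Subgroup.eq_of_le_of_card_ge hCN (by
      have := Nat.le_of_dvd Nat.card_pos h111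
      omega)
    rw [h1]
  have hcomp := MonoidHom.ker_transferSylow_isComplement' P hNC
  set T := (MonoidHom.transferSylow P hNC).ker with hT
  have hTcard : Nat.card T = 11880 := by
    have h := hcomp.card_mul
    rw [hP, hc] at h; omega
  have hsmall : ∀ x : M, orderOf x ∣ 330 → x ∈ T := fun x hx => by
    rw [hT, MonoidHom.mem_ker, ← orderOf_eq_one_iff]
    have h1 := (orderOf_map_dvd (MonoidHom.transferSylow P hNC) x).trans hx
    have h2' := orderOf_dvd_natCard (MonoidHom.transferSylow P hNC x)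
    rw [hP] at h2'
    exact Nat.eq_one_of_dvd_coprimes (by norm_num : Nat.Coprime 330 37) h1 h2'
  let T' : Subgroup S := T.map M.subtype
  have hT'card : Nat.card T' = 11880 := by
    rw [← hTcard]; exact Nat.card_congr (T.equivMapOfInjective _ M.subtype_injective).toEquiv.symm
  have hAT : (ptStab ⊓ T' : Subgroup S) = ptStab ⊓ M := by
    refine le_antisymm (inf_le_inf_left _ (by rintro _ ⟨x, -, rfl⟩; exact x.2)) fun x hx => ⟨hx.1, ⟨x, hx.2⟩, ?_, rfl⟩
    refine hsmall _ ?_
    rw [← hA, ← Subgroup.orderOf_coe]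
    exact Subgroup.orderOf_dvd_natCard (ptStab ⊓ M : Subgroup S) hx
  have hrel : (ptStab : Subgroup S).relIndex T' = 36 := by
    have h := card_eq_mul (M := T')
    rw [hT'card, hAT, hA] at h; omega
  let U : Subgroup S :=
    { carrier := {x | ∃ t, K.bar t = t ∧ x = Ur t}
      one_mem' := ⟨0, map_zero _, by simp [Ur, u_zero]⟩
      mul_mem' := by
        rintro x y ⟨s, hs, rfl⟩ ⟨t, ht, rfl⟩
        exact ⟨s + t, by rw [map_add, hs, ht], Ur_mul h2 s t⟩
      inv_mem' := by
        rintro x ⟨s, hs, rfl⟩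
        refine ⟨-s, by rw [map_neg, hs], inv_eq_of_mul_eq_one_right ?_⟩
        rw [Ur_mul h2, add_neg_cancel]; simp [Ur, u_zero] }
  have hU : Nat.card U = 11 := by
    rw [← card_fix K]
    exact (Nat.card_congr (Equiv.ofBijective (fun t : fixedField K.bar => (⟨Ur (t : F), t, t.2, rfl⟩ : U))
      ⟨fun s t e => Subtype.ext (u_ext (congrArg Subtype.val e)).1,
        fun ⟨_, t, ht, e⟩ => ⟨⟨t, ht⟩, Subtype.ext e.symm⟩⟩)).symm
  obtain ⟨k, hk⟩ := exists_relIndex_eq (H := T') (A := (ptStab : Subgroup S)) (U := U)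
    (by
      rintro x ⟨t, ht, rfl⟩
      have : (Ur t : S) ∈ ptStab ⊓ M := ⟨u_mem_ptStab _ _ _, Ur_M K hMi hM hne h2 h3q ht⟩
      rw [← hAT] at this
      exact this.2)
    (by rintro x ⟨t, -, rfl⟩; exact u_mem_ptStab _ _ _) fun g hg hgA x hx hxA => by
      obtain ⟨t, ht, rfl⟩ := hx
      have hgM : g ∈ M := by obtain ⟨y, -, rfl⟩ := hg; exact y.2
      rw [semi_real K hMi hM hne h2 h3q hgM hgA hxA]
      simp [Ur, u_zero]
  rw [hrel, hU] at hk
  omega

end CfsgLib.Classical.ThreeMax.SUThree
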