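import Cfsg.Agent.Lib.Classical.ThreeMax.SUSubfield
import Cfsg.Agent.Lib.RegGen.SLThreeOdd
import Mathlib.Algebra.CharP.CharAndCard

/-!
The norms of first columns in an overgroup of a subfield group of odd degree, larger fields.
-/

set_option autoImplicit false
set_option linter.unusedSectionVars false

namespace CfsgLib.Classical.ThreeMax.SUThree

open Matrix
open CfsgLib.ClassicalAut (Unitary.Conj)
open CfsgLib.AutPSL (fixedField)
open scoped MatrixGroups

variable {F : Type*} [Field F] [Finite F] {q : ℕ} (K : Unitary.Conj F q)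

local notation "S" => SpecialLinearGroup (Fin 3) F
local notation "m[" g "]" => (((g : SpecialLinearGroup (Fin 3) F) : Matrix (Fin 3) (Fin 3) F))

variable {F₀ : Subfield F} {q₀ : ℕ} (K₀ : Unitary.Conj F₀ q₀) (hbar : ∀ c : F₀, (K₀.bar c : F) = K.bar c)
  {r : ℕ} (hr : r.Prime) (hodd : Odd r) (hcard : Nat.card F = Nat.card F₀ ^ r) (hq : q = q₀ ^ r)
  {M : Subgroup (SpecialLinearGroup (Fin 3) F)} (hMi : M ≤ iso K)
  (hM : ∀ s ∈ iso K, Rt F₀ s → s ∈ M) (hne : M ≠ iso K)

include hbar hr hodd hcard hq hMi hM hne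

theorem norm_mem (hq₀ : 3 ≤ q₀) {g : S} (hg : g ∈ M) : m[g] 2 0 * K.bar (m[g] 2 0) ∈ F₀ := by
  by_cases hA : g ∈ ptStab
  · rw [(mem_ptStab.1 hA).2, zero_mul]; exact F₀.zero_mem
  obtain ⟨h20, a, c, hpar, e0, e1⟩ := exists_u_col K (hMi hg) hA
  by_contra hδ
  obtain ⟨δ, hδd⟩ : ∃ δ, δ = m[g] 2 0 * K.bar (m[g] 2 0) := ⟨_, rfl⟩
  rw [← hδd] at hδ
  set v := (u a (-K.bar a) c : S) with hv
  have hvz : ∀ s : F, v * u 0 0 s * v⁻¹ = u 0 0 s := fun s => by
    rw [hv, u_inv, u_mul, u_mul]; congr 1 <;> ring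
  obtain ⟨θ, hθF, hθ0, hθ⟩ := exists_skew_rat K K₀ hbar
  have hθb : K.bar θ = -θ := by linear_combination hθ
  obtain ⟨μ, hμ⟩ : ∃ t : fixedField K.bar, (t : F) = θ * θ * δ :=
    ⟨⟨θ * θ * δ, show K.bar (θ * θ * δ) = θ * θ * δ by
      rw [map_mul, map_mul, hθb, hδd, map_mul, K.bar_bar]; ring⟩, rfl⟩
  have hμ0F : (μ : F) ∉ F₀ := fun e => hδ (by
    rw [hμ] at e
    have := F₀.div_mem e (F₀.mul_mem hθF hθF)
    rwa [mul_div_cancel_left₀ _ (mul_ne_zero hθ0 hθ0)] at this)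
  set A := F₀.comap (fixedField K.bar).subtype with hAd
  let N : Subgroup S := M.comap (MulAut.conj v).toMonoidHom
  have hup : ∀ t ∈ A, SL2.up t ∈ N.comap (plane K hθ0) := fun t ht => by
    show v * plane K hθ0 (SL2.up t) * v⁻¹ ∈ M
    rw [plane_up, hvz]
    exact z_rat_mem K K₀ hbar hr hodd hcard hq hMi hM hne (F₀.mul_mem hθF ht)
      (by rw [map_mul, hθb, show K.bar (t : F) = t from t.2]; ring)
  have hlo : SL2.lo μ ∈ N.comap (plane K hθ0) := by
    show v * plane K hθ0 (SL2.lo μ) * v⁻¹ ∈ M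
    rw [plane_lo, hμ]
    have h20' : m[v⁻¹ * g] 2 0 = m[g] 2 0 := by rw [hv, u_inv]; simp [Matrix.mul_apply, Fin.sum_univ_three]
    have e := conj_lo K (h := v⁻¹ * g) ((iso K).mul_mem ((iso K).inv_mem (u_mem K hpar)) (hMi hg)) e0 e1 θ
    rw [h20', ← hδd] at e
    rw [show θ * θ * δ / θ = θ * δ by field_simp, ← e]
    have := M.mul_mem (M.mul_mem hg (z_rat_mem K K₀ hbar hr hodd hcard hq hMi hM hne hθF hθ)) (M.inv_mem hg)
    convert this using 1
    group
  have hA : Nat.card A = q₀ := card_rat_fix K K₀ hbar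
  have hμ00 : μ ≠ 0 := fun e => hμ0F (by rw [e]; exact F₀.zero_mem)
  have hprime : q₀.Prime → ∀ B : Subfield (fixedField K.bar), μ ∈ B → B = ⊤ := fun hp B hB => by
    refine fix_top K K₀ hbar hr hcard hq (fun t ht => ?_) hB hμ0F
    have : Fact (Nat.card A.toAddSubgroup).Prime := ⟨by rw [show Nat.card A.toAddSubgroup = q₀ from hA]; exact hp⟩
    rcases AddSubgroup.eq_bot_or_eq_top_of_prime_card (B.toAddSubgroup.addSubgroupOf A.toAddSubgroup) with h | h
    · exfalso
      have h1 : (⟨1, A.one_mem⟩ : A.toAddSubgroup) ∈ B.toAddSubgroup.addSubgroupOf A.toAddSubgroup := B.one_mem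
      rw [h] at h1
      exact one_ne_zero (congrArg Subtype.val h1 : (1 : fixedField K.bar) = 0)
    · exact (h ▸ AddSubgroup.mem_top (⟨t, ht⟩ : A.toAddSubgroup) :
        (⟨t, ht⟩ : A.toAddSubgroup) ∈ B.toAddSubgroup.addSubgroupOf A.toAddSubgroup)
  have hgen : ∀ B : Subfield (fixedField K.bar), (∀ w ∈ A.toAddSubgroup, μ * w ∈ B) → B = ⊤ := fun B hB => by
    have h1 : μ ∈ B := by simpa using hB 1 A.one_mem
    refine fix_top K K₀ hbar hr hcard hq (fun t ht => ?_) h1 hμ0F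
    simpa [hμ00] using B.div_mem (hB t ht) h1
  have h5q : q₀ < q := by
    rw [hq]
    exact (pow_one q₀).symm.trans_lt (Nat.pow_lt_pow_right K₀.two_le hr.one_lt)
  have htop : N.comap (plane K hθ0) = ⊤ := by
    have hsmall : ∀ {p : ℕ}, p.Prime → q₀ = p → p ≠ 2 → (p = 3 → μ ^ 4 ≠ 1) → N.comap (plane K hθ0) = ⊤ := by
      intro p hp hqp hp2 h4
      have : Fact p.Prime := ⟨hp⟩
      let _ := Fintype.ofFinite (fixedField K.bar)
      have hc : Fintype.card (fixedField K.bar) = p ^ r := by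
        rw [← Nat.card_eq_fintype_card, card_fix K, hq, hqp]
      have : CharP (fixedField K.bar) p := charP_of_card_eq_prime_pow hc
      refine CfsgLib.RegGen.sl2_eq_top_of_one hp2 ?_ (hup 1 A.one_mem) hlo (hprime (hqp ▸ hp)) h4
      rw [card_fix K]; omega
    rcases Nat.lt_or_ge 5 q₀ with h | h
    · exact SL2.eq_top_of_up_lo A.toAddSubgroup hup hμ00 hlo (hA.symm ▸ h : 5 < Nat.card A) hgen
    interval_cases q₀
    · refine hsmall Nat.prime_three rfl (by norm_num) fun _ h4 => ?_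
      -- fourth roots of one are rational
      have hfrob : μ ^ (3 ^ r) = μ := Subtype.ext (by
        rw [SubmonoidClass.coe_pow, show (3 : ℕ) ^ r = q from hq.symm, ← K.bar_apply]; exact μ.2)
      have h3 : μ ^ 3 = μ := by
        have h34 : 3 ^ r % 4 = 3 := by
          obtain ⟨j, rfl⟩ := hodd
          rw [pow_succ, pow_mul, Nat.mul_mod, Nat.pow_mod]
          simp
        rw [← Nat.div_add_mod (3 ^ r) 4, pow_add, pow_mul, h4, one_pow, one_mul, h34] at hfrob
        exact hfrob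
      have hcases : μ = 1 ∨ μ = -1 := by
        have h0 : μ * ((μ - 1) * (μ + 1)) = 0 := by linear_combination h3
        rcases mul_eq_zero.1 ((mul_eq_zero.1 h0).resolve_left hμ00) with h | h
        · exact Or.inl (sub_eq_zero.1 h)
        · exact Or.inr (eq_neg_of_add_eq_zero_left h)
      rcases hcases with e | e <;> refine hμ0F ?_ <;> rw [e]
      · exact F₀.one_mem
      · exact F₀.neg_mem F₀.one_mem
    · exact SL2.eq_top_of_up_lo' A.toAddSubgroup hup hμ00 hlo
        (Or.inr ⟨hA, Subtype.ext (two_eq_zero K K₀ hbar hr hcard hq (Or.inr rfl))⟩) hgen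
    · exact hsmall Nat.prime_five rfl (by norm_num) (by norm_num)
  obtain ⟨t, ht⟩ : ∃ t : fixedField K.bar, (t : F) ∉ F₀ := ⟨μ, hμ0F⟩
  have h : SL2.up t ∈ N.comap (plane K hθ0) := htop ▸ Subgroup.mem_top _
  have h' : v * plane K hθ0 (SL2.up t) * v⁻¹ ∈ M := h
  rw [plane_up, hvz] at h'
  have h1 := z_mem_rat K K₀ hbar hr hodd hcard hq hMi hM hne h'
  exact ht (by simpa [hθ0] using F₀.div_mem h1 hθF)

end CfsgLib.Classical.ThreeMax.SUThree
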