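import Mathlib

/-!
The arithmetic behind the maximality of the normaliser of a Singer cycle in dimension three: the
factorisations `k * m = q³(q - 1)²(q + 1)/3` with `k` and `m` congruent to one modulo the order of
the Singer cycle, and their unitary analogue.
-/

set_option autoImplicit false
set_option maxHeartbeats 1000000
set_option maxRecDepth 100000

namespace CfsgLib.ThreeMax.Arith

theorem dvd_check {a b c : ℕ} (h : 3 * a * b = c) : c % (3 * a) = 0 := by
  rw [← h]; exact Nat.mul_mod_right _ _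

theorem check_lin_small : (List.range 34).all (fun q => q == 4 || q == 10 || q < 2 ||
    (List.range (3 * q + 2)).all (fun j =>
      let d := if q % 3 == 1 then 3 else 1
      let k := (j + 1) * ((q * q + q + 1) / d) + 1
      (q ^ 3 * (q - 1) ^ 2 * (q + 1)) % (3 * k) != 0 || k == q ^ 3 ||
        3 * k * q ^ 3 == q ^ 3 * (q - 1) ^ 2 * (q + 1) ||
        3 * k == q ^ 3 * (q - 1) ^ 2 * (q + 1))) = true := by decide +kernel

theorem check_lin_large : (List.range 1044).all (fun q => q % 3 != 1 || q < 34 ||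
    (List.range 26).all (fun j =>
      let k := (j + 1) * ((q * q + q + 1) / 3) + 1
      (q ^ 3 * (q - 1) ^ 2 * (q + 1)) % (3 * k) != 0 || k == q ^ 3 ||
        3 * k * q ^ 3 == q ^ 3 * (q - 1) ^ 2 * (q + 1))) = true := by decide +kernel

theorem check_uni_one : (List.range 22).all (fun q => q == 3 || q == 6 || q < 3 || q % 3 == 2 ||
    (List.range (3 * q + 5)).all (fun j =>
      let k := (j + 1) * (q * q + 1 - q) + 1
      (q ^ 3 * (q + 1) ^ 2 * (q - 1)) % (3 * k) != 0 || (q == 4 && k == 40))) = true := by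
  decide +kernel

theorem check_uni_three : (List.range 2600).all (fun q => q % 3 != 2 || q < 6 || q == 14 || q == 35 ||
    (List.range (if q < 200 then 3 * q + 5 else 68)).all (fun j =>
      let k := (j + 1) * ((q * q + 1 - q) / 3) + 1
      (q ^ 3 * (q + 1) ^ 2 * (q - 1)) % (3 * k) != 0 || (q == 8 && (k == 96 || k == 1008)))) =
    true := by decide +kernel

/-- The two equations for `i + j` and `i * j`. -/
theorem equations {Q d nb i j : ℤ} (hnb : 0 < nb) (hn : d * nb = Q ^ 2 + Q + 1)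
    (h : 3 * (j * nb + 1) * (i * nb + 1) = Q ^ 3 * (Q - 1) ^ 2 * (Q + 1)) :
    ∃ t : ℤ, 3 * (i + j) = d * (4 * Q - 5) + t * nb ∧
      3 * (i * j) = d ^ 2 * ((Q - 1) * (Q - 2)) - t := by
  refine ⟨d ^ 2 * ((Q - 1) * (Q - 2)) - 3 * (i * j), ?_, by ring⟩
  refine mul_right_cancel₀ hnb.ne' ?_
  linear_combination h - ((Q - 1) * (Q - 2) * (d * nb + Q ^ 2 + Q + 1) + (4 * Q - 5)) * hn

theorem lin_core {q d nb i j : ℤ} (hq : 34 ≤ q) (hd : d = 1 ∨ d = 3) (hn : d * nb = q ^ 2 + q + 1)
    (hj : 1 ≤ j) (hij : j ≤ i)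
    (h : 3 * (j * nb + 1) * (i * nb + 1) = q ^ 3 * (q - 1) ^ 2 * (q + 1)) :
    (j * nb + 1 = q ^ 3 ∨ i * nb + 1 = q ^ 3) ∨ (d = 3 ∧ j ≤ 26 ∧ q ≤ 1043) := by
  have hnb : 0 < nb := by rcases hd with rfl | rfl <;> nlinarith
  obtain ⟨t, e1, e2⟩ := equations hnb hn h
  rcases lt_trichotomy t 0 with ht | ht | ht
  · exfalso
    have : t * nb ≤ -nb := by nlinarith
    rcases hd with rfl | rfl <;> nlinarith
  · left
    subst ht
    have e : (3 * j - 3 * d * (q - 1)) * (3 * j - d * (q - 2)) = 0 := by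
      linear_combination (-3) * e2 + (3 * j) * e1
    rcases mul_eq_zero.mp e with h' | h'
    · left
      have : j = d * (q - 1) := by linarith
      rw [this]; linear_combination (q - 1) * hn
    · right
      have : i = d * (q - 1) := by linarith
      rw [this]; linear_combination (q - 1) * hn
  · right
    have hA : (q - 1) * (q - 2) ≤ q ^ 2 + q + 1 := by nlinarith
    have hB : 0 ≤ d * (4 * q - 5) := by rcases hd with rfl | rfl <;> linarith
    have hj6 : j * nb < 2 * d ^ 2 * (d * nb) := by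
      have a1 : j * nb ≤ j * (6 * i) := by
        refine mul_le_mul_of_nonneg_left ?_ (by linarith)
        nlinarith
      have a2 : d ^ 2 * ((q - 1) * (q - 2)) ≤ d ^ 2 * (q ^ 2 + q + 1) :=
        mul_le_mul_of_nonneg_left hA (sq_nonneg d)
      nlinarith
    have hj' : j < 2 * d ^ 3 := by
      by_contra hc
      push Not at hc
      nlinarith [mul_le_mul_of_nonneg_right hc hnb.le]
    have key : t * j * (q ^ 2 + q + 1) + t * d =
        d ^ 3 * ((q - 1) * (q - 2)) - j * d ^ 2 * (4 * q - 5) + 3 * d * j ^ 2 := by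
      linear_combination (j * d * (-1)) * e1 + d * e2 - (t * j) * hn
    have htj : t * j < d ^ 3 := by
      by_contra hc
      push Not at hc
      have a1 := mul_le_mul_of_nonneg_right hc (show (0 : ℤ) ≤ q ^ 2 + q + 1 by nlinarith)
      rcases hd with rfl | rfl <;> nlinarith
    rcases hd with rfl | rfl
    · nlinarith
    · refine ⟨rfl, by nlinarith, ?_⟩
      by_contra hc
      push Not at hc
      have a1 := mul_le_mul_of_nonneg_right (show t * j ≤ 26 by linarith)
        (show (0 : ℤ) ≤ q ^ 2 + q + 1 by nlinarith)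
      have a2 : j * q ≤ 26 * q := mul_le_mul_of_nonneg_right (by nlinarith) (by linarith)
      nlinarith

theorem uni_core {q d nb i j : ℤ} (hq : 22 ≤ q) (hd : d = 1 ∨ d = 3) (hn : d * nb = q ^ 2 - q + 1)
    (hj : 1 ≤ j) (hij : j ≤ i)
    (h : 3 * (j * nb + 1) * (i * nb + 1) = q ^ 3 * (q + 1) ^ 2 * (q - 1)) :
    d = 3 ∧ (200 ≤ q → j ≤ 67 ∧ q < 2600) := by
  have hnb : 0 < nb := by rcases hd with rfl | rfl <;> nlinarith
  obtain ⟨t, e1, e2⟩ := equations (Q := -q) hnb (by rw [hn]; ring) (by rw [h]; ring)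
  have ht : 1 ≤ t := by
    by_contra hc
    push Not at hc
    have : t * nb ≤ 0 := mul_nonpos_of_nonpos_of_nonneg (by linarith) hnb.le
    rcases hd with rfl | rfl <;> linarith
  have key : t * j * (q ^ 2 - q + 1) + t * d =
      d ^ 3 * ((q + 1) * (q + 2)) + j * d ^ 2 * (4 * q + 5) + 3 * d * j ^ 2 := by
    linear_combination (j * d * (-1)) * e1 + d * e2 - (t * j) * hn
  have h6 : j * (nb - d * (4 * q + 5)) < 2 * d ^ 2 * ((q + 1) * (q + 2)) := by
    have a1 : j * (nb - d * (4 * q + 5)) ≤ j * (6 * i) :=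
      mul_le_mul_of_nonneg_left (by nlinarith) (by linarith)
    nlinarith
  rcases hd with rfl | rfl
  · exfalso
    have hj2 : j ≤ 2 := by
      by_contra hc
      push Not at hc
      have := mul_le_mul_of_nonneg_right (show (3 : ℤ) ≤ j by linarith)
        (show (0 : ℤ) ≤ nb - 1 * (4 * q + 5) by nlinarith)
      nlinarith
    obtain rfl | rfl : j = 1 ∨ j = 2 := by omega
    · rcases eq_or_lt_of_le ht with rfl | ht2
      · nlinarith
      · nlinarith [mul_le_mul_of_nonneg_right (show (2 : ℤ) ≤ t by linarith)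
          (show (0 : ℤ) ≤ q ^ 2 - q + 1 by nlinarith)]
    · nlinarith [mul_le_mul_of_nonneg_right (show (2 : ℤ) ≤ t * 2 by linarith)
          (show (0 : ℤ) ≤ q ^ 2 - q + 1 by nlinarith)]
  · refine ⟨rfl, fun hq2 => ?_⟩
    have hj67 : j ≤ 67 := by
      by_contra hc
      push Not at hc
      have := mul_le_mul_of_nonneg_right (show (68 : ℤ) ≤ j by linarith)
        (show (0 : ℤ) ≤ nb - 3 * (4 * q + 5) by nlinarith)
      nlinarith
    refine ⟨hj67, ?_⟩
    have htj : 28 ≤ t * j := by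
      by_contra hc
      push Not at hc
      have a1 := mul_le_mul_of_nonneg_right (show t * j ≤ 27 by linarith)
        (show (0 : ℤ) ≤ q ^ 2 - q + 1 by nlinarith)
      have a2 : t ≤ t * j := le_mul_of_one_le_right (by linarith) hj
      nlinarith
    by_contra hc
    push Not at hc
    have a1 := mul_le_mul_of_nonneg_right htj (show (0 : ℤ) ≤ q ^ 2 - q + 1 by nlinarith)
    have a2 : j * q ≤ 67 * q := mul_le_mul_of_nonneg_right hj67 (by linarith)
    nlinarith

/-- The factor congruent to one below the square root is at most `3q + 5`. -/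
theorem j_bound {q d nb j k : ℕ} (hd : d ≤ 3) (hk : k = j * nb + 1) (hn : q * q ≤ d * nb + q)
    (hq : 2 ≤ q) (hkk : 3 * k * k ≤ q ^ 3 * (q + 1) ^ 2 * (q - 1)) : j < 3 * q + 5 := by
  by_contra hc
  push Not at hc
  have h1 : 3 * (j * nb) ≥ (3 * q + 5) * (q * q - q) := by
    have : q * q - q ≤ 3 * nb := by
      have := Nat.mul_le_mul_right nb hd
      omega
    calc (3 * q + 5) * (q * q - q) ≤ j * (3 * nb) := Nat.mul_le_mul hc this
      _ = 3 * (j * nb) := by ring
  obtain ⟨r, rfl⟩ : ∃ r, q = r + 2 := ⟨q - 2, by omega⟩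
  have e : (r + 2) * (r + 2) - (r + 2) = r * r + 3 * r + 2 :=
    Nat.sub_eq_of_eq_add (by ring)
  rw [e] at h1
  have e2 : r + 2 - 1 = r + 1 := rfl
  rw [e2] at hkk
  have h3 : (3 * r + 11) * (r * r + 3 * r + 2) + 3 ≤ 3 * k := by rw [hk]; linarith
  have h4 := Nat.mul_le_mul h3 h3
  nlinarith

/-- The cofactor is congruent to one as well. -/
theorem cofactor_mod {nb k m R : ℕ} (hnb : 2 ≤ nb) (h3 : Nat.Coprime nb 3) (hk : k % nb = 1)
    (h : (3 * k * m : ℤ) = nb * (R : ℤ) + 3 ∨ ((3 * k * m : ℤ) + nb * (R : ℤ) = 3)) : m % nb = 1 := by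
  have hk1 : (k : ℤ) ≡ 1 [ZMOD nb] := by
    rw [Int.ModEq, show ((k : ℤ) % nb) = ((k % nb : ℕ) : ℤ) by push_cast; ring, hk]
    rw [Int.emod_eq_of_lt (by norm_num) (by exact_mod_cast hnb)]; norm_num
  have h1 : (3 * 1 * m : ℤ) ≡ 3 * 1 * 1 [ZMOD nb] := by
    refine ((Int.ModEq.mul_left 3 hk1.symm).mul_right _).trans ?_
    rw [Int.modEq_iff_dvd]
    rcases h with h | h
    · exact ⟨-(R : ℤ), by linear_combination (-1) * h⟩
    · exact ⟨(R : ℤ), by linear_combination (-1) * h⟩
  have h2 : 3 * m ≡ 3 * 1 [MOD nb] := by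
    rw [← Int.natCast_modEq_iff]; simpa using h1
  have h4 : m ≡ 1 [MOD nb] := Nat.ModEq.cancel_left_of_coprime h3 h2
  rw [Nat.ModEq, Nat.mod_eq_of_lt hnb] at h4
  exact h4

theorem lin_aux {q d nb i j : ℕ} (hq : 2 ≤ q) (h4 : q ≠ 4) (h10 : q ≠ 10)
    (hd : d = if q % 3 = 1 then 3 else 1) (hn : d * nb = q * q + q + 1) (hj : 1 ≤ j) (hij : j ≤ i)
    (h : 3 * (j * nb + 1) * (i * nb + 1) = q ^ 3 * (q - 1) ^ 2 * (q + 1)) :
    j * nb + 1 = q ^ 3 ∨ i * nb + 1 = q ^ 3 ∨ i * nb + 1 = 1 := by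
  have hk0 : 0 < j * nb + 1 := by omega
  have hmod := dvd_check h
  have fin : j * nb + 1 = q ^ 3 ∨ 3 * (j * nb + 1) * q ^ 3 = q ^ 3 * (q - 1) ^ 2 * (q + 1) ∨
      3 * (j * nb + 1) = q ^ 3 * (q - 1) ^ 2 * (q + 1) →
      j * nb + 1 = q ^ 3 ∨ i * nb + 1 = q ^ 3 ∨ i * nb + 1 = 1 := by
    rintro (e | e | e)
    · exact Or.inl e
    · exact Or.inr (Or.inl (Nat.eq_of_mul_eq_mul_left (by omega) (h.trans e.symm)))
    · exact Or.inr (Or.inr (Nat.eq_of_mul_eq_mul_left (show 0 < 3 * (j * nb + 1) by omega)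
        (by rw [mul_one]; exact h.trans e.symm)))
  have hd3 : d = 1 ∨ d = 3 := by rw [hd]; split_ifs <;> simp
  have hnb : nb = (q * q + q + 1) / d := by
    rw [← hn, Nat.mul_div_cancel_left _ (by omega)]
  rcases lt_or_ge q 34 with hs | hs
  · have hjb : j < 3 * q + 3 := by
      by_contra hc
      push Not at hc
      obtain ⟨r, rfl⟩ : ∃ r, q = r + 2 := ⟨q - 2, by omega⟩
      rw [show r + 2 - 1 = r + 1 from rfl] at h
      have h1 : (3 * r + 9) * ((r + 2) * (r + 2) + (r + 2) + 1) + 3 ≤ 3 * (j * nb + 1) := by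
        have hb : (r + 2) * (r + 2) + (r + 2) + 1 ≤ 3 * nb := by rcases hd3 with e | e <;> subst e <;> omega
        have := Nat.mul_le_mul hc hb
        nlinarith
      have h2 : 3 * (j * nb + 1) ≤ 3 * (i * nb + 1) :=
        Nat.mul_le_mul_left 3 (Nat.add_le_add_right (Nat.mul_le_mul_right nb hij) 1)
      have h3 := Nat.mul_le_mul h1 (h1.trans h2)
      nlinarith
    have := List.all_eq_true.mp check_lin_small q (List.mem_range.mpr hs)
    simp only [Bool.or_eq_true, beq_iff_eq, decide_eq_true_eq] at this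
    rcases this with ((e | e) | e) | hall
    · omega
    · omega
    · omega
    have hj' := List.all_eq_true.mp hall (j - 1) (List.mem_range.mpr (by
      by_contra hc
      have : j = 3 * q + 2 + 1 := by omega
      omega))
    rw [Nat.sub_add_cancel hj, ← hd, ← hnb] at hj'
    simp only [Bool.or_eq_true, beq_iff_eq, bne_iff_ne, ne_eq, hmod, not_true_eq_false, false_or] at hj'
    rcases hj' with (e | e) | e
    · exact fin (Or.inl e)
    · exact fin (Or.inr (Or.inl e))
    · exact fin (Or.inr (Or.inr e))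
  · have hZ : 3 * ((j : ℤ) * nb + 1) * ((i : ℤ) * nb + 1) = (q : ℤ) ^ 3 * ((q : ℤ) - 1) ^ 2 * ((q : ℤ) + 1) := by
      have := congrArg (Nat.cast : ℕ → ℤ) h
      push_cast [Nat.cast_sub (show 1 ≤ q by omega)] at this
      exact this
    have hnZ : (d : ℤ) * nb = (q : ℤ) ^ 2 + q + 1 := by rw [sq]; exact_mod_cast hn
    rcases lin_core (d := (d : ℤ)) (by exact_mod_cast hs) (by exact_mod_cast hd3) hnZ
      (by exact_mod_cast hj) (by exact_mod_cast hij) hZ with (e | e) | ⟨e1, e2, e3⟩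
    · exact Or.inl (by exact_mod_cast e)
    · exact Or.inr (Or.inl (by exact_mod_cast e))
    have e1' : d = 3 := by exact_mod_cast e1
    have e2' : j ≤ 26 := by exact_mod_cast e2
    have e3' : q ≤ 1043 := by exact_mod_cast e3
    have hq3 : q % 3 = 1 := by
      by_contra hc
      rw [if_neg hc] at hd; omega
    have := List.all_eq_true.mp check_lin_large q (List.mem_range.mpr (by omega))
    simp only [Bool.or_eq_true, bne_iff_ne, ne_eq, hq3, not_true_eq_false, false_or, decide_eq_true_eq] at this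
    rcases this with e | hall
    · omega
    have hj' := List.all_eq_true.mp hall (j - 1) (List.mem_range.mpr (by omega))
    subst e1'
    rw [Nat.sub_add_cancel hj, ← hnb] at hj'
    simp only [Bool.or_eq_true, beq_iff_eq, bne_iff_ne, ne_eq, hmod, not_true_eq_false, false_or] at hj'
    rcases hj' with e | e
    · exact fin (Or.inl e)
    · exact fin (Or.inr (Or.inl e))

theorem exists_mul_add_one {nb k : ℕ} (hk : k % nb = 1) : ∃ j, k = j * nb + 1 :=
  ⟨k / nb, by rw [← hk]; exact (Nat.div_add_mod' k nb).symm⟩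

/-- The possible factorisations in the linear case. -/
theorem lin_cases {q d nb k m : ℕ} (hq : 2 ≤ q) (h4 : q ≠ 4) (h10 : q ≠ 10)
    (hd : d = if q % 3 = 1 then 3 else 1) (hn : d * nb = q * q + q + 1)
    (hk : k % nb = 1) (hm : m % nb = 1) (h : 3 * k * m = q ^ 3 * (q - 1) ^ 2 * (q + 1)) :
    k = 1 ∨ m = 1 ∨ k = q ^ 3 ∨ m = q ^ 3 := by
  obtain ⟨j, rfl⟩ := exists_mul_add_one hk
  obtain ⟨i, rfl⟩ := exists_mul_add_one hm
  rcases Nat.eq_zero_or_pos j with rfl | hj
  · simp
  rcases Nat.eq_zero_or_pos i with rfl | hi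
  · simp
  rcases le_total j i with hij | hij
  · rcases lin_aux hq h4 h10 hd hn hj hij h with e | e | e <;> simp [e]
  · rcases lin_aux hq h4 h10 hd hn hi hij (by rw [← h]; ring) with e | e | e <;> simp [e]

theorem uni_aux {q d nb i j : ℕ} (hq : 4 ≤ q) (h5 : q ≠ 5) (h6 : q ≠ 6) (h14 : q ≠ 14) (h35 : q ≠ 35)
    (hd : d = if q % 3 = 2 then 3 else 1) (hn : d * nb + q = q * q + 1) (hj : 1 ≤ j) (hij : j ≤ i)
    (h : 3 * (j * nb + 1) * (i * nb + 1) = q ^ 3 * (q + 1) ^ 2 * (q - 1)) :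
    (q = 4 ∧ j * nb + 1 = 40) ∨ (q = 8 ∧ (j * nb + 1 = 96 ∨ j * nb + 1 = 1008)) := by
  have hmod := dvd_check h
  have hd3 : d = 1 ∨ d = 3 := by rw [hd]; split_ifs <;> simp
  have hjb : j < 3 * q + 5 := by
    refine j_bound (d := d) (k := j * nb + 1) (by omega) rfl (by omega) (by omega) ?_
    rw [← h]
    exact Nat.mul_le_mul_left _ (Nat.add_le_add_right (Nat.mul_le_mul_right nb hij) 1)
  have hnb : nb = (q * q + 1 - q) / d := by
    rw [show q * q + 1 - q = d * nb by omega, Nat.mul_div_cancel_left _ (by omega)]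
  have hZ : 3 * ((j : ℤ) * nb + 1) * ((i : ℤ) * nb + 1) = (q : ℤ) ^ 3 * ((q : ℤ) + 1) ^ 2 * ((q : ℤ) - 1) := by
    have := congrArg (Nat.cast : ℕ → ℤ) h
    push_cast [Nat.cast_sub (show 1 ≤ q by omega)] at this
    exact this
  have hnZ : (d : ℤ) * nb = (q : ℤ) ^ 2 - q + 1 := by
    have : (d : ℤ) * nb + q = q * q + 1 := by exact_mod_cast hn
    linarith
  have core : 22 ≤ q → d = 3 ∧ (200 ≤ q → j ≤ 67 ∧ q < 2600) := fun hs => by
    obtain ⟨e1, e2⟩ := uni_core (d := (d : ℤ)) (by exact_mod_cast hs) (by exact_mod_cast hd3) hnZ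
      (by exact_mod_cast hj) (by exact_mod_cast hij) hZ
    refine ⟨by exact_mod_cast e1, fun h2 => ?_⟩
    obtain ⟨a, b⟩ := e2 (by exact_mod_cast h2)
    exact ⟨by exact_mod_cast a, by exact_mod_cast b⟩
  by_cases hq3 : q % 3 = 2
  · rw [if_pos hq3] at hd
    subst hd
    have hq2 : q < 2600 ∧ (200 ≤ q → j ≤ 67) := by
      rcases lt_or_ge q 200 with h2 | h2
      · exact ⟨by omega, fun h' => absurd h' (by omega)⟩
      · exact ⟨((core (by omega)).2 h2).2, fun _ => ((core (by omega)).2 h2).1⟩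
    have := List.all_eq_true.mp check_uni_three q (List.mem_range.mpr hq2.1)
    simp only [Bool.or_eq_true, bne_iff_ne, ne_eq, hq3, not_true_eq_false, false_or, decide_eq_true_eq,
      beq_iff_eq] at this
    rcases this with ((e | e) | e) | hall
    · omega
    · omega
    · omega
    have hj' := List.all_eq_true.mp hall (j - 1) (List.mem_range.mpr (by
      split_ifs with h2
      · omega
      · have := hq2.2 (by omega); omega))
    rw [Nat.sub_add_cancel hj, ← hnb] at hj'
    simp only [Bool.or_eq_true, Bool.and_eq_true, beq_iff_eq, bne_iff_ne, ne_eq, hmod, not_true_eq_false,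
      false_or] at hj'
    exact Or.inr hj'
  · rw [if_neg hq3] at hd
    subst hd
    have hs : q < 22 := by
      by_contra hc
      have := (core (by omega)).1
      omega
    rw [Nat.div_one] at hnb
    have := List.all_eq_true.mp check_uni_one q (List.mem_range.mpr hs)
    simp only [Bool.or_eq_true, decide_eq_true_eq, beq_iff_eq] at this
    rcases this with (((e | e) | e) | e) | hall
    · omega
    · omega
    · omega
    · omega
    have hj' := List.all_eq_true.mp hall (j - 1) (List.mem_range.mpr (by omega))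
    rw [Nat.sub_add_cancel hj, ← hnb] at hj'
    simp only [Bool.or_eq_true, Bool.and_eq_true, beq_iff_eq, bne_iff_ne, ne_eq, hmod, not_true_eq_false,
      false_or] at hj'
    exact Or.inl hj'

/-- The possible factorisations in the unitary case. -/
theorem uni_cases {q d nb k m : ℕ} (hq : 4 ≤ q) (h5 : q ≠ 5) (hpp : IsPrimePow q)
    (hd : d = if q % 3 = 2 then 3 else 1) (hn : d * nb + q = q * q + 1)
    (hk : k % nb = 1) (hm : m % nb = 1) (h : 3 * k * m = q ^ 3 * (q + 1) ^ 2 * (q - 1)) :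
    k = 1 ∨ m = 1 ∨ (q = 4 ∧ k = 40) ∨ (q = 8 ∧ (k = 96 ∨ k = 1008)) := by
  have hne : ∀ a b : ℕ, a.Prime → b.Prime → a ≠ b → a ∣ q → b ∣ q → False := fun a b ha hb hab h1 h2 =>
    hab ((isPrimePow_iff_unique_prime_dvd.mp hpp).unique ⟨ha, h1⟩ ⟨hb, h2⟩)
  have h6 : q ≠ 6 := fun e => hne 2 3 (by norm_num) (by norm_num) (by norm_num) ⟨3, e⟩ ⟨2, e⟩
  have h14 : q ≠ 14 := fun e => hne 2 7 (by norm_num) (by norm_num) (by norm_num) ⟨7, e⟩ ⟨2, e⟩
  have h35 : q ≠ 35 := fun e => hne 5 7 (by norm_num) (by norm_num) (by norm_num) ⟨7, e⟩ ⟨5, e⟩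
  obtain ⟨j, rfl⟩ := exists_mul_add_one hk
  obtain ⟨i, rfl⟩ := exists_mul_add_one hm
  rcases Nat.eq_zero_or_pos j with rfl | hj
  · simp
  rcases Nat.eq_zero_or_pos i with rfl | hi
  · simp
  right; right
  rcases le_total j i with hij | hij
  · exact uni_aux hq h5 h6 h14 h35 hd hn hj hij h
  · rcases uni_aux hq h5 h6 h14 h35 hd hn hi hij (by rw [← h]; ring) with ⟨rfl, e⟩ | ⟨rfl, e | e⟩
    · rw [e] at h; norm_num at h; left; exact ⟨rfl, by omega⟩
    · rw [e] at h; norm_num at h; right; exact ⟨rfl, by omega⟩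
    · rw [e] at h; norm_num at h; right; exact ⟨rfl, by omega⟩

end CfsgLib.ThreeMax.Arith
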