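import Mathlib
import Cfsg.Agent.Lib.Derange.SingerField
import Cfsg.Prelude.Def_GeometricClasses

/-!
A field of `3 × 3` matrices of degree three over a finite field: its units, its normaliser and their orders.
-/

set_option autoImplicit false
set_option linter.style.haveILetI false
set_option maxHeartbeats 1000000

namespace CfsgLib.ThreeMax

open Module Matrix
open Cfsg.Geo (IsFieldSubalgebra subalgebraNormalizer specialLinear scalars)
open CfsgLib.Derange (isField_sub exists_regular)
open scoped MatrixGroups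

universe u

variable {F : Type u} [Field F] [Fintype F] {K : Subalgebra F (Matrix (Fin 3) (Fin 3) F)}

/-- The units of the subalgebra, inside `GL`. -/
def unitsK (K : Subalgebra F (Matrix (Fin 3) (Fin 3) F)) : Subgroup (GL (Fin 3) F) :=
  (Units.map (K.val.toRingHom : K →* Matrix (Fin 3) (Fin 3) F)).range

omit [Fintype F] in
theorem val_mem {g : GL (Fin 3) F} (h : g ∈ unitsK K) : (g : Matrix (Fin 3) (Fin 3) F) ∈ K := by
  obtain ⟨k, rfl⟩ := h
  exact (k : K).2

theorem mem_unitsK (hK : IsFieldSubalgebra 3 K) {g : GL (Fin 3) F} :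
    g ∈ unitsK K ↔ (g : Matrix (Fin 3) (Fin 3) F) ∈ K := by
  refine ⟨val_mem, fun h => ?_⟩
  letI := (isField_sub (by norm_num) hK).toField
  have h0 : (⟨_, h⟩ : K) ≠ 0 := fun e => g.ne_zero (congrArg Subtype.val e)
  exact ⟨Units.mk0 _ h0, Units.ext rfl⟩

omit [Fintype F] in
theorem comm_units {a b : GL (Fin 3) F} (hK : IsFieldSubalgebra 3 K) (ha : a ∈ unitsK K) (hb : b ∈ unitsK K) :
    a * b = b * a :=
  Units.ext (hK.comm _ (val_mem ha) _ (val_mem hb))

/-- A matrix commuting with the field lies in it. -/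
theorem mem_of_comm (hK : IsFieldSubalgebra 3 K) {M : Matrix (Fin 3) (Fin 3) F}
    (h : ∀ k ∈ K, M * k = k * M) : M ∈ K := by
  haveI : Nonempty (Fin 3) := ⟨0⟩
  obtain ⟨Φ, hΦ⟩ := exists_regular (by norm_num) hK (e := Pi.single (0 : Fin 3) 1) (by simp)
  obtain ⟨a, ha⟩ := Φ.surjective (M *ᵥ Pi.single (0 : Fin 3) 1)
  have : M = a.1 := by
    refine Matrix.toLin'.injective (LinearMap.ext fun v => ?_)
    obtain ⟨k, rfl⟩ := Φ.surjective v
    rw [hΦ, Matrix.toLin'_apply, Matrix.toLin'_apply, Matrix.mulVec_mulVec, h k.1 k.2,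
      ← Matrix.mulVec_mulVec, ← ha, hΦ, Matrix.mulVec_mulVec, Matrix.mulVec_mulVec,
      hK.comm a.1 a.2 k.1 k.2]
  exact this ▸ a.2

omit [Fintype F] in
theorem units_le_normalizer (hK : IsFieldSubalgebra 3 K) : unitsK K ≤ subalgebraNormalizer K := by
  intro g hg
  have hi := val_mem (inv_mem hg)
  intro k
  constructor
  · intro hk
    exact K.mul_mem (K.mul_mem (val_mem hg) hk) hi
  · intro hk
    have h2 := K.mul_mem (K.mul_mem hi hk) (val_mem hg)
    simpa [mul_assoc, ← Units.val_mul] using h2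

/-- The scalars lie in the field. -/
theorem scalars_le (hK : IsFieldSubalgebra 3 K) : scalars (Fin 3) F ≤ unitsK K := by
  intro g hg
  obtain ⟨c, hc⟩ := (Cfsg.Geo.mem_scalars_iff g).mp hg
  rw [mem_unitsK hK, hc]
  exact K.smul_mem K.one_mem _

/-- The field is generated by each of its non-scalar elements. -/
theorem le_of_mem (hK : IsFieldSubalgebra 3 K) (S : Subalgebra F (Matrix (Fin 3) (Fin 3) F))
    {t : Matrix (Fin 3) (Fin 3) F} (ht : t ∈ K) (hts : ∀ c : F, t ≠ c • 1) (htS : t ∈ S) : K ≤ S := by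
  haveI : Nonempty (Fin 3) := ⟨0⟩
  letI := (isField_sub (by norm_num) hK).toField
  haveI : FiniteDimensional F K := Module.finite_of_finrank_pos (by rw [hK.finrank_eq]; norm_num)
  set k : K := ⟨t, ht⟩
  have hint : IsIntegral F k := IsIntegral.of_finite F k
  have hdeg : (minpoly F k).natDegree = 3 := by
    rcases Nat.prime_three.eq_one_or_self_of_dvd _
        ((minpoly.degree_dvd hint).trans (dvd_of_eq hK.finrank_eq)) with h | h
    · exfalso
      obtain ⟨a, ha⟩ := minpoly.natDegree_eq_one_iff.mp h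
      refine hts a ?_
      have := congrArg Subtype.val ha
      rw [show t = (k : Matrix (Fin 3) (Fin 3) F) from rfl, ← this]
      exact Algebra.algebraMap_eq_smul_one a
    · exact h
  have hspan : Submodule.span F (Set.range fun i : Fin (minpoly F k).natDegree => k ^ (i : ℕ)) = ⊤ :=
    (linearIndependent_pow k).span_eq_top_of_card_eq_finrank'
      (by rw [Fintype.card_fin, hdeg, hK.finrank_eq])
  intro x hx
  have ha : (⟨x, hx⟩ : K) ∈ (S.comap K.val).toSubmodule :=
    (Submodule.span_le.mpr (by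
      rintro _ ⟨i, rfl⟩
      show ((k ^ (i : ℕ) : K) : Matrix (Fin 3) (Fin 3) F) ∈ S
      exact S.pow_mem htS _)) (hspan ▸ Submodule.mem_top)
  exact ha

/-- Conjugation maps the field to itself as soon as it maps one non-scalar element into it. -/
theorem mem_normalizer_of_conj (hK : IsFieldSubalgebra 3 K) {t g : GL (Fin 3) F} (ht : t ∈ unitsK K)
    (hts : ∀ c : F, (t : Matrix (Fin 3) (Fin 3) F) ≠ c • 1) (hg : g * t * g⁻¹ ∈ unitsK K) :
    g ∈ subalgebraNormalizer K := by
  haveI : Nonempty (Fin 3) := ⟨0⟩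
  let c : Matrix (Fin 3) (Fin 3) F →ₐ[F] Matrix (Fin 3) (Fin 3) F :=
    { toFun := fun x => (g : Matrix (Fin 3) (Fin 3) F) * x * ((g⁻¹ : GL (Fin 3) F) : Matrix (Fin 3) (Fin 3) F)
      map_one' := by simp
      map_mul' := fun x y => by simp [mul_assoc]
      map_zero' := by simp
      map_add' := fun x y => by rw [mul_add, add_mul]
      commutes' := fun r => by
        rw [Algebra.algebraMap_eq_smul_one, mul_smul_comm, smul_mul_assoc, mul_one, Units.mul_inv] }
  have htc : (t : Matrix (Fin 3) (Fin 3) F) ∈ K.comap c := by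
    show (g : Matrix (Fin 3) (Fin 3) F) * t * _ ∈ K
    have := val_mem hg
    simpa only [Units.val_mul] using this
  have hle : K ≤ K.comap c := le_of_mem hK _ (val_mem ht) hts htc
  intro k
  refine ⟨fun hk => hle hk, fun hk => ?_⟩
  haveI : Finite K := Finite.of_injective Subtype.val Subtype.val_injective
  let f : K → K := fun x => ⟨c x.1, hle x.2⟩
  have hinj : Function.Injective c := fun x y e => by
    have e2 := congrArg (fun z => ((g⁻¹ : GL (Fin 3) F) : Matrix (Fin 3) (Fin 3) F) * z * (g : Matrix (Fin 3) (Fin 3) F)) e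
    simpa [c, mul_assoc] using e2
  obtain ⟨x, hx⟩ := (Finite.injective_iff_surjective.mp
    (fun (x y : K) e => Subtype.ext (hinj (congrArg Subtype.val e)) : Function.Injective f)) ⟨_, hk⟩
  have := hinj (congrArg Subtype.val hx : c x.1 = c k)
  exact this ▸ x.2

theorem card_field (hK : IsFieldSubalgebra 3 K) : Nat.card K = Fintype.card F ^ 3 := by
  rw [Module.natCard_eq_pow_finrank (K := F), hK.finrank_eq, Nat.card_eq_fintype_card]

theorem card_unitsK (hK : IsFieldSubalgebra 3 K) :
    Nat.card (unitsK K) = Fintype.card F ^ 3 - 1 := by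
  letI := (isField_sub (by norm_num) hK).toField
  haveI : Finite K := Finite.of_injective Subtype.val Subtype.val_injective
  haveI := Fintype.ofFinite K
  have hinj : Function.Injective (Units.map (K.val.toRingHom : K →* Matrix (Fin 3) (Fin 3) F)) :=
    Units.map_injective Subtype.val_injective
  have e : Nat.card (unitsK K) = Nat.card Kˣ :=
    (Nat.card_congr (MonoidHom.ofInjective hinj).toEquiv).symm
  rw [e, Nat.card_units, card_field hK]

/-- Every non-zero scalar is a determinant of a unit of the field. -/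
theorem exists_det (hK : IsFieldSubalgebra 3 K) (c : Fˣ) :
    ∃ g ∈ unitsK K, Matrix.GeneralLinearGroup.det g = c := by
  haveI : Nonempty (Fin 3) := ⟨0⟩
  letI := (isField_sub (by norm_num) hK).toField
  haveI : Finite K := Finite.of_injective Subtype.val Subtype.val_injective
  obtain ⟨Φ, hΦ⟩ := exists_regular (by norm_num) hK (e := Pi.single (0 : Fin 3) 1) (by simp)
  obtain ⟨k, hk⟩ := FiniteField.norm_surjective F K (c : F)
  have hdet : k.1.det = (c : F) := by
    rw [← hk, Algebra.norm_apply, ← LinearMap.det_toLin', ← LinearMap.det_conj (Algebra.lmul F K k) Φ]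
    congr 1
    refine LinearMap.ext fun v => ?_
    obtain ⟨a, rfl⟩ := Φ.surjective v
    simp only [Matrix.toLin'_apply, LinearMap.coe_comp, LinearEquiv.coe_coe, Function.comp_apply,
      LinearEquiv.symm_apply_apply, Algebra.coe_lmul_eq_mul, LinearMap.mul_apply']
    rw [hΦ, hΦ, Matrix.mulVec_mulVec]
    rfl
  refine ⟨Matrix.GeneralLinearGroup.mkOfDetNeZero k.1 (hdet ▸ c.ne_zero), ?_, Units.ext hdet⟩
  rw [mem_unitsK hK]
  exact k.2

/-- The normaliser induces the whole Galois group of the field, with kernel the units. -/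
theorem card_normalizer (hK : IsFieldSubalgebra 3 K) :
    Nat.card (subalgebraNormalizer K) = 3 * (Fintype.card F ^ 3 - 1) ∧
      ∀ g ∈ subalgebraNormalizer K, g ^ 3 ∈ unitsK K := by
  classical
  haveI : Nonempty (Fin 3) := ⟨0⟩
  letI := (isField_sub (by norm_num) hK).toField
  haveI : Finite K := Finite.of_injective Subtype.val Subtype.val_injective
  haveI : FiniteDimensional F K := Module.finite_of_finrank_pos (by rw [hK.finrank_eq]; norm_num)
  obtain ⟨Φ, hΦ⟩ := exists_regular (by norm_num) hK (e := Pi.single (0 : Fin 3) 1) (by simp)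
  let aut : ∀ g : subalgebraNormalizer K, K →ₐ[F] K := fun g =>
    { toFun := fun x => ⟨(g.1 : Matrix (Fin 3) (Fin 3) F) * x.1 *
        ((g.1⁻¹ : GL (Fin 3) F) : Matrix (Fin 3) (Fin 3) F), (g.2 x.1).mp x.2⟩
      map_one' := Subtype.ext (by simp)
      map_mul' := fun x y => Subtype.ext (by simp [mul_assoc])
      map_zero' := Subtype.ext (by simp)
      map_add' := fun x y => Subtype.ext (by simp [mul_add, add_mul])
      commutes' := fun r => Subtype.ext (by simp [Algebra.algebraMap_eq_smul_one]) }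
  let ψ : subalgebraNormalizer K →* (K ≃ₐ[F] K) :=
    MonoidHom.mk' (fun g => AlgEquiv.ofBijective (aut g)
        (Finite.injective_iff_bijective.mp (aut g).toRingHom.injective))
      (fun a b => AlgEquiv.ext fun x => Subtype.ext (by
        simp [aut, mul_assoc, AlgEquiv.mul_apply, Matrix.mul_inv_rev]))
  have hker : ψ.ker = (unitsK K).subgroupOf (subalgebraNormalizer K) := by
    ext g
    rw [MonoidHom.mem_ker, Subgroup.mem_subgroupOf, mem_unitsK hK]
    constructor
    · intro h
      refine mem_of_comm hK fun k hk => ?_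
      have h0 : ψ g (⟨k, hk⟩ : K) = ⟨k, hk⟩ := by rw [h]; rfl
      have h1 : (g.1 : Matrix (Fin 3) (Fin 3) F) * k * ((g.1⁻¹ : GL (Fin 3) F) : Matrix (Fin 3) (Fin 3) F) = k :=
        congrArg Subtype.val h0
      conv_rhs => rw [← h1]
      rw [mul_assoc, Units.inv_mul, mul_one]
    · intro h
      refine AlgEquiv.ext fun x => Subtype.ext ?_
      show (g.1 : Matrix (Fin 3) (Fin 3) F) * x.1 * _ = x.1
      rw [hK.comm _ h _ x.2, mul_assoc, Units.mul_inv, mul_one]
  have hsurj : Function.Surjective ψ := by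
    intro σ
    let G : Module.End F (Fin 3 → F) := Φ.conj σ.toLinearMap
    let G' : Module.End F (Fin 3 → F) := Φ.conj σ.symm.toLinearMap
    have hGa : ∀ a : K, G (Φ a) = Φ (σ a) := fun a => by simp [G, LinearEquiv.conj_apply]
    have hGa' : ∀ a : K, G' (Φ a) = Φ (σ.symm a) := fun a => by simp [G', LinearEquiv.conj_apply]
    have h1 : LinearMap.toMatrix' G * LinearMap.toMatrix' G' = 1 := by
      rw [← LinearMap.toMatrix'_comp, ← LinearMap.toMatrix'_id]
      congr 1
      refine LinearMap.ext fun v => ?_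
      obtain ⟨a, rfl⟩ := Φ.surjective v
      simp [hGa, hGa']
    have h2 : LinearMap.toMatrix' G' * LinearMap.toMatrix' G = 1 := mul_eq_one_comm.mp h1
    let g : GL (Fin 3) F := ⟨LinearMap.toMatrix' G, LinearMap.toMatrix' G', h1, h2⟩
    have hkey : ∀ k : K, LinearMap.toMatrix' G * k.1 = (σ k).1 * LinearMap.toMatrix' G := by
      intro k
      refine Matrix.toLin'.injective (LinearMap.ext fun v => ?_)
      obtain ⟨a, rfl⟩ := Φ.surjective v
      have hh : ∀ a b : K, a.1 *ᵥ Φ b = Φ (a * b) := fun a b => by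
        rw [hΦ, hΦ, Matrix.mulVec_mulVec]; rfl
      rw [Matrix.toLin'_mul, Matrix.toLin'_mul, LinearMap.comp_apply, LinearMap.comp_apply,
        Matrix.toLin'_toMatrix', Matrix.toLin'_apply, Matrix.toLin'_apply, hh, hGa, hGa, hh, map_mul]
    have hc : ∀ k : K, (g : Matrix (Fin 3) (Fin 3) F) * k.1 * ((g⁻¹ : GL (Fin 3) F) : Matrix (Fin 3) (Fin 3) F) =
        (σ k).1 := fun k => by
      show LinearMap.toMatrix' G * k.1 * _ = _
      rw [hkey, mul_assoc]
      show (σ k).1 * ((g : Matrix (Fin 3) (Fin 3) F) * _) = _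
      rw [Units.mul_inv, mul_one]
    have hg : g ∈ subalgebraNormalizer K := by
      intro k
      refine ⟨fun hk => ?_, fun hk => ?_⟩
      · exact (hc ⟨k, hk⟩).symm ▸ (σ ⟨k, hk⟩).2
      · obtain ⟨a, ha⟩ := σ.surjective ⟨_, hk⟩
        have e := (hc a).trans (congrArg Subtype.val ha)
        have e' := congrArg (fun x => ((g⁻¹ : GL (Fin 3) F) : Matrix (Fin 3) (Fin 3) F) * x * (g : Matrix (Fin 3) (Fin 3) F)) e
        simp only [mul_assoc, Units.inv_mul, mul_one, ← mul_assoc _ (g : Matrix (Fin 3) (Fin 3) F), one_mul] at e'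
        exact e' ▸ a.2
    exact ⟨⟨g, hg⟩, AlgEquiv.ext fun x => Subtype.ext (hc x)⟩
  haveI : IsGalois F K := GaloisField.instIsGaloisOfFinite
  have hcardAut : Nat.card (K ≃ₐ[F] K) = 3 := by rw [IsGalois.card_aut_eq_finrank, hK.finrank_eq]
  refine ⟨?_, fun g hg => ?_⟩
  · rw [Subgroup.card_eq_card_quotient_mul_card_subgroup ψ.ker,
      Nat.card_congr (QuotientGroup.quotientKerEquivOfSurjective ψ hsurj).toEquiv, hcardAut, hker,
      Nat.card_congr (Subgroup.subgroupOfEquivOfLe (units_le_normalizer hK)).toEquiv, card_unitsK hK]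
  · have h : (⟨g, hg⟩ : subalgebraNormalizer K) ^ 3 ∈ ψ.ker := by
      have h3 : ∀ x : K ≃ₐ[F] K, x ^ Nat.card (K ≃ₐ[F] K) = 1 := fun x => pow_card_eq_one'
      rw [hcardAut] at h3
      rw [MonoidHom.mem_ker, map_pow]
      exact h3 _
    rw [hker, Subgroup.mem_subgroupOf] at h
    simpa using h

end CfsgLib.ThreeMax
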