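import Mathlib

/-!
The number of cosets of a subgroup with a self-centralising normal subgroup is congruent to one
modulo the order of that subgroup.
-/

set_option autoImplicit false
set_option linter.style.haveILetI false

namespace CfsgLib.ThreeMax

/-- If `T` meets its proper conjugates only in the central subgroup `Z`, cubes of `H` lie in `T` and
`[T : Z]` is prime to three, then `[X : H]` is congruent to one modulo `[T : Z]`. -/
theorem relIndex_mod {G : Type*} [Group G] [Finite G] {T Z H X : Subgroup G} (hTH : T ≤ H) (hHX : H ≤ X)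
    (hZT : Z ≤ T) (hZc : ∀ z ∈ Z, ∀ g : G, g * z = z * g) (hcube : ∀ h ∈ H, h ^ 3 ∈ T)
    (hTI : ∀ x ∈ X, ∀ t ∈ T, x⁻¹ * t * x ∈ T → x ∈ H ∨ t ∈ Z) {nb : ℕ} (hnb : Z.relIndex T = nb)
    (h3 : Nat.Coprime nb 3) (hnb2 : 2 ≤ nb) : H.relIndex X % nb = 1 := by
  classical
  have key : ∀ x ∈ X, x ∉ H → ∀ t ∈ T, x⁻¹ * t * x ∈ H → t ∈ Z := by
    intro x hx hxH t ht htx
    have h1 : t ^ 3 ∈ Z := by
      refine (hTI x hx (t ^ 3) (pow_mem ht 3) ?_).resolve_left hxH
      have := hcube _ htx
      rwa [show x⁻¹ * t * x = MulAut.conj x⁻¹ t by simp, ← map_pow, MulAut.conj_apply, inv_inv] at this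
    have h2 : t ^ nb ∈ Z := by
      haveI : (Z.subgroupOf T).Normal := ⟨fun z hz g => by
        rw [Subgroup.mem_subgroupOf] at hz ⊢
        rw [Subgroup.coe_mul, Subgroup.coe_mul, hZc _ hz, mul_assoc, Subgroup.coe_inv, mul_inv_cancel, mul_one]
        exact hz⟩
      have := Subgroup.pow_index_mem (Z.subgroupOf T) (⟨t, ht⟩ : T)
      rw [Subgroup.mem_subgroupOf] at this
      rw [← hnb]
      simpa [Subgroup.relIndex] using this
    have hb := Nat.gcd_eq_gcd_ab nb 3
    rw [h3.gcd_eq_one] at hb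
    rw [← zpow_one t, show (1 : ℤ) = (nb : ℤ) * Nat.gcdA nb 3 + (3 : ℕ) * Nat.gcdB nb 3 by exact_mod_cast hb,
      zpow_add, zpow_mul, zpow_mul, zpow_natCast, zpow_natCast]
    exact mul_mem (zpow_mem h2 _) (zpow_mem h1 _)
  letI : MulAction T (X ⧸ H.subgroupOf X) :=
    MulAction.compHom _ (Subgroup.inclusion (hTH.trans hHX))
  haveI := Fintype.ofFinite (MulAction.orbitRel.Quotient T (X ⧸ H.subgroupOf X))
  let x0 : X ⧸ H.subgroupOf X := ((1 : X) : X ⧸ H.subgroupOf X)
  let ω0 : MulAction.orbitRel.Quotient T (X ⧸ H.subgroupOf X) := Quotient.mk'' x0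
  have hfix : ∀ t : T, t • x0 = x0 := fun t => by
    show ((Subgroup.inclusion (hTH.trans hHX) t * 1 : X) : X ⧸ H.subgroupOf X) = _
    rw [QuotientGroup.eq, Subgroup.mem_subgroupOf, mul_one, mul_one]
    exact inv_mem (hTH t.2)
  have hsize : ∀ ω : MulAction.orbitRel.Quotient T (X ⧸ H.subgroupOf X), ω ≠ ω0 →
      Nat.card (MulAction.orbit T ω.out) = nb := by
    intro ω hω
    obtain ⟨x, hx⟩ := QuotientGroup.mk_surjective ω.out
    have hxH : (x : G) ∉ H := by
      intro h
      apply hω
      rw [← Quotient.out_eq' ω, ← hx]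
      exact congrArg Quotient.mk'' (QuotientGroup.eq.mpr (by rw [mul_one, inv_mem_iff, Subgroup.mem_subgroupOf]; exact h))
    have hst : MulAction.stabilizer T ω.out = Z.subgroupOf T := by
      ext t
      rw [MulAction.mem_stabilizer_iff, Subgroup.mem_subgroupOf, ← hx]
      show ((Subgroup.inclusion (hTH.trans hHX) t * x : X) : X ⧸ H.subgroupOf X) = _ ↔ _
      rw [QuotientGroup.eq, Subgroup.mem_subgroupOf]
      constructor
      · intro h
        have h' := inv_mem h
        refine key _ x.2 hxH _ t.2 ?_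
        simpa [mul_assoc] using h'
      · intro h
        have e : ((x : G))⁻¹ * (t : G)⁻¹ * (x : G) = (t : G)⁻¹ := by
          rw [mul_assoc, ← hZc _ (inv_mem h) (x : G), inv_mul_cancel_left]
        simpa [e] using hTH t.2
    rw [Nat.card_congr (MulAction.orbitEquivQuotientStabilizer T ω.out), hst]
    exact hnb
  have hbase : Nat.card (MulAction.orbit T ω0.out) = 1 := by
    have hm : ω0.out ∈ MulAction.orbit T x0 := by
      rw [← MulAction.orbitRel_apply]
      exact Quotient.exact' (Quotient.out_eq' ω0)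
    obtain ⟨t, ht⟩ := hm
    have e : ω0.out = x0 := by rw [← ht]; exact hfix t
    have hs : MulAction.orbit T ω0.out = {x0} := by
      ext y
      rw [e]
      refine ⟨fun ⟨t, ht⟩ => ht ▸ hfix t, fun hy => ?_⟩
      rw [Set.mem_singleton_iff] at hy
      subst hy
      exact MulAction.mem_orbit_self _
    rw [hs]
    exact Nat.card_unique
  rw [Subgroup.relIndex, Subgroup.index, Nat.card_congr (MulAction.selfEquivSigmaOrbits T (X ⧸ H.subgroupOf X)),
    Nat.card_sigma, ← Finset.add_sum_erase _ _ (Finset.mem_univ ω0), hbase,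
    Finset.sum_congr rfl (fun ω hω => hsize ω (Finset.ne_of_mem_erase hω)), Finset.sum_const, smul_eq_mul,
    Nat.add_mul_mod_self_right, Nat.mod_eq_of_lt hnb2]

theorem card_mul_relIndex {G : Type*} [Group G] {A B : Subgroup G} (h : A ≤ B) :
    Nat.card A * A.relIndex B = Nat.card B := by
  rw [← Subgroup.relIndex_bot_left A, ← Subgroup.relIndex_bot_left B]
  exact Subgroup.relIndex_mul_relIndex _ _ _ bot_le h

/-- A homomorphism onto on a subgroup splits its order. -/
theorem card_inf_ker {G M : Type*} [Group G] [Group M] (A : Subgroup G) (f : G →* M)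
    (h : ∀ c : M, ∃ a ∈ A, f a = c) : Nat.card A = Nat.card M * Nat.card (A ⊓ f.ker : Subgroup G) := by
  have hs : Function.Surjective (f.comp A.subtype) := fun c => by
    obtain ⟨a, ha, e⟩ := h c
    exact ⟨⟨a, ha⟩, e⟩
  rw [Subgroup.card_eq_card_quotient_mul_card_subgroup (f.comp A.subtype).ker,
    Nat.card_congr (QuotientGroup.quotientKerEquivOfSurjective _ hs).toEquiv]
  congr 1
  refine Nat.card_congr (Equiv.subtypeSubtypeEquivSubtypeExists _ _ |>.trans (Equiv.subtypeEquivRight fun g => ?_))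
  simp [Subgroup.mem_inf, MonoidHom.mem_ker]

end CfsgLib.ThreeMax
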