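import Cfsg.Agent.Lib.Classical.ThreeMax.SingerQuot
import Cfsg.Agent.Lib.Classical.ThreeMax.SingerField
import Cfsg.Agent.Lib.Classical.Card

/-!
Subgroups of `SL₃(q)` of order prime to `p` and at least `(q² + q + 1)(q - 1)²(q + 1)`.
-/

set_option autoImplicit false

namespace CfsgLib.ThreeMax

open Matrix
open Cfsg.Geo (IsFieldSubalgebra specialLinear)
open scoped MatrixGroups

variable {F : Type*} [Field F]

/-- The first basis vector. -/
def e0 : Fin 3 → F := ![1, 0, 0]

theorem e0_ne : (e0 : Fin 3 → F) ≠ 0 := fun h => by simpa [e0] using congrFun h 0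

theorem mulVec_e0 (M : Matrix (Fin 3) (Fin 3) F) (i : Fin 3) : (M *ᵥ e0) i = M i 0 := by
  simp [e0, Matrix.mulVec, dotProduct, Fin.sum_univ_three]

theorem det_of_mem {M : Subgroup (GL (Fin 3) F)} (hM : M ≤ specialLinear (Fin 3) F) {g : GL (Fin 3) F}
    (hg : g ∈ M) : g.1.det = 1 := by
  have := congrArg Units.val (MonoidHom.mem_ker.mp (hM hg))
  simpa using this

/-- The stabiliser of the first coordinate line. -/
def ptFix (M : Subgroup (GL (Fin 3) F)) : Subgroup (GL (Fin 3) F) where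
  carrier := {g | g ∈ M ∧ g.1 1 0 = 0 ∧ g.1 2 0 = 0}
  mul_mem' := fun {a b} ⟨ha, ha1, ha2⟩ ⟨hb, hb1, hb2⟩ => ⟨mul_mem ha hb,
    by simp [Units.val_mul, Matrix.mul_apply, Fin.sum_univ_three, ha1, hb1, hb2],
    by simp [Units.val_mul, Matrix.mul_apply, Fin.sum_univ_three, ha2, hb1, hb2]⟩
  one_mem' := ⟨one_mem M, by simp, by simp⟩
  inv_mem' := fun {a} ⟨ha, ha1, ha2⟩ => by
    have h00 : a.1 0 0 ≠ 0 := by
      intro e
      have := ((Matrix.isUnit_iff_isUnit_det a.1).mp a.isUnit).ne_zero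
      rw [Matrix.det_fin_three, e, ha1, ha2] at this
      exact this (by ring)
    refine ⟨inv_mem ha, ?_, ?_⟩ <;>
    · have e : ∀ i, ((a⁻¹ : GL (Fin 3) F).1 * a.1) i 0 = (1 : Matrix (Fin 3) (Fin 3) F) i 0 := fun i => by
        rw [Units.inv_mul]
      have e1 := e 1
      have e2 := e 2
      simp [Matrix.mul_apply, Fin.sum_univ_three, ha1, ha2, h00, -Matrix.coe_units_inv] at e1 e2
      assumption

/-- The action on the quotient by the first coordinate line. -/
def blk (g : Matrix (Fin 3) (Fin 3) F) : Matrix (Fin 2) (Fin 2) F := g.submatrix Fin.succ Fin.succ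

theorem blk_mul (a b : Matrix (Fin 3) (Fin 3) F) (h1 : a 1 0 = 0) (h2 : a 2 0 = 0) :
    blk (a * b) = blk a * blk b := by
  ext i j
  fin_cases i <;> simp [blk, Matrix.mul_apply, Fin.sum_univ_three, Fin.sum_univ_two, h1, h2]

/-- The homomorphism to `GL₂`. -/
def quot (M : Subgroup (GL (Fin 3) F)) : ptFix M →* GL (Fin 2) F :=
  MonoidHom.toHomUnits
    { toFun := fun g => blk g.1.1
      map_one' := by
        show blk (1 : Matrix (Fin 3) (Fin 3) F) = 1
        rw [blk, Matrix.submatrix_one _ (Fin.succ_injective _)]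
      map_mul' := fun a b => blk_mul _ _ a.2.2.1 a.2.2.2 }

theorem det_blk {g : Matrix (Fin 3) (Fin 3) F} (h1 : g 1 0 = 0) (h2 : g 2 0 = 0) :
    g.det = g 0 0 * (blk g).det := by
  rw [Matrix.det_fin_three, Matrix.det_fin_two, h1, h2]
  simp [blk]
  ring

variable [Fintype F] {p : ℕ} [Fact p.Prime] [CharP F p] {M : Subgroup (GL (Fin 3) F)}

theorem eq_one_of_pow {G : Type*} [Group G] {J : Subgroup G} (hp : ¬ p ∣ Nat.card J) {g : G} (hg : g ∈ J)
    (h : g ^ p = 1) : g = 1 := by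
  rcases (Nat.dvd_prime (Fact.out : p.Prime)).mp (orderOf_dvd_of_pow_eq_one h) with e | e
  · exact orderOf_eq_one_iff.mp e
  · exact absurd (e ▸ Subgroup.orderOf_dvd_natCard J hg) hp

theorem eq_one_of_sq (hp : ¬ p ∣ Nat.card M) {g : GL (Fin 3) F} (hg : g ∈ M)
    (h : (g.1 - 1) * (g.1 - 1) = 0) : g = 1 := by
  refine eq_one_of_pow (p := p) hp hg (Units.ext ?_)
  have h2 : (g.1 - 1) ^ p = 0 := pow_eq_zero_of_le (Fact.out : p.Prime).two_le (by rw [pow_two, h])
  rw [sub_pow_char_of_commute (p := p) (h := Commute.one_right g.1), one_pow, sub_eq_zero] at h2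
  rw [Units.val_pow_eq_pow_val, Units.val_one, h2]

/-- A `p'`-subgroup of order at least `(q² + q + 1)(q - 1)²(q + 1)` exists only for `q ≤ 5`, and then some
element fixes a line and is `-1` on the quotient. -/
theorem small_of_card (hM : M ≤ specialLinear (Fin 3) F) (hp : ¬ p ∣ Nat.card M) (hq : 3 ≤ Fintype.card F)
    (hcard : (Fintype.card F * Fintype.card F + Fintype.card F + 1) *
      ((Fintype.card F ^ 2 - 1) * (Fintype.card F - 1)) ≤ Nat.card M) :
    Fintype.card F ≤ 5 ∧ ∃ g ∈ M, ∃ ψ : Fin 3 → F, ψ 0 = 2 ∧ g.1 = -1 + vecMulVec e0 ψ := by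
  classical
  set q := Fintype.card F
  haveI : Finite M := Finite.of_injective Subtype.val Subtype.val_injective
  have hne : ∀ g : GL (Fin 3) F, g.1 *ᵥ e0 ≠ 0 := fun g h => e0_ne
    (Matrix.mulVec_injective_iff_isUnit.mpr g.isUnit (h.trans (Matrix.mulVec_zero _).symm))
  let f : M ⧸ (ptFix M).subgroupOf M → Projectivization F (Fin 3 → F) := fun x => Quotient.liftOn x
    (fun g => Projectivization.mk F (g.1.1 *ᵥ e0) (hne g.1)) fun a b hab => by
      have hk : a⁻¹ * b ∈ (ptFix M).subgroupOf M := QuotientGroup.leftRel_apply.mp hab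
      obtain ⟨-, h1, h2⟩ := Subgroup.mem_subgroupOf.mp hk
      symm
      rw [Projectivization.mk_eq_mk_iff']
      refine ⟨(a.1⁻¹ * b.1).1 0 0, ?_⟩
      have e : (a.1⁻¹ * b.1).1 *ᵥ e0 = (a.1⁻¹ * b.1).1 0 0 • e0 := by
        funext i
        rw [mulVec_e0]
        fin_cases i
        · simp [e0]
        · simpa [e0] using h1
        · simpa [e0] using h2
      have := congrArg (fun z => a.1.1 *ᵥ z) e
      simp only [Matrix.mulVec_mulVec, ← Units.val_mul, mul_inv_cancel_left, Matrix.mulVec_smul] at this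
      exact this.symm
  have hf : Function.Injective f := by
    intro x y
    induction x using QuotientGroup.induction_on with
    | _ a =>
      induction y using QuotientGroup.induction_on with
      | _ b =>
        intro h
        obtain ⟨c, hc⟩ := (Projectivization.mk_eq_mk_iff' F _ _ _ _).mp h.symm
        rw [QuotientGroup.eq, Subgroup.mem_subgroupOf]
        have e : (a.1⁻¹ * b.1).1 *ᵥ e0 = c • e0 := by
          rw [Units.val_mul, ← Matrix.mulVec_mulVec, ← hc, Matrix.mulVec_smul, Matrix.mulVec_mulVec,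
            Units.inv_mul, Matrix.one_mulVec]
        refine ⟨(a⁻¹ * b : M).2, ?_, ?_⟩
        · have := congrFun e 1
          rw [mulVec_e0] at this
          simpa [e0] using this
        · have := congrFun e 2
          rw [mulVec_e0] at this
          simpa [e0] using this
  have hlines : Nat.card (Projectivization F (Fin 3 → F)) = q * q + q + 1 := by
    rw [Projectivization.card_of_finrank F (Fin 3 → F) (Module.finrank_fin_fun (R := F) (n := 3)),
      Finset.sum_range_succ, Finset.sum_range_succ, Finset.sum_range_one, Nat.card_eq_fintype_card]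
    ring
  haveI : Finite (Projectivization F (Fin 3 → F)) := Nat.finite_of_card_ne_zero (by rw [hlines]; omega)
  have hS : (q ^ 2 - 1) * (q - 1) ≤ Nat.card (ptFix M) := by
    have h1 := Subgroup.card_eq_card_quotient_mul_card_subgroup ((ptFix M).subgroupOf M)
    rw [Nat.card_congr (Subgroup.subgroupOfEquivOfLe (fun g (hg : g ∈ ptFix M) => hg.1)).toEquiv] at h1
    have h2 := Nat.card_le_card_of_injective f hf
    rw [hlines] at h2
    exact Nat.le_of_mul_le_mul_left ((hcard.trans h1.le).trans (Nat.mul_le_mul_right _ h2)) (by omega)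
  have hinj : Function.Injective (quot M) := by
    rw [← MonoidHom.ker_eq_bot_iff, Subgroup.eq_bot_iff_forall]
    rintro ⟨g, hg, h1, h2⟩ hk
    have hb : blk g.1 = 1 := congrArg Units.val hk
    have hd : g.1 0 0 = 1 := by
      have := det_of_mem hM hg
      rwa [det_blk h1 h2, hb, Matrix.det_one, mul_one] at this
    have e : ∀ i j, blk g.1 i j = (1 : Matrix (Fin 2) (Fin 2) F) i j := fun i j => by rw [hb]
    have e11 := e 0 0
    have e12 := e 0 1
    have e21 := e 1 0
    have e22 := e 1 1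
    simp [blk] at e11 e12 e21 e22
    refine Subtype.ext (eq_one_of_sq hp hg ?_)
    ext i j
    fin_cases i <;> fin_cases j <;>
      simp [Matrix.mul_apply, Fin.sum_univ_three, hd, h1, h2, e11, e12, e21, e22]
  have hJcard : Nat.card (quot M).range = Nat.card (ptFix M) :=
    (Nat.card_congr (MonoidHom.ofInjective hinj).toEquiv).symm
  have hJp : ∀ g ∈ (quot M).range, g ^ p = 1 → g = 1 := fun g hg h => eq_one_of_pow (fun hd =>
    hp ((hJcard ▸ hd).trans (Subgroup.card_dvd_of_le fun g (hg : g ∈ ptFix M) => hg.1))) hg h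
  refine ⟨Quot.card_le_five hJp (hJcard ▸ hS) hq, ?_⟩
  obtain ⟨_, ⟨⟨g, hg, h1, h2⟩, rfl⟩, hJ⟩ := Quot.neg_one_mem hJp (hJcard ▸ hS) hq
  have hb : blk g.1 = -1 := hJ
  have hd : g.1 0 0 = 1 := by
    have := det_of_mem hM hg
    rw [det_blk h1 h2, hb] at this
    simpa [Matrix.det_neg] using this
  refine ⟨g, hg, ![2, g.1 0 1, g.1 0 2], rfl, ?_⟩
  have e : ∀ i j, blk g.1 i j = (-1 : Matrix (Fin 2) (Fin 2) F) i j := fun i j => by rw [hb]
  have e11 := e 0 0
  have e12 := e 0 1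
  have e21 := e 1 0
  have e22 := e 1 1
  simp [blk] at e11 e12 e21 e22
  ext i j
  fin_cases i <;> fin_cases j <;>
    simp [Matrix.vecMulVec, e0, hd, h1, h2, e11, e12, e21, e22] <;> norm_num

theorem vmv_mul (a φ b χ : Fin 3 → F) :
    vecMulVec a φ * vecMulVec b χ = (φ ⬝ᵥ b) • vecMulVec a χ := by
  ext i j
  fin_cases i <;> fin_cases j <;>
    simp [Matrix.mul_apply, Matrix.vecMulVec, dotProduct, Fin.sum_univ_three] <;> ring

theorem form_apply (v ψ z : Fin 3 → F) :
    (-1 + vecMulVec v ψ) *ᵥ z = -z + (ψ ⬝ᵥ z) • v := by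
  funext i
  simp [Matrix.add_mulVec, Matrix.mulVec, dotProduct, Matrix.vecMulVec, Fin.sum_univ_three, Matrix.one_apply]
  fin_cases i <;> simp <;> ring

theorem conj_form (g : GL (Fin 3) F) (v ψ : Fin 3 → F) :
    g.1 * (-1 + vecMulVec v ψ) * (g⁻¹ : GL (Fin 3) F).1 =
      -1 + vecMulVec (g.1 *ᵥ v) (ψ ᵥ* (g⁻¹ : GL (Fin 3) F).1) := by
  rw [mul_add, add_mul, mul_neg, mul_one, neg_mul, Units.mul_inv, Matrix.mul_vecMulVec, Matrix.vecMulVec_mul]

omit [Fact p.Prime] [CharP F p] in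
theorem form_unique_aux {h h' : GL (Fin 3) F} {v ψ ψ' : Fin 3 → F} (he : h.1 = -1 + vecMulVec v ψ)
    (he' : h'.1 = -1 + vecMulVec v ψ') (hv : ψ ⬝ᵥ v = 2) (hv' : ψ' ⬝ᵥ v = 2) :
    ((h * h').1 - 1) * ((h * h').1 - 1) = 0 := by
  have e : (h * h').1 - 1 = vecMulVec v (ψ' - ψ) := by
    rw [Units.val_mul, he, he', mul_add, add_mul, add_mul, vmv_mul, hv]
    simp only [mul_neg, neg_mul, one_mul, mul_one, neg_neg]
    ext i j
    simp [Matrix.vecMulVec]
    ring
  rw [e, vmv_mul, sub_dotProduct, hv, hv', sub_self, zero_smul]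

theorem cross_perp {φ a b : Fin 3 → F} (ha : φ ⬝ᵥ a = 0) (hb : φ ⬝ᵥ b = 0) (i j : Fin 3) :
    φ i * (a ⨯₃ b) j = φ j * (a ⨯₃ b) i := by
  simp [dotProduct, Fin.sum_univ_three] at ha hb
  fin_cases i <;> fin_cases j <;> simp [crossProduct] <;>
    first
      | ring1
      | linear_combination a 0 * hb - b 0 * ha
      | linear_combination a 1 * hb - b 1 * ha
      | linear_combination a 2 * hb - b 2 * ha
      | linear_combination b 0 * ha - a 0 * hb
      | linear_combination b 1 * ha - a 1 * hb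
      | linear_combination b 2 * ha - a 2 * hb

theorem prop_of_cross {φ a b : Fin 3 → F} (ha : φ ⬝ᵥ a = 0) (hb : φ ⬝ᵥ b = 0) {j : Fin 3}
    (hj : (a ⨯₃ b) j ≠ 0) : φ = (φ j / (a ⨯₃ b) j) • (a ⨯₃ b) := by
  funext i
  rw [Pi.smul_apply, smul_eq_mul, div_mul_eq_mul_div, eq_div_iff hj]
  exact cross_perp ha hb i j

/-- There is no such subgroup for `q = 5` containing the transitive group. -/
theorem not_five (h5 : Fintype.card F = 5) (hM : M ≤ specialLinear (Fin 3) F) (hp : ¬ p ∣ Nat.card M)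
    {K : Subalgebra F (Matrix (Fin 3) (Fin 3) F)} (hK : IsFieldSubalgebra 3 K)
    (hT : unitsK K ⊓ specialLinear (Fin 3) F ≤ M) {g : GL (Fin 3) F} (hg : g ∈ M) {ψ : Fin 3 → F}
    (hψ0 : ψ 0 = 2) (hge : g.1 = -1 + vecMulVec e0 ψ) : False := by
  classical
  have h20 : (2 : F) ≠ 0 := by
    intro h2
    have h : ((5 : ℕ) : F) = 0 := by rw [← h5]; exact FiniteField.cast_card_eq_zero F
    apply one_ne_zero (α := F)
    push_cast at h
    linear_combination h - 2 * h2
  -- forms attached to points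
  let Fm : (Fin 3 → F) → (Fin 3 → F) → Prop := fun v φ =>
    φ ⬝ᵥ v = 2 ∧ ∃ h ∈ M, h.1 = -1 + vecMulVec v φ
  have huniq : ∀ {v φ φ'}, Fm v φ → Fm v φ' → v ≠ 0 → φ = φ' := by
    intro v φ φ' ⟨hv, h, hh, he⟩ ⟨hv', h', hh', he'⟩ hv0
    have h1 := eq_one_of_sq hp (mul_mem hh hh') (form_unique_aux he he' hv hv')
    have h2 := eq_one_of_sq hp (mul_mem hh' hh') (form_unique_aux he' he' hv' hv')
    have : h = h' := mul_right_cancel (h1.trans h2.symm)
    obtain ⟨i, hi⟩ : ∃ i, v i ≠ 0 := by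
      by_contra hc; push Not at hc; exact hv0 (funext hc)
    funext j
    have e := congrArg (fun A : Matrix (Fin 3) (Fin 3) F => A i j) (he.symm.trans (this ▸ he'))
    simpa [Matrix.vecMulVec, hi] using e
  have hmap : ∀ {v φ} {t : GL (Fin 3) F}, t ∈ M → Fm v φ → Fm (t.1 *ᵥ v) (φ ᵥ* (t⁻¹ : GL (Fin 3) F).1) := by
    intro v φ t ht ⟨hv, h, hh, he⟩
    refine ⟨?_, t * h * t⁻¹, mul_mem (mul_mem ht hh) (inv_mem ht), ?_⟩
    · rw [← Matrix.dotProduct_mulVec, Matrix.mulVec_mulVec, Units.inv_mul, Matrix.one_mulVec, hv]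
    · rw [Units.val_mul, Units.val_mul, he, conj_form]
  have hsymm : ∀ {v φ w χ}, Fm v φ → Fm w χ → w ≠ 0 → φ ⬝ᵥ w = 0 → χ ⬝ᵥ v = 0 := by
    intro v φ w χ hvφ hw hw0 h0
    obtain ⟨hv, h, hh, he⟩ := hvφ
    have e1 : h.1 *ᵥ w = -w := by rw [he, form_apply, h0, zero_smul, add_zero]
    have e2 : h.1 *ᵥ v = v := by rw [he, form_apply, hv, two_smul, neg_add_cancel_left]
    obtain ⟨hd, k, hk, hke⟩ := hmap hh hw
    have hFm : Fm w (-(χ ᵥ* (h⁻¹ : GL (Fin 3) F).1)) := by
      rw [e1] at hd hke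
      refine ⟨by rw [neg_dotProduct, ← hd, dotProduct_neg], k, hk, ?_⟩
      rw [hke, Matrix.vecMulVec_neg, Matrix.neg_vecMulVec]
    have e3 := congrArg (fun z => z ⬝ᵥ v) (huniq hw hFm hw0)
    have e4 : (h⁻¹ : GL (Fin 3) F).1 *ᵥ v = v := by
      conv_lhs => rw [← e2, Matrix.mulVec_mulVec, Units.inv_mul, Matrix.one_mulVec]
    simp only [neg_dotProduct, ← Matrix.dotProduct_mulVec, e4] at e3
    have : (2 : F) * (χ ⬝ᵥ v) = 0 := by linear_combination e3
    simpa [h20] using this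
  have hbase : Fm e0 ψ := ⟨by simp [e0, dotProduct, Fin.sum_univ_three, hψ0], g, hg, hge⟩
  have hpow : ∀ x : F, x ≠ 0 → x ^ 4 = 1 := fun x hx => by
    have := FiniteField.pow_card_sub_one_eq_one x hx
    rwa [h5] at this
  -- points as translates
  have htr : ∀ w : Fin 3 → F, w ≠ 0 → ∃ t : GL (Fin 3) F, t ∈ unitsK K ⊓ specialLinear (Fin 3) F ∧
      ∃ c : F, c ≠ 0 ∧ t.1 *ᵥ e0 = c • w := by
    intro w hw
    haveI : Nonempty (Fin 3) := ⟨0⟩
    obtain ⟨Φ, hΦ⟩ := CfsgLib.Derange.exists_regular (by norm_num) hK (e0_ne (F := F))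
    obtain ⟨k, rfl⟩ := Φ.surjective w
    have hk0 : k ≠ 0 := fun e => hw (by rw [e, map_zero])
    have hd : k.1.det ≠ 0 := by
      intro hd
      obtain ⟨b, -, hb⟩ := hK.inv k.1 k.2 fun e => hk0 (Subtype.ext e)
      have := congrArg Matrix.det hb
      rw [Matrix.det_mul, hd, zero_mul, Matrix.det_one] at this
      exact zero_ne_one this
    set c := k.1.det
    have hdet : (c • k.1).det = 1 := by
      rw [Matrix.det_smul, Fintype.card_fin, show c ^ 3 * c = c ^ 4 by ring, hpow c hd]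
    refine ⟨Matrix.GeneralLinearGroup.mkOfDetNeZero (c • k.1) (by rw [hdet]; exact one_ne_zero), ⟨?_, ?_⟩, c, hd, ?_⟩
    · show _ ∈ unitsK K
      rw [mem_unitsK hK]
      exact K.smul_mem k.2 _
    · exact MonoidHom.mem_ker.mpr (Units.ext hdet)
    · show (c • k.1) *ᵥ e0 = _
      rw [Matrix.smul_mulVec, hΦ]
  -- two translates in the polar of the first point are inverse to each other
  have hpair : ∀ a b : GL (Fin 3) F, a ∈ unitsK K ⊓ specialLinear (Fin 3) F →
      b ∈ unitsK K ⊓ specialLinear (Fin 3) F → ψ ⬝ᵥ (a.1 *ᵥ e0) = 0 → ψ ⬝ᵥ (b.1 *ᵥ e0) = 0 →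
      (∃ j, ((a.1 *ᵥ e0) ⨯₃ (b.1 *ᵥ e0)) j ≠ 0) → a * b = 1 := by
    intro a b ha hb ha0 hb0 ⟨j, hj⟩
    have nz : ∀ t : GL (Fin 3) F, t.1 *ᵥ e0 ≠ 0 := fun t h => e0_ne
      (Matrix.mulVec_injective_iff_isUnit.mpr t.isUnit (h.trans (Matrix.mulVec_zero _).symm))
    have hFa := hmap (hT ha) hbase
    have hFb := hmap (hT hb) hbase
    have hFab := hmap (hT (mul_mem ha hb)) hbase
    have inv0 : ∀ t : GL (Fin 3) F, t ∈ unitsK K ⊓ specialLinear (Fin 3) F → ψ ⬝ᵥ (t.1 *ᵥ e0) = 0 →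
        ψ ⬝ᵥ ((t⁻¹ : GL (Fin 3) F).1 *ᵥ e0) = 0 := fun t ht h0 => by
      have := hsymm hbase (hmap (hT ht) hbase) (nz t) h0
      rwa [← Matrix.dotProduct_mulVec] at this
    have za : (ψ ᵥ* ((a * b)⁻¹ : GL (Fin 3) F).1) ⬝ᵥ (a.1 *ᵥ e0) = 0 := by
      rw [← Matrix.dotProduct_mulVec, Matrix.mulVec_mulVec, ← Units.val_mul,
        comm_units hK ha.1 hb.1, _root_.mul_inv_rev, mul_assoc]
      have e : b⁻¹ * a⁻¹ = a⁻¹ * b⁻¹ := comm_units hK (inv_mem hb.1) (inv_mem ha.1)
      rw [← mul_assoc a⁻¹, ← e, mul_assoc, inv_mul_cancel, mul_one]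
      exact inv0 b hb hb0
    have zb : (ψ ᵥ* ((a * b)⁻¹ : GL (Fin 3) F).1) ⬝ᵥ (b.1 *ᵥ e0) = 0 := by
      rw [← Matrix.dotProduct_mulVec, Matrix.mulVec_mulVec, ← Units.val_mul, _root_.mul_inv_rev,
        comm_units hK (inv_mem hb.1) (inv_mem ha.1), mul_assoc, inv_mul_cancel, mul_one]
      exact inv0 a ha ha0
    have wa := hsymm hFab hFa (nz a) za
    have wb := hsymm hFab hFb (nz b) zb
    have pa := hsymm hbase hFa (nz a) ha0
    have pb := hsymm hbase hFb (nz b) hb0
    set P := (a * b).1 *ᵥ (e0 : Fin 3 → F)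
    by_cases hz : ∀ i, ((e0 : Fin 3 → F) ⨯₃ P) i = 0
    · have h1 := hz 1
      have h2 := hz 2
      simp [crossProduct, e0] at h1 h2
      have hfix : (a * b).1 *ᵥ e0 = (P 0) • (e0 : Fin 3 → F) := by
        funext i; fin_cases i <;> simp [P, e0] at h1 h2 ⊢ <;> assumption
      have hab := mul_mem ha hb
      have hk : (a * b).1 - P 0 • 1 ∈ K := K.sub_mem (val_mem hab.1) (K.smul_mem K.one_mem _)
      have hzero : (a * b).1 - P 0 • (1 : Matrix (Fin 3) (Fin 3) F) = 0 := by
        by_contra hne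
        obtain ⟨c, hc, hcc⟩ := hK.inv _ hk hne
        have h3 : ((a * b).1 - P 0 • (1 : Matrix (Fin 3) (Fin 3) F)) *ᵥ e0 = 0 := by
          rw [Matrix.sub_mulVec, hfix, Matrix.smul_mulVec, Matrix.one_mulVec, sub_self]
        have := congrArg (fun z => c *ᵥ z) h3
        simp only [Matrix.mulVec_zero, Matrix.mulVec_mulVec] at this
        rw [hK.comm _ hc _ hk, hcc, Matrix.one_mulVec] at this
        exact e0_ne this
      rw [sub_eq_zero] at hzero
      have hd := det_of_mem hM (hT hab)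
      rw [hzero, Matrix.det_smul, Matrix.det_one, mul_one, Fintype.card_fin] at hd
      have h40 : P 0 ≠ 0 := fun e => by simp [e] at hd
      have : P 0 = 1 := by linear_combination hpow _ h40 - (P 0) * hd
      exact Units.ext (by rw [hzero, this, one_smul, Units.val_one])
    · push Not at hz
      obtain ⟨i, hi⟩ := hz
      exfalso
      have qa := prop_of_cross pa wa hi
      have qb := prop_of_cross pb wb hi
      set fa := ψ ᵥ* (a⁻¹ : GL (Fin 3) F).1
      set fb := ψ ᵥ* (b⁻¹ : GL (Fin 3) F).1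
      set lam := fa i / ((e0 : Fin 3 → F) ⨯₃ P) i
      set mu := fb i / ((e0 : Fin 3 → F) ⨯₃ P) i
      set z := (e0 : Fin 3 → F) ⨯₃ P
      -- a point on both lines
      have za' : (ψ ᵥ* ((a * b)⁻¹ : GL (Fin 3) F).1) = _ := prop_of_cross za zb hj
      have zψ : ψ = _ := prop_of_cross ha0 hb0 hj
      set C := (a.1 *ᵥ e0) ⨯₃ (b.1 *ᵥ e0)
      have hCP : C ⬝ᵥ P ≠ 0 := by
        intro h0
        have := hFab.1
        rw [za', smul_dotProduct, h0, smul_zero] at this
        exact h20 this.symm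
      have hψP : ψ ⬝ᵥ P = ψ j / C j * (C ⬝ᵥ P) := by
        conv_lhs => rw [zψ]
        rw [smul_dotProduct, smul_eq_mul]
      have hψj : ψ j / C j ≠ 0 := by
        intro h0
        rw [h0, zero_smul] at zψ
        have := hbase.1
        rw [zψ, zero_dotProduct] at this
        exact h20 this.symm
      -- the forms of the two translates are proportional
      have hmu : mu ≠ 0 := by
        intro h0
        rw [h0, zero_smul] at qb
        have := hFb.1
        rw [qb, zero_dotProduct] at this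
        exact h20 this.symm
      have hlam : lam ≠ 0 := by
        intro h0
        rw [h0, zero_smul] at qa
        have := hFa.1
        rw [qa, zero_dotProduct] at this
        exact h20 this.symm
      have key : ∀ x : Fin 3 → F, fa ⬝ᵥ x = 0 → fb ⬝ᵥ x = 0 := by
        intro x hx
        rw [qa, smul_dotProduct, smul_eq_mul, mul_eq_zero] at hx
        rw [qb, smul_dotProduct, hx.resolve_left hlam, smul_zero]
      -- a common zero of both forms on the polar of the first point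
      set x := (fa ⬝ᵥ (b.1 *ᵥ e0)) • (a.1 *ᵥ e0) - (fa ⬝ᵥ (a.1 *ᵥ e0)) • (b.1 *ᵥ e0) with hxdef
      have hxa : fa ⬝ᵥ x = 0 := by
        rw [hxdef, dotProduct_sub, dotProduct_smul, dotProduct_smul, smul_eq_mul, smul_eq_mul]; ring
      have hx0 : x ≠ 0 := by
        intro e
        have h' := congrArg (fun y => ((b.1 *ᵥ e0) ⨯₃ y) j) e
        simp only [hxdef, map_sub, map_smul, cross_self, smul_zero, sub_zero, Pi.smul_apply, smul_eq_mul,
          map_zero, Pi.zero_apply, hFa.1] at h'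
        have h'' : fa ⬝ᵥ (b.1 *ᵥ e0) * C j = 0 := by
          have := cross_anticomm (a.1 *ᵥ e0) (b.1 *ᵥ e0)
          have h3 := congrFun this j
          simp only [Pi.neg_apply] at h3
          linear_combination -h' + (fa ⬝ᵥ (b.1 *ᵥ e0)) * (-h3)
        rcases mul_eq_zero.mp h'' with h3 | h3
        · rw [hxdef, h3, zero_smul, zero_sub, neg_eq_zero, hFa.1, smul_eq_zero] at e
          exact e.elim h20 (nz b)
        · exact hj h3
      have hxψ : ψ ⬝ᵥ x = 0 := by
        rw [hxdef, dotProduct_sub, dotProduct_smul, dotProduct_smul, ha0, hb0]; simp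
      obtain ⟨t, ht, c, hc, hte⟩ := htr x hx0
      have hFt := hmap (hT ht) hbase
      rw [hte] at hFt
      have za2 := hsymm hFa hFt (smul_ne_zero hc hx0) (by rw [dotProduct_smul, hxa, smul_zero])
      have zb2 := hsymm hFb hFt (smul_ne_zero hc hx0) (by rw [dotProduct_smul, key x hxa, smul_zero])
      have qx := prop_of_cross za2 zb2 hj
      have := hFt.1
      rw [qx, smul_dotProduct, dotProduct_smul] at this
      have hCx : C ⬝ᵥ x = 0 := by
        rw [hxdef, dotProduct_sub, dotProduct_smul, dotProduct_smul]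
        simp [C, dot_self_cross, dot_cross_self, dotProduct_comm]
      rw [hCx, smul_zero, smul_zero] at this
      exact h20 this.symm
  -- three points of the polar
  set w1 : Fin 3 → F := ![-(ψ 1) / 2, 1, 0] with hw1
  set w2 : Fin 3 → F := ![-(ψ 2) / 2, 0, 1] with hw2
  set w3 : Fin 3 → F := ![-(ψ 1 + ψ 2) / 2, 1, 1] with hw3
  obtain ⟨t1, ht1, c1, hc1, e1⟩ := htr w1 (fun h => by simpa [w1] using congrFun h 1)
  obtain ⟨t2, ht2, c2, hc2, e2⟩ := htr w2 (fun h => by simpa [w2] using congrFun h 2)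
  obtain ⟨t3, ht3, c3, hc3, e3⟩ := htr w3 (fun h => by simpa [w3] using congrFun h 1)
  have z1 : ψ ⬝ᵥ (t1.1 *ᵥ e0) = 0 := by
    rw [e1]; simp [w1, dotProduct, Fin.sum_univ_three, hψ0]; field_simp; ring
  have z2 : ψ ⬝ᵥ (t2.1 *ᵥ e0) = 0 := by
    rw [e2]; simp [w2, dotProduct, Fin.sum_univ_three, hψ0]; field_simp; ring
  have z3 : ψ ⬝ᵥ (t3.1 *ᵥ e0) = 0 := by
    rw [e3]; simp [w3, dotProduct, Fin.sum_univ_three, hψ0]; field_simp; ring
  have h12 := hpair t1 t2 ht1 ht2 z1 z2 ⟨0, by rw [e1, e2]; simp [w1, w2, crossProduct, hc1, hc2]⟩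
  have h13 := hpair t1 t3 ht1 ht3 z1 z3 ⟨0, by rw [e1, e3]; simp [w1, w3, crossProduct, hc1, hc3]⟩
  have h23 : t2 = t3 := mul_left_cancel (h12.trans h13.symm)
  rw [h23, e3] at e2
  have := congrFun e2 1
  simp [w2, w3, hc3] at this

end CfsgLib.ThreeMax
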