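import Mathlib

/-!
A group of `2 × 2` invertible matrices over a finite field of characteristic `p` without elements of
order `p` has order less than `(q² - 1)(q - 1)` when `q > 5`, and contains `-1` when it reaches that bound.
-/

set_option autoImplicit false

namespace CfsgLib.ThreeMax.Quot

open Matrix
open scoped MatrixGroups

variable {F : Type*} [Field F]

/-- The determinant of two vectors. -/
def cr (u w : Fin 2 → F) : F := u 0 * w 1 - u 1 * w 0

theorem cr_self (u : Fin 2 → F) : cr u u = 0 := by simp [cr]; ring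

theorem cr_swap (u w : Fin 2 → F) : cr w u = -cr u w := by simp [cr]; ring

theorem cr_mulVec (M : Matrix (Fin 2) (Fin 2) F) (u w : Fin 2 → F) :
    cr (M *ᵥ u) (M *ᵥ w) = M.det * cr u w := by
  simp [cr, Matrix.det_fin_two, Matrix.mulVec, dotProduct, Fin.sum_univ_two]; ring

theorem exists_comb {u w : Fin 2 → F} (h : cr u w ≠ 0) (z : Fin 2 → F) :
    ∃ a b : F, z = a • u + b • w := by
  refine ⟨cr z w / cr u w, cr u z / cr u w, funext fun i => ?_⟩
  simp only [Pi.add_apply, Pi.smul_apply, smul_eq_mul]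
  field_simp
  fin_cases i <;> simp [cr] <;> ring

theorem cr_comb (u w : Fin 2 → F) (a b c d : F) :
    cr (a • u + b • w) (c • u + d • w) = (a * d - b * c) * cr u w := by
  simp [cr]; ring

theorem ext_basis {u w : Fin 2 → F} (h : cr u w ≠ 0) {A B : Matrix (Fin 2) (Fin 2) F}
    (hu : A *ᵥ u = B *ᵥ u) (hw : A *ᵥ w = B *ᵥ w) : A = B := by
  refine Matrix.toLin'.injective (LinearMap.ext fun z => ?_)
  obtain ⟨a, b, rfl⟩ := exists_comb h z
  simp [Matrix.toLin'_apply, Matrix.mulVec_add, Matrix.mulVec_smul, hu, hw]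

variable (J : Subgroup (GL (Fin 2) F))

/-- `w` is the second fixed line of the stabiliser of `u`. -/
def Pr (u w : Fin 2 → F) : Prop :=
  cr u w ≠ 0 ∧ ∀ c : F, c ≠ 0 →
    ∃ g ∈ J, g.1 *ᵥ u = u ∧ g.1 *ᵥ w = c • w

variable {J}

theorem det_of_pr {g : GL (Fin 2) F} {u w : Fin 2 → F} {a b : F} (h : cr u w ≠ 0)
    (hu : g.1 *ᵥ u = a • u) (hw : g.1 *ᵥ w = b • w) : g.1.det = a * b := by
  have := cr_mulVec g.1 u w
  rw [hu, hw] at this
  refine mul_right_cancel₀ h (this.symm.trans ?_)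
  simp [cr]; ring

variable [Fintype F] {p : ℕ} [Fact p.Prime] [CharP F p]

theorem eq_one_of_fix (hp : ∀ g ∈ J, g ^ p = 1 → g = 1) {g : GL (Fin 2) F} (hg : g ∈ J)
    {u : Fin 2 → F} (hu0 : u ≠ 0) (hu : g.1 *ᵥ u = u) (hd : g.1.det = 1) : g = 1 := by
  refine hp g hg (Units.ext ?_)
  have h0 : (g.1 - 1).det = 0 :=
    Matrix.exists_mulVec_eq_zero_iff.mp ⟨u, hu0, by rw [Matrix.sub_mulVec, hu, Matrix.one_mulVec, sub_self]⟩
  have hsq : (g.1 - 1) * (g.1 - 1) = 0 := by
    rw [Matrix.det_fin_two] at hd h0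
    simp only [Matrix.sub_apply, Matrix.one_apply_eq, Matrix.one_apply_ne (show (0 : Fin 2) ≠ 1 by decide),
      Matrix.one_apply_ne (show (1 : Fin 2) ≠ 0 by decide), sub_zero] at h0
    ext i j
    fin_cases i <;> fin_cases j <;>
      simp [Matrix.mul_apply, Fin.sum_univ_two, Matrix.sub_apply, Matrix.one_apply] <;>
      (first | grind | (linear_combination (0 : F)))
  have h2 : (g.1 - 1) ^ p = 0 := pow_eq_zero_of_le (Fact.out : p.Prime).two_le (by rw [pow_two, hsq])
  rw [sub_pow_char_of_commute (p := p) (h := Commute.one_right g.1), one_pow, sub_eq_zero] at h2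
  rw [Units.val_pow_eq_pow_val, Units.val_one, h2]

theorem stab_unique (hp : ∀ g ∈ J, g ^ p = 1 → g = 1) {g g' : GL (Fin 2) F} (hg : g ∈ J) (hg' : g' ∈ J)
    {u u' : Fin 2 → F} (hu0 : u ≠ 0) (hu : g.1 *ᵥ u = u') (hu' : g'.1 *ᵥ u = u')
    (hd : g.1.det = g'.1.det) : g = g' := by
  have key := eq_one_of_fix hp (g := g'⁻¹ * g) (mul_mem (inv_mem hg') hg) hu0 ?_ ?_
  · rwa [inv_mul_eq_one, eq_comm] at key
  · rw [Units.val_mul, ← Matrix.mulVec_mulVec, hu, ← hu', Matrix.mulVec_mulVec, Units.inv_mul,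
      Matrix.one_mulVec]
  · rw [Units.val_mul, Matrix.det_mul, hd, ← Matrix.det_mul, Units.inv_mul, Matrix.det_one]

theorem ne_zero_of_cr {u w : Fin 2 → F} (h : cr u w ≠ 0) : u ≠ 0 ∧ w ≠ 0 :=
  ⟨by rintro rfl; simp [cr] at h, by rintro rfl; simp [cr] at h⟩

theorem exists_stab (hp : ∀ g ∈ J, g ^ p = 1 → g = 1)
    (hcard : (Fintype.card F ^ 2 - 1) * (Fintype.card F - 1) ≤ Nat.card J)
    {u : Fin 2 → F} (hu0 : u ≠ 0) {c : F} (hc : c ≠ 0) :
    ∃ g ∈ J, g.1 *ᵥ u = u ∧ g.1.det = c := by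
  classical
  let S : Subgroup J :=
    { carrier := {g | g.1.1 *ᵥ u = u}
      mul_mem' := fun {a b} ha hb => by
        show (a.1 * b.1).1 *ᵥ u = u
        rw [Units.val_mul, ← Matrix.mulVec_mulVec, hb, ha]
      one_mem' := by show (1 : Matrix _ _ F) *ᵥ u = u; rw [Matrix.one_mulVec]
      inv_mem' := fun {a} ha => by
        show (a.1⁻¹ : GL (Fin 2) F).1 *ᵥ u = u
        conv_lhs => rw [← (show a.1.1 *ᵥ u = u from ha), Matrix.mulVec_mulVec, Units.inv_mul, Matrix.one_mulVec] }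
  let f : J ⧸ S → {v : Fin 2 → F // v ≠ 0} := fun x => Quotient.liftOn x
    (fun g => ⟨g.1.1 *ᵥ u, fun h => hu0 (Matrix.mulVec_injective_iff_isUnit.mpr g.1.isUnit
      (h.trans (Matrix.mulVec_zero _).symm))⟩) fun a b hab => by
      have hk : a⁻¹ * b ∈ S := QuotientGroup.leftRel_apply.mp hab
      refine Subtype.ext ?_
      show a.1.1 *ᵥ u = b.1.1 *ᵥ u
      have : (a.1⁻¹ * b.1).1 *ᵥ u = u := hk
      conv_lhs => rw [← this, Matrix.mulVec_mulVec, ← Units.val_mul, mul_inv_cancel_left]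
  have hf : Function.Injective f := by
    intro x y
    induction x using QuotientGroup.induction_on with
    | _ a =>
      induction y using QuotientGroup.induction_on with
      | _ b =>
        intro h
        rw [QuotientGroup.eq]
        show (a.1⁻¹ * b.1).1 *ᵥ u = u
        have h' : a.1.1 *ᵥ u = b.1.1 *ᵥ u := congrArg Subtype.val h
        rw [Units.val_mul, ← Matrix.mulVec_mulVec, ← h', Matrix.mulVec_mulVec, Units.inv_mul, Matrix.one_mulVec]
  have h1 : Nat.card (J ⧸ S) ≤ Fintype.card F ^ 2 - 1 := by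
    refine (Nat.card_le_card_of_injective f hf).trans (le_of_eq ?_)
    rw [Nat.card_eq_fintype_card, Fintype.card_subtype_compl, Fintype.card_subtype_eq, Fintype.card_fun,
      Fintype.card_fin]
  have h2 : Fintype.card F - 1 ≤ Nat.card S := by
    have h := Subgroup.card_eq_card_quotient_mul_card_subgroup S
    have h3 : 1 < Fintype.card F ^ 2 := Nat.one_lt_pow (by norm_num) Fintype.one_lt_card
    by_contra hlt
    push Not at hlt
    have : Nat.card J < (Fintype.card F ^ 2 - 1) * (Fintype.card F - 1) := by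
      rw [h]
      calc Nat.card (J ⧸ S) * Nat.card S ≤ (Fintype.card F ^ 2 - 1) * Nat.card S :=
            Nat.mul_le_mul_right _ h1
        _ < _ := Nat.mul_lt_mul_of_pos_left hlt (by omega)
    omega
  let δ : S → Fˣ := fun g => Matrix.GeneralLinearGroup.det g.1.1
  have hδ : Function.Injective δ := fun a b h =>
    Subtype.ext (Subtype.ext (stab_unique hp a.1.2 b.1.2 hu0 a.2 b.2 (congrArg Units.val h)))
  have hbij : Function.Bijective δ := (Nat.bijective_iff_injective_and_card δ).mpr ⟨hδ, le_antisymm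
    (Nat.card_le_card_of_injective δ hδ) (by rw [Nat.card_units, Nat.card_eq_fintype_card (α := F)]; exact h2)⟩
  obtain ⟨g, hg⟩ := hbij.2 (Units.mk0 c hc)
  exact ⟨g.1.1, g.1.2, g.2, congrArg Units.val hg⟩

theorem exists_unit_ne_one (hq : 3 ≤ Fintype.card F) : ∃ c : F, c ≠ 0 ∧ c ≠ 1 := by
  classical
  by_contra h
  push Not at h
  have := Finset.card_le_card (show (Finset.univ : Finset F) ⊆ {0, 1} from fun a _ => by
    rcases eq_or_ne a 0 with rfl | ha
    · simp
    · simp [h a ha])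
  have h2 := this.trans Finset.card_le_two
  rw [Finset.card_univ] at h2
  omega

variable (hp : ∀ g ∈ J, g ^ p = 1 → g = 1)
  (hcard : (Fintype.card F ^ 2 - 1) * (Fintype.card F - 1) ≤ Nat.card J) (hq : 3 ≤ Fintype.card F)

include hp hcard hq

theorem exists_pr {u : Fin 2 → F} (hu0 : u ≠ 0) : ∃ w, Pr J u w := by
  obtain ⟨c0, hc0, hc1⟩ := exists_unit_ne_one (F := F) hq
  obtain ⟨g, hg, hgu, hgd⟩ := exists_stab hp hcard hu0 hc0
  have h0 : (g.1 - 1).det = 0 :=
    Matrix.exists_mulVec_eq_zero_iff.mp ⟨u, hu0, by rw [Matrix.sub_mulVec, hgu, Matrix.one_mulVec, sub_self]⟩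
  have hev : (g.1 - c0 • (1 : Matrix (Fin 2) (Fin 2) F)).det = 0 := by
    rw [Matrix.det_fin_two] at hgd h0 ⊢
    simp [Matrix.one_apply] at h0 ⊢
    linear_combination c0 * h0 + (1 - c0) * hgd
  obtain ⟨w, hw0, hw⟩ := Matrix.exists_mulVec_eq_zero_iff.mpr hev
  rw [Matrix.sub_mulVec, Matrix.smul_mulVec, Matrix.one_mulVec, sub_eq_zero] at hw
  have hcr : cr u w ≠ 0 := by
    intro h
    obtain ⟨a, b, ha0, hab⟩ : ∃ a b : F, a ≠ 0 ∧ a • w = b • u := by
      simp only [cr] at h
      rcases eq_or_ne (u 0) 0 with e | e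
      · have e1 : u 1 ≠ 0 := fun e1 => hu0 (funext fun i => by fin_cases i <;> simp [e, e1])
        refine ⟨u 1, w 1, e1, funext fun i => ?_⟩
        fin_cases i
        · show u 1 * w 0 = w 1 * u 0
          linear_combination -h
        · show u 1 * w 1 = w 1 * u 1
          ring
      · refine ⟨u 0, w 0, e, funext fun i => ?_⟩
        fin_cases i
        · show u 0 * w 0 = w 0 * u 0
          ring
        · show u 0 * w 1 = w 0 * u 1
          linear_combination h
    have e := congrArg (fun z => g.1 *ᵥ z) hab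
    simp only [Matrix.mulVec_smul, hgu, hw] at e
    rw [smul_comm, hab, smul_smul] at e
    have hb : b ≠ 0 := by
      rintro rfl
      rw [zero_smul, smul_eq_zero] at hab
      rcases hab with h' | h'
      · exact ha0 h'
      · exact hw0 h'
    have : (c0 * b - b) • u = 0 := by rw [sub_smul, e, sub_self]
    rw [smul_eq_zero, sub_eq_zero] at this
    rcases this with h' | h'
    · exact hc1 (mul_right_cancel₀ hb (h'.trans (one_mul b).symm))
    · exact hu0 h'
  refine ⟨w, hcr, fun c hc => ?_⟩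
  obtain ⟨g', hg', hgu', hgd'⟩ := exists_stab hp hcard hu0 hc
  have hcomm : g * g' = g' * g := stab_unique hp (mul_mem hg hg') (mul_mem hg' hg) hu0
    (u' := u) (by rw [Units.val_mul, ← Matrix.mulVec_mulVec, hgu', hgu])
    (by rw [Units.val_mul, ← Matrix.mulVec_mulVec, hgu, hgu'])
    (by rw [Units.val_mul, Units.val_mul, Matrix.det_mul, Matrix.det_mul, mul_comm])
  obtain ⟨a, b, hab⟩ := exists_comb hcr (g'.1 *ᵥ w)
  have e : g.1 *ᵥ (g'.1 *ᵥ w) = c0 • (g'.1 *ᵥ w) := by
    rw [Matrix.mulVec_mulVec, ← Units.val_mul, hcomm, Units.val_mul, ← Matrix.mulVec_mulVec, hw,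
      Matrix.mulVec_smul]
  rw [hab, Matrix.mulVec_add, Matrix.mulVec_smul, Matrix.mulVec_smul, hgu, hw] at e
  have ha : a = 0 := by
    have h1 := congrArg (fun z => cr z w) e
    simp [cr] at h1
    have : a * (1 - c0) * cr u w = 0 := by simp only [cr]; linear_combination h1
    simpa [hcr, sub_eq_zero, Ne.symm hc1] using this
  subst ha
  rw [zero_smul, zero_add] at hab
  have hb := det_of_pr (a := 1) hcr (by rw [one_smul, hgu']) hab
  rw [one_mul, hgd'] at hb
  exact ⟨g', hg', hgu', hb ▸ hab⟩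

theorem pr_symm {u w : Fin 2 → F} (h : Pr J u w) : Pr J w u := by
  obtain ⟨hcr, hst⟩ := h
  have hcr' : cr w u ≠ 0 := by rw [cr_swap]; exact neg_ne_zero.mpr hcr
  refine ⟨hcr', fun c hc => ?_⟩
  obtain ⟨c0, hc0, hc1⟩ := exists_unit_ne_one (F := F) hq
  obtain ⟨g, hg, hgu, hgw⟩ := hst c0 hc0
  obtain ⟨g', hg', hgw', hgd'⟩ := exists_stab hp hcard (ne_zero_of_cr hcr).2 hc
  have hcomm : g * g' = g' * g := stab_unique hp (mul_mem hg hg') (mul_mem hg' hg) (ne_zero_of_cr hcr).2
    (u' := c0 • w) (by rw [Units.val_mul, ← Matrix.mulVec_mulVec, hgw', hgw])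
    (by rw [Units.val_mul, ← Matrix.mulVec_mulVec, hgw, Matrix.mulVec_smul, hgw'])
    (by rw [Units.val_mul, Units.val_mul, Matrix.det_mul, Matrix.det_mul, mul_comm])
  obtain ⟨a, b, hab⟩ := exists_comb hcr (g'.1 *ᵥ u)
  have e : g.1 *ᵥ (g'.1 *ᵥ u) = g'.1 *ᵥ u := by
    rw [Matrix.mulVec_mulVec, ← Units.val_mul, hcomm, Units.val_mul, ← Matrix.mulVec_mulVec, hgu]
  rw [hab, Matrix.mulVec_add, Matrix.mulVec_smul, Matrix.mulVec_smul, hgu, hgw] at e
  have hb : b = 0 := by
    have h1 := congrArg (fun z => cr u z) e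
    simp [cr] at h1
    have : b * (c0 - 1) * cr u w = 0 := by simp only [cr]; linear_combination h1
    simpa [hcr, sub_eq_zero, hc1] using this
  subst hb
  rw [zero_smul, add_zero] at hab
  have hd := det_of_pr (a := 1) hcr' (by rw [one_smul, hgw']) hab
  rw [one_mul, hgd'] at hd
  exact ⟨g', hg', hgw', hd ▸ hab⟩

theorem pr_unique {u w w' : Fin 2 → F} (h : Pr J u w) (h' : Pr J u w') : cr w w' = 0 := by
  obtain ⟨c0, hc0, hc1⟩ := exists_unit_ne_one (F := F) hq
  obtain ⟨g, hg, hgu, hgw⟩ := h.2 c0 hc0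
  obtain ⟨g', hg', hgu', hgw'⟩ := h'.2 c0 hc0
  have he : g = g' := stab_unique hp hg hg' (ne_zero_of_cr h.1).1 hgu hgu'
    ((det_of_pr (a := 1) h.1 (by rw [one_smul, hgu]) hgw).trans
      (det_of_pr (a := 1) h'.1 (by rw [one_smul, hgu']) hgw').symm)
  subst he
  obtain ⟨a, b, rfl⟩ := exists_comb h.1 w'
  rw [Matrix.mulVec_add, Matrix.mulVec_smul, Matrix.mulVec_smul, hgu, hgw] at hgw'
  have h1 := congrArg (fun z => cr z w) hgw'
  simp [cr] at h1
  have : a * (1 - c0) * cr u w = 0 := by simp only [cr]; linear_combination h1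
  have ha : a = 0 := by simpa [h.1, sub_eq_zero, Ne.symm hc1] using this
  subst ha
  simp [cr]; ring

omit hp hcard hq in
theorem pr_map {h : GL (Fin 2) F} (hh : h ∈ J) {u w : Fin 2 → F} (huw : Pr J u w) :
    Pr J (h.1 *ᵥ u) (h.1 *ᵥ w) := by
  refine ⟨by rw [cr_mulVec]; exact mul_ne_zero ((Matrix.isUnit_iff_isUnit_det _).mp h.isUnit).ne_zero huw.1,
    fun c hc => ?_⟩
  obtain ⟨g, hg, hgu, hgw⟩ := huw.2 c hc
  refine ⟨h * g * h⁻¹, mul_mem (mul_mem hh hg) (inv_mem hh), ?_, ?_⟩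
  · rw [Units.val_mul, Units.val_mul, ← Matrix.mulVec_mulVec, Matrix.mulVec_mulVec u, Units.inv_mul,
      Matrix.one_mulVec, ← Matrix.mulVec_mulVec, hgu]
  · rw [Units.val_mul, Units.val_mul, ← Matrix.mulVec_mulVec, Matrix.mulVec_mulVec w, Units.inv_mul,
      Matrix.one_mulVec, ← Matrix.mulVec_mulVec, hgw, Matrix.mulVec_smul]

omit hp hcard hq in
theorem pr_smul {u w : Fin 2 → F} {a b : F} (ha : a ≠ 0) (hb : b ≠ 0) (h : Pr J u w) :
    Pr J (a • u) (b • w) := by
  refine ⟨?_, fun c hc => ?_⟩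
  · rw [show cr (a • u) (b • w) = a * b * cr u w by simp [cr]; ring]
    exact mul_ne_zero (mul_ne_zero ha hb) h.1
  obtain ⟨g, hg, hgu, hgw⟩ := h.2 c hc
  exact ⟨g, hg, by rw [Matrix.mulVec_smul, hgu], by rw [Matrix.mulVec_smul, hgw, smul_comm]⟩

omit hp hcard hq in
theorem diag_mem {u w : Fin 2 → F} (h : Pr J u w) (h' : Pr J w u) {a b : F} (ha : a ≠ 0) (hb : b ≠ 0) :
    ∃ g ∈ J, g.1 *ᵥ u = a • u ∧ g.1 *ᵥ w = b • w := by
  obtain ⟨g, hg, hgu, hgw⟩ := h.2 b hb
  obtain ⟨g', hg', hgw', hgu'⟩ := h'.2 a ha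
  refine ⟨g * g', mul_mem hg hg', ?_, ?_⟩
  · rw [Units.val_mul, ← Matrix.mulVec_mulVec, hgu', Matrix.mulVec_smul, hgu]
  · rw [Units.val_mul, ← Matrix.mulVec_mulVec, hgw', hgw]

theorem neg_one_mem : ∃ g ∈ J, g.1 = (-1 : Matrix (Fin 2) (Fin 2) F) := by
  obtain ⟨w, hw⟩ := exists_pr hp hcard hq (u := ![1, 0]) (by simp [funext_iff, Fin.forall_fin_two])
  obtain ⟨g, hg, hgu, hgw⟩ := diag_mem hw (pr_symm hp hcard hq hw) (neg_ne_zero.mpr one_ne_zero)
    (neg_ne_zero.mpr (one_ne_zero (α := F)))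
  refine ⟨g, hg, ext_basis hw.1 ?_ ?_⟩
  · rw [hgu, Matrix.neg_mulVec, Matrix.one_mulVec, neg_one_smul]
  · rw [hgw, Matrix.neg_mulVec, Matrix.one_mulVec, neg_one_smul]

theorem card_le_five : Fintype.card F ≤ 5 := by
  classical
  by_contra h6
  push Not at h6
  obtain ⟨w, hw⟩ := exists_pr hp hcard hq (u := ![1, 0]) (by simp [funext_iff, Fin.forall_fin_two])
  set u : Fin 2 → F := ![1, 0]
  have hw' := pr_symm hp hcard hq hw
  have hz : u + w ≠ 0 := by
    intro h
    apply hw.1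
    rw [eq_neg_of_add_eq_zero_right h]
    simp [cr]; ring
  obtain ⟨z', hz'⟩ := exists_pr hp hcard hq hz
  obtain ⟨a, b, rfl⟩ := exists_comb hw.1 z'
  have ha : a ≠ 0 := by
    rintro rfl
    have hb : b ≠ 0 := fun hb => (ne_zero_of_cr hz'.1).2 (by rw [hb]; simp)
    have h1 : Pr J (u + w) w := by
      have := pr_smul one_ne_zero (inv_ne_zero hb) hz'
      rwa [one_smul, zero_smul, zero_add, smul_smul, inv_mul_cancel₀ hb, one_smul] at this
    have h2 := pr_unique hp hcard hq (pr_symm hp hcard hq h1) hw'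
    apply hw.1
    simp [cr] at h2 ⊢
    linear_combination -h2
  have hb : b ≠ 0 := by
    rintro rfl
    have h1 : Pr J (u + w) u := by
      have := pr_smul one_ne_zero (inv_ne_zero ha) hz'
      rwa [one_smul, zero_smul, add_zero, smul_smul, inv_mul_cancel₀ ha, one_smul] at this
    have h2 := pr_unique hp hcard hq (pr_symm hp hcard hq h1) hw
    apply hw.1
    simp [cr] at h2 ⊢
    linear_combination h2
  set ε := b / a with hε
  have hε0 : ε ≠ 0 := div_ne_zero hb ha
  have h1 : Pr J (u + w) (u + ε • w) := by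
    have := pr_smul one_ne_zero (inv_ne_zero ha) hz'
    rwa [one_smul, smul_add, smul_smul, smul_smul, inv_mul_cancel₀ ha, one_smul,
      show a⁻¹ * b = ε by rw [hε, div_eq_inv_mul]] at this
  have hε1 : ε ≠ 1 := by
    intro e
    apply h1.1
    rw [e, one_smul, cr_self]
  obtain ⟨g, hg, hgu, hgw⟩ := diag_mem hw hw' one_ne_zero hε0
  have h2 : Pr J (u + ε • w) (u + ε ^ 2 • w) := by
    have := pr_map hg h1
    rwa [Matrix.mulVec_add, Matrix.mulVec_add, Matrix.mulVec_smul, hgu, hgw, one_smul, smul_smul, ← sq] at this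
  have hεm : ε = -1 := by
    have h3 := pr_unique hp hcard hq (pr_symm hp hcard hq h1) h2
    have h4 := cr_comb u w 1 1 1 (ε ^ 2)
    rw [one_smul, one_smul, h3] at h4
    rcases mul_eq_zero.mp h4.symm with e | e
    · have : (ε - 1) * (ε + 1) = 0 := by linear_combination e
      rcases mul_eq_zero.mp this with e' | e'
      · exact absurd (sub_eq_zero.mp e') hε1
      · exact eq_neg_of_add_eq_zero_left e'
    · exact absurd e hw.1
  have h20 : (2 : F) ≠ 0 := fun e => hε1 (by rw [hεm]; linear_combination -e)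
  have hgen : ∀ c : F, c ≠ 0 → Pr J (u + c • w) (u + (-c) • w) := by
    intro c hc
    obtain ⟨g, hg, hgu, hgw⟩ := diag_mem hw hw' one_ne_zero hc
    have := pr_map hg h1
    rwa [Matrix.mulVec_add, Matrix.mulVec_add, Matrix.mulVec_smul, hgu, hgw, one_smul, smul_smul, hεm,
      neg_one_mul] at this
  obtain ⟨ν, hν⟩ : ∃ ν : F, ν ∉ (Finset.univ.filter fun x : F => x ^ 5 - x = 0) := by
    by_contra hall
    push Not at hall
    have hle : Fintype.card F ≤ 5 := by
      have h5 : ((Polynomial.X ^ 5 - Polynomial.X : Polynomial F)).natDegree = 5 := by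
        rw [Polynomial.natDegree_sub_eq_left_of_natDegree_lt] <;>
          simp [Polynomial.natDegree_X_pow, Polynomial.natDegree_X]
      have h0 : (Polynomial.X ^ 5 - Polynomial.X : Polynomial F) ≠ 0 := by
        intro e; rw [e] at h5; simp at h5
      have hsub : (Finset.univ : Finset F) ⊆ (Polynomial.X ^ 5 - Polynomial.X : Polynomial F).roots.toFinset := by
        intro x _
        have := hall x
        rw [Finset.mem_filter] at this
        rw [Multiset.mem_toFinset, Polynomial.mem_roots h0]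
        simpa [Polynomial.IsRoot] using this.2
      calc Fintype.card F = (Finset.univ : Finset F).card := Finset.card_univ.symm
        _ ≤ _ := Finset.card_le_card hsub
        _ ≤ _ := Multiset.toFinset_card_le _
        _ ≤ 5 := (Polynomial.card_roots' _).trans h5.le
    omega
  simp only [Finset.mem_filter, Finset.mem_univ, true_and] at hν
  have hν0 : ν ≠ 0 := by rintro rfl; exact hν (by ring)
  have hνp : 1 + ν ≠ 0 := fun e => hν (by rw [eq_neg_of_add_eq_zero_right e]; ring)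
  have hνm : 1 - ν ≠ 0 := fun e => hν (by rw [← sub_eq_zero.mp e]; ring)
  have hνs : ν ^ 2 + 1 ≠ 0 := fun e => hν (by linear_combination (ν ^ 3 - ν) * e)
  obtain ⟨g, hg, hgz, hgy⟩ := h1.2 ν hν0
  rw [hεm, neg_one_smul] at hgy
  rw [Matrix.mulVec_add] at hgz
  rw [Matrix.mulVec_add, Matrix.mulVec_neg] at hgy
  have hu2 : (2 : F) • (g.1 *ᵥ u) = (1 + ν) • (u + ((1 - ν) / (1 + ν)) • w) := by
    funext i
    have e1 := congrFun hgz i
    have e2 := congrFun hgy i
    simp only [Pi.add_apply, Pi.smul_apply, Pi.neg_apply, smul_eq_mul] at e1 e2 ⊢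
    field_simp
    linear_combination e1 + e2
  have hw2 : (2 : F) • (g.1 *ᵥ w) = (1 - ν) • u + (1 + ν) • w := by
    funext i
    have e1 := congrFun hgz i
    have e2 := congrFun hgy i
    simp only [Pi.add_apply, Pi.smul_apply, Pi.neg_apply, smul_eq_mul] at e1 e2 ⊢
    linear_combination e1 - e2
  have h3 := pr_smul h20 h20 (pr_map hg hw)
  rw [hu2, hw2] at h3
  have h4 := pr_smul (inv_ne_zero hνp) one_ne_zero h3
  rw [one_smul, smul_smul, inv_mul_cancel₀ hνp, one_smul] at h4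
  have h5 := pr_unique hp hcard hq h4 (hgen _ (div_ne_zero hνm hνp))
  have h6' := cr_comb u w (1 - ν) (1 + ν) 1 (-((1 - ν) / (1 + ν)))
  rw [one_smul, h5] at h6'
  rcases mul_eq_zero.mp h6'.symm with e | e
  · field_simp at e
    exact hνs (mul_left_cancel₀ h20 (by linear_combination -e))
  · exact hw.1 e

end CfsgLib.ThreeMax.Quot
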