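import Cfsg.Agent.Lib.Classical.ThreeMax.SingerArith
import Cfsg.Agent.Lib.Classical.ThreeMax.SingerField
import Cfsg.Agent.Lib.Classical.ThreeMax.SingerOrbit
import Cfsg.Agent.Lib.Classical.ThreeMax.SingerPoint
import Cfsg.Agent.Lib.Classical.Transvection
import Cfsg.Agent.Lib.Classical.SubspaceStab
import Cfsg.Agent.Lib.Classical.Card

/-!
The normaliser of a Singer field is maximal in `SL₃(q)` for `q ≠ 4`.
-/

set_option autoImplicit false
set_option linter.unusedSectionVars false

namespace CfsgLib.ThreeMax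

open Matrix
open Cfsg.Geo (IsFieldSubalgebra subalgebraNormalizer specialLinear scalars IsMaximalIn mem_scalars_iff)
open scoped MatrixGroups

universe u

variable {F : Type u} [Field F]

theorem vmv (a φ b χ : Fin 3 → F) :
    vecMulVec a φ * vecMulVec b χ = (φ ⬝ᵥ b) • vecMulVec a χ := by
  rw [mul_vecMulVec, vecMulVec_mulVec]
  ext i j
  simp [vecMulVec]
  ring

/-- The transvections with a given centre. -/
def centreGroup (v : Fin 3 → F) : Subgroup (GL (Fin 3) F) where
  carrier := {g | ∃ φ : Fin 3 → F, φ ⬝ᵥ v = 0 ∧ g.1 = 1 + vecMulVec v φ}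
  one_mem' := ⟨0, zero_dotProduct _, by simp⟩
  mul_mem' := by
    rintro a b ⟨φ, h, e⟩ ⟨χ, h', e'⟩
    refine ⟨φ + χ, by rw [add_dotProduct, h, h', add_zero], ?_⟩
    simp only [Units.val_mul, e, e', add_mul, mul_add, mul_one, one_mul, vmv, h, zero_smul, vecMulVec_add]
    abel
  inv_mem' := by
    rintro a ⟨φ, h, e⟩
    refine ⟨-φ, by rw [neg_dotProduct, h, neg_zero], ?_⟩
    refine Units.inv_eq_of_mul_eq_one_right ?_
    simp only [e, add_mul, mul_add, mul_one, one_mul, vmv, h, zero_smul, vecMulVec_neg, mul_neg, neg_zero]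
    abel

theorem mem_centreGroup {v : Fin 3 → F} {g : GL (Fin 3) F} :
    g ∈ centreGroup v ↔ ∃ φ : Fin 3 → F, φ ⬝ᵥ v = 0 ∧ g.1 = 1 + vecMulVec v φ := Iff.rfl

theorem centreGroup_exists {v φ : Fin 3 → F} (h : φ ⬝ᵥ v = 0) :
    ∃ g ∈ centreGroup v, g.1 = 1 + vecMulVec v φ := by
  have e : (1 + vecMulVec v φ) * (1 + vecMulVec v (-φ)) = 1 := by
    simp only [add_mul, mul_add, mul_one, one_mul, vmv, h, zero_smul, vecMulVec_neg, mul_neg, neg_zero]
    abel
  exact ⟨⟨_, _, e, mul_eq_one_comm.mp e⟩, ⟨φ, h, rfl⟩, rfl⟩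

theorem conj_centreGroup {v : Fin 3 → F} {g x : GL (Fin 3) F} (hx : x ∈ centreGroup v) :
    g * x * g⁻¹ ∈ centreGroup (g.1 *ᵥ v) := by
  obtain ⟨φ, h, e⟩ := hx
  refine ⟨φ ᵥ* (g⁻¹ : GL (Fin 3) F).1, ?_, ?_⟩
  · rw [← dotProduct_mulVec, mulVec_mulVec, Units.inv_mul, one_mulVec, h]
  · rw [Units.val_mul, Units.val_mul, e, mul_add, add_mul, mul_one, Units.mul_inv, mul_vecMulVec,
      vecMulVec_mul]

theorem centreGroup_smul {v : Fin 3 → F} {c : F} :
    centreGroup (c • v) ≤ centreGroup v := by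
  rintro g ⟨φ, h, e⟩
  by_cases hc : c = 0
  · exact ⟨0, zero_dotProduct _, by simp [e, hc]⟩
  refine ⟨c • φ, ?_, by rw [e, smul_vecMulVec, vecMulVec_smul]⟩
  rw [dotProduct_smul, smul_eq_mul] at h
  rw [smul_dotProduct, smul_eq_mul]
  exact h

theorem centreGroup_zero : centreGroup (0 : Fin 3 → F) = ⊥ :=
  eq_bot_iff.mpr fun g ⟨φ, _, e⟩ => Units.ext (by simpa using e)

theorem isPGroup_centreGroup (p : ℕ) [Fact p.Prime] [CharP F p] (v : Fin 3 → F) :
    IsPGroup p (centreGroup v) := by
  rintro ⟨g, φ, h, e⟩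
  refine ⟨1, Subtype.ext (Units.ext ?_)⟩
  have key : ∀ n : ℕ, g.1 ^ n = 1 + n • vecMulVec v φ := by
    intro n
    induction n with
    | zero => simp
    | succ n ih =>
      rw [pow_succ, ih, e]
      simp only [mul_add, add_mul, mul_one, one_mul, smul_mul_assoc, vmv, h, zero_smul, smul_zero, succ_nsmul]
      abel
  simp only [pow_one, Subgroup.coe_pow, Subgroup.coe_one, Units.val_pow_eq_pow_val, Units.val_one]
  rw [key, ← Nat.cast_smul_eq_nsmul F, CharP.cast_eq_zero, zero_smul, add_zero]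

variable [Fintype F]
variable {K : Subalgebra F (Matrix (Fin 3) (Fin 3) F)}

/-- A group with a subgroup of order `q³` and a non-scalar element of the field contains `SL₃(q)`. -/
theorem specialLinear_le (p : ℕ) [Fact p.Prime] [CharP F p] (hK : IsFieldSubalgebra 3 K) {M P : Subgroup (GL (Fin 3) F)} (hPM : P ≤ M)
    (hP : Nat.card P = Fintype.card F ^ 3) {t : GL (Fin 3) F} (htK : t ∈ unitsK K) (htM : t ∈ M)
    (hts : ∀ c : F, t.1 ≠ c • 1) : specialLinear (Fin 3) F ≤ M := by
  classical
  haveI : Nonempty (Fin 3) := ⟨0⟩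
  obtain ⟨f, hp, hf⟩ := FiniteField.card F p
  -- the Sylow subgroup
  have hPp : IsPGroup p P := IsPGroup.of_card (n := 3 * f) (by rw [hP, hf, ← pow_mul]; ring_nf)
  obtain ⟨Q, hQ⟩ := hPp.exists_le_sylow
  have hPQ : P = Q.toSubgroup := Subgroup.eq_of_le_of_card_ge hQ (by
    rw [hP, show Nat.card Q.toSubgroup = Nat.card Q from rfl, CfsgLib.Classical.card_sylow_GL p 3 Q])
  -- a fixed vector
  letI : MulAction P (Fin 3 → F) :=
    { smul := fun g w => g.1.1 *ᵥ w
      one_smul := fun w => one_mulVec w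
      mul_smul := fun a b w => (mulVec_mulVec w a.1.1 b.1.1).symm }
  obtain ⟨v, hv, hv0⟩ := hPp.exists_fixed_point_of_prime_dvd_card_of_fixed_point (Fin 3 → F)
    (by rw [Nat.card_eq_fintype_card, Fintype.card_fun, hf, ← pow_mul]
        exact dvd_pow_self p (by simp [f.ne_zero]))
    (a := 0) (fun g => mulVec_zero g.1.1)
  have hfix : ∀ g ∈ P, g.1 *ᵥ v = v := fun g hg => hv ⟨g, hg⟩
  -- all transvections with that centre lie in the Sylow subgroup
  have hnorm : P ≤ Subgroup.normalizer (centreGroup v : Set (GL (Fin 3) F)) := by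
    intro g hg x
    constructor
    · intro hx
      have := conj_centreGroup (g := g) hx
      rwa [hfix g hg] at this
    · intro hx
      have := conj_centreGroup (g := g⁻¹) hx
      rw [hfix g⁻¹ (inv_mem hg)] at this
      simpa [mul_assoc] using this
  have hsup : P ⊔ centreGroup v = Q.toSubgroup :=
    Q.is_maximal' (hPp.to_sup_of_normal_right' (isPGroup_centreGroup p v) hnorm)
      (hPQ ▸ le_sup_left)
  have hEv : centreGroup v ≤ M := (hsup ▸ le_sup_right : centreGroup v ≤ Q.toSubgroup).trans (hPQ ▸ hPM)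
  -- the centres form a subspace
  let Cn : Submodule F (Fin 3 → F) :=
    { carrier := {w | centreGroup w ≤ M}
      zero_mem' := by show centreGroup _ ≤ M; rw [centreGroup_zero]; exact bot_le
      smul_mem' := fun c w hw => centreGroup_smul.trans hw
      add_mem' := by
        intro a b ha hb
        by_cases ha0 : a = 0
        · simpa [ha0] using hb
        by_cases hz : ∀ j, (a ⨯₃ b) j = 0
        · obtain ⟨i, hi⟩ := Function.ne_iff.mp ha0
          have hi' : a i ≠ 0 := hi
          have hpair : ∀ j, a i * b j = a j * b i := by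
            intro j
            have h0 := hz 0
            have h1 := hz 1
            have h2 := hz 2
            simp [crossProduct] at h0 h1 h2
            fin_cases i <;> fin_cases j <;> simp only [Fin.zero_eta, Fin.mk_one, Fin.reduceFinMk] <;>
              first
                | ring1
                | linear_combination h0
                | linear_combination h1
                | linear_combination h2
                | linear_combination -h0
                | linear_combination -h1
                | linear_combination -h2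
          have hab : a + b = (1 + b i / a i) • a := by
            funext j
            simp only [Pi.add_apply, Pi.smul_apply, smul_eq_mul]
            field_simp
            linear_combination hpair j
          show centreGroup _ ≤ M
          rw [hab]
          exact centreGroup_smul.trans ha
        · push Not at hz
          obtain ⟨j, hj⟩ := hz
          set φ : Fin 3 → F := ((a ⨯₃ b) j)⁻¹ • ((Pi.single j 1 : Fin 3 → F) ⨯₃ a) with hφ
          have h1 : φ ⬝ᵥ a = 0 := by
            rw [hφ, smul_dotProduct, dotProduct_comm, dot_cross_self, smul_zero]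
          have h2 : φ ⬝ᵥ b = 1 := by
            rw [hφ, smul_dotProduct, dotProduct_comm, triple_product_permutation, single_dotProduct,
              one_mul, smul_eq_mul, inv_mul_cancel₀ hj]
          obtain ⟨g, hg, hge⟩ := centreGroup_exists h1
          have hgb : g.1 *ᵥ b = a + b := by
            rw [hge, add_mulVec, one_mulVec, vecMulVec_mulVec, h2, add_comm]
            simp
          intro x hx
          rw [← hgb] at hx
          have h3 := conj_centreGroup (g := g⁻¹) hx
          rw [mulVec_mulVec, Units.inv_mul, one_mulVec] at h3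
          have h4 : g⁻¹ * x * g⁻¹⁻¹ ∈ M := hb h3
          have h5 := mul_mem (mul_mem (ha hg) h4) (inv_mem (ha hg))
          simpa [mul_assoc] using h5 }
  -- which is invariant under the field
  let St : Subalgebra F (Matrix (Fin 3) (Fin 3) F) :=
    { carrier := {x | ∀ w ∈ Cn, x *ᵥ w ∈ Cn}
      mul_mem' := fun {a b} ha hb w hw => by rw [← mulVec_mulVec]; exact ha _ (hb _ hw)
      add_mem' := fun {a b} ha hb w hw => by rw [add_mulVec]; exact Cn.add_mem (ha _ hw) (hb _ hw)
      algebraMap_mem' := fun c w hw => by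
        rw [Algebra.algebraMap_eq_smul_one, smul_mulVec, one_mulVec]
        exact Cn.smul_mem c hw }
  have htS : t.1 ∈ St := by
    intro w hw x hx
    have h3 := conj_centreGroup (g := t⁻¹) hx
    rw [mulVec_mulVec, Units.inv_mul, one_mulVec] at h3
    have h5 := mul_mem (mul_mem htM (hw h3)) (inv_mem htM)
    simpa [mul_assoc] using h5
  have hKS : K ≤ St := le_of_mem hK St (val_mem htK) hts htS
  have htop : ∀ w, w ∈ Cn := by
    intro w
    obtain ⟨Φ, hΦ⟩ := CfsgLib.Derange.exists_regular (by norm_num) hK (Ne.symm hv0)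
    obtain ⟨k, rfl⟩ := Φ.surjective w
    rw [hΦ]
    exact hKS k.2 v hEv
  intro x hx
  obtain ⟨s, rfl⟩ := CfsgLib.Classical.MinIndex.mem_specialLinear.1 hx
  have hs : M.comap SpecialLinearGroup.toGL = ⊤ :=
    CfsgLib.Classical.eq_top_of_transvection_mem _ fun i j hij c => by
      refine htop (Pi.single i 1) ⟨c • Pi.single j 1, ?_, ?_⟩
      · rw [smul_dotProduct, single_dotProduct, one_mul, Pi.single_eq_of_ne hij.symm, smul_zero]
      · show (SpecialLinearGroup.transvection hij c).1 = _
        rw [SpecialLinearGroup.transvection_coe, vecMulVec_smul]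
        congr 1
        ext a b
        by_cases ha : a = i <;> by_cases hb : b = j <;>
          simp [vecMulVec, Matrix.single_apply, ha, hb, Pi.single_apply, Ne.symm, eq_comm (a := i), eq_comm (a := j)]
  exact (show s ∈ M.comap SpecialLinearGroup.toGL from hs ▸ Subgroup.mem_top s)

theorem card_specialLinear :
    Nat.card (specialLinear (Fin 3) F) =
      Fintype.card F ^ 3 * ((Fintype.card F - 1) ^ 2 * (Fintype.card F + 1)) *
        (Fintype.card F * Fintype.card F + Fintype.card F + 1) := by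
  have hq : 1 < Fintype.card F := Fintype.one_lt_card
  have h := CfsgLib.Classical.sub_one_mul_card_SL (F := F) (n := 3) (by norm_num)
  rw [CfsgLib.Classical.card_SL_eq_card_ker_det, Fin.prod_univ_three] at h
  change (_ - 1) * Nat.card (specialLinear (Fin 3) F) = _ at h
  refine Nat.eq_of_mul_eq_mul_left (show 0 < Fintype.card F - 1 by omega) (h.trans ?_)
  obtain ⟨r, hr⟩ : ∃ r, Fintype.card F = r + 1 := ⟨_, (Nat.sub_add_cancel hq.le).symm⟩
  rw [hr]
  simp only [Fin.val_zero, Fin.val_one, Fin.val_two, pow_zero, pow_one, Nat.add_sub_cancel]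
  rw [show (r + 1) ^ 3 - 1 = r * ((r + 1) * (r + 1) + (r + 1) + 1) from
      Nat.sub_eq_of_eq_add (by ring),
    show (r + 1) ^ 3 - (r + 1) = r * (r + 1) * (r + 2) from Nat.sub_eq_of_eq_add (by ring),
    show (r + 1) ^ 3 - (r + 1) ^ 2 = r * (r + 1) ^ 2 from Nat.sub_eq_of_eq_add (by ring)]
  ring

theorem card_scalars_inf :
    Nat.card (scalars (Fin 3) F ⊓ specialLinear (Fin 3) F : Subgroup (GL (Fin 3) F)) =
      if Fintype.card F % 3 = 1 then 3 else 1 := by
  classical
  let f : Fˣ →* GL (Fin 3) F := Units.map (Matrix.scalar (Fin 3) : F →+* Matrix (Fin 3) (Fin 3) F).toMonoidHom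
  have hinj : Function.Injective f := fun a b h =>
    Units.ext (Matrix.scalar_inj.mp (congrArg Units.val h))
  have e : (scalars (Fin 3) F ⊓ specialLinear (Fin 3) F : Subgroup (GL (Fin 3) F)) =
      (powMonoidHom 3 : Fˣ →* Fˣ).ker.map f := by
    have hd : ∀ c : Fˣ, Matrix.GeneralLinearGroup.det (f c) = c ^ 3 := fun c => Units.ext (by simp [f])
    ext g
    constructor
    · rintro ⟨⟨c, rfl⟩, hg⟩
      refine ⟨c, ?_, rfl⟩
      show c ^ 3 = 1
      rw [← hd]; exact hg
    · rintro ⟨c, hc, rfl⟩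
      refine ⟨⟨c, rfl⟩, ?_⟩
      show Matrix.GeneralLinearGroup.det (f c) = 1
      rw [hd]; exact hc
  rw [e, Subgroup.card_map_of_injective hinj, IsCyclic.card_powMonoidHom_ker, Nat.card_units,
    Nat.card_eq_fintype_card]
  have hq : 1 < Fintype.card F := Fintype.one_lt_card
  have h3 : Nat.gcd (Fintype.card F - 1) 3 ∣ 3 := Nat.gcd_dvd_right _ _
  rcases (Nat.dvd_prime (by norm_num)).mp h3 with h | h
  · rw [h, if_neg]
    intro hmod
    have : 3 ∣ Nat.gcd (Fintype.card F - 1) 3 := Nat.dvd_gcd (by omega) dvd_rfl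
    omega
  · rw [h, if_pos]
    have : 3 ∣ Fintype.card F - 1 := h ▸ Nat.gcd_dvd_left _ _
    omega

/-- The Singer normaliser is maximal in `SL₃(q)`. -/
theorem singer_SL_maximal {F : Type u} [Field F] [Fintype F] :
    Fintype.card F ≠ 4 → ∀ K : Subalgebra F (Matrix (Fin 3) (Fin 3) F),
      Cfsg.Geo.IsFieldSubalgebra 3 K → Cfsg.Geo.IsMaximalIn (Cfsg.Geo.specialLinear (Fin 3) F)
        (Cfsg.Geo.subalgebraNormalizer K ⊓ Cfsg.Geo.specialLinear (Fin 3) F) := by
  classical
  intro h4 K hK
  obtain ⟨p, hchar⟩ := CharP.exists F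
  haveI := hchar
  obtain ⟨f, hp, hf⟩ := FiniteField.card F p
  haveI : Fact p.Prime := ⟨hp⟩
  set q := Fintype.card F with hqdef
  have hq : 2 ≤ q := Fintype.one_lt_card
  set S := specialLinear (Fin 3) F
  set T := unitsK K ⊓ S
  set H := subalgebraNormalizer K ⊓ S with hH
  set Z := scalars (Fin 3) F ⊓ S
  set n := q * q + q + 1 with hn
  set d := if q % 3 = 1 then 3 else 1 with hd
  have hcube : q ^ 3 - 1 = (q - 1) * n := by
    obtain ⟨r, hr⟩ : ∃ r, q = r + 1 := ⟨q - 1, by omega⟩
    rw [hn, hr, Nat.add_sub_cancel]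
    exact Nat.sub_eq_of_eq_add (by ring)
  have hunits : Nat.card Fˣ = q - 1 := by rw [Nat.card_units, Nat.card_eq_fintype_card]
  have hTc : Nat.card T = n := by
    have h := card_inf_ker (unitsK K) Matrix.GeneralLinearGroup.det (exists_det hK)
    rw [card_unitsK hK, ← hqdef, hcube, hunits] at h
    exact (Nat.eq_of_mul_eq_mul_left (show 0 < q - 1 by omega) h).symm
  have hHc : Nat.card H = 3 * n := by
    have h := card_inf_ker (subalgebraNormalizer K) Matrix.GeneralLinearGroup.det fun c => by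
      obtain ⟨g, hg, e⟩ := exists_det hK c
      exact ⟨g, units_le_normalizer hK hg, e⟩
    rw [(card_normalizer hK).1, ← hqdef, hcube, hunits, mul_left_comm] at h
    exact (Nat.eq_of_mul_eq_mul_left (show 0 < q - 1 by omega) h).symm
  have hZc : Nat.card Z = d := card_scalars_inf
  have hZT : Z ≤ T := inf_le_inf_right _ (scalars_le hK)
  have hTH : T ≤ H := inf_le_inf_right _ (units_le_normalizer hK)
  set nb := Z.relIndex T with hnb
  have hdn : d * nb = n := by rw [← hZc, hnb, card_mul_relIndex hZT, hTc]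
  have h3 : Nat.Coprime nb 3 ∧ 2 ≤ nb := by
    obtain ⟨t, r, ht, hr⟩ : ∃ t r, q = 3 * t + r ∧ r < 3 := ⟨q / 3, q % 3, by omega, Nat.mod_lt _ (by norm_num)⟩
    have hnum : n = 9 * (t * t) + 6 * (t * r) + r * r + 3 * t + r + 1 := by rw [hn, ht]; ring
    have hco : ¬ 3 ∣ nb := by
      intro hdvd
      interval_cases r
      · rw [hd, if_neg (by omega)] at hdn; omega
      · rw [hd, if_pos (by omega)] at hdn; omega
      · rw [hd, if_neg (by omega)] at hdn; omega
    refine ⟨((Nat.prime_three.coprime_iff_not_dvd).mpr hco).symm, ?_⟩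
    have : 7 ≤ n := by rw [hn]; nlinarith
    rw [hd] at hdn
    split_ifs at hdn <;> omega
  obtain ⟨t, ht, hts⟩ : ∃ t ∈ T, ∀ c : F, t.1 ≠ c • 1 := by
    by_contra hall
    push Not at hall
    have : T ≤ Z := fun t ht => by
      obtain ⟨c, hc⟩ := hall t ht
      refine ⟨(mem_scalars_iff t).mpr ⟨Units.mk0 c ?_, hc⟩, ht.2⟩
      intro hc0
      exact t.isUnit.ne_zero (by rw [hc, hc0, zero_smul])
    have := Subgroup.card_le_of_le this
    rw [hTc, hZc, ← hdn] at this
    have : d * 2 ≤ d * nb := Nat.mul_le_mul_left _ h3.2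
    have : 1 ≤ d := by rw [hd]; split_ifs <;> norm_num
    omega
  have hcardS := card_specialLinear (F := F)
  rw [← hqdef, ← hn] at hcardS
  refine ⟨lt_of_le_of_ne inf_le_right fun e => ?_, fun M hHM hMS => ?_⟩
  · have h1 : Nat.card H = Nat.card S := by rw [e]
    rw [hHc, hcardS] at h1
    have h2 : 3 = q ^ 3 * ((q - 1) ^ 2 * (q + 1)) :=
      Nat.eq_of_mul_eq_mul_right (by omega) h1
    have : 2 ^ 3 ≤ q ^ 3 := Nat.pow_le_pow_left hq 3
    have : 1 ≤ (q - 1) ^ 2 * (q + 1) := Nat.one_le_iff_ne_zero.mpr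
      (mul_ne_zero (pow_ne_zero _ (by omega)) (by omega))
    nlinarith
  set k := H.relIndex M with hk
  set m := M.relIndex S with hm
  have hkM : 3 * n * k = Nat.card M := by rw [← hHc]; exact card_mul_relIndex hHM
  have hmS : Nat.card M * m = Nat.card S := card_mul_relIndex hMS
  have hkm : 3 * k * m = q ^ 3 * (q - 1) ^ 2 * (q + 1) := by
    refine Nat.eq_of_mul_eq_mul_right (show 0 < n by omega) ?_
    calc 3 * k * m * n = 3 * n * k * m := by ring
      _ = Nat.card S := by rw [hkM, hmS]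
      _ = _ := by rw [hcardS]; ring
  have hk1 : k % nb = 1 := relIndex_mod hTH hHM hZT
    (fun z hz g => by
      obtain ⟨c, hc⟩ := (mem_scalars_iff z).mp hz.1
      exact Units.ext (by rw [Units.val_mul, Units.val_mul, hc, mul_smul_comm, smul_mul_assoc, mul_one, one_mul]))
    (fun h hh => ⟨(card_normalizer hK).2 h hh.1, pow_mem hh.2 3⟩)
    (fun x hx t ht htx => by
      by_cases hsc : ∀ c : F, t.1 ≠ c • 1
      · left
        refine ⟨?_, hMS hx⟩
        have := mem_normalizer_of_conj hK ht.1 hsc (g := x⁻¹) (by simpa using htx.1)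
        simpa using inv_mem this
      · push Not at hsc
        obtain ⟨c, hc⟩ := hsc
        refine Or.inr ⟨(mem_scalars_iff t).mpr ⟨Units.mk0 c ?_, hc⟩, ht.2⟩
        intro hc0
        exact t.isUnit.ne_zero (by rw [hc, hc0, zero_smul]))
    rfl h3.1 h3.2
  have hm1 : m % nb = 1 := by
    have hR : (0 : ℤ) ≤ (d : ℤ) * ((q : ℤ) ^ 4 - 2 * (q : ℤ) ^ 3 + 3 * q - 3) := by
      have : (2 : ℤ) ≤ q := by exact_mod_cast hq
      refine mul_nonneg (by positivity) ?_
      nlinarith [pow_nonneg (show (0 : ℤ) ≤ q by linarith) 3]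
    refine Arith.cofactor_mod h3.2 h3.1 hk1
      (R := ((d : ℤ) * ((q : ℤ) ^ 4 - 2 * (q : ℤ) ^ 3 + 3 * q - 3)).toNat) (Or.inl ?_)
    rw [Int.toNat_of_nonneg hR]
    have e : (3 * k * m : ℤ) = (q : ℤ) ^ 3 * ((q : ℤ) - 1) ^ 2 * ((q : ℤ) + 1) := by
      have := congrArg (fun x : ℕ => (x : ℤ)) hkm
      push_cast [Nat.cast_sub (show 1 ≤ q by omega)] at this
      exact this
    have e2 : (d : ℤ) * nb = (q : ℤ) * q + q + 1 := by exact_mod_cast hdn
    rw [e]
    linear_combination (-((q : ℤ) ^ 4 - 2 * (q : ℤ) ^ 3 + 3 * q - 3)) * e2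
  have h10 : q ≠ 10 := fun e => by
    have h2 : (2 : ℕ) ∣ p := by
      have : 2 ∣ p ^ (f : ℕ) := ⟨5, by rw [← hf, e]⟩
      exact Nat.prime_two.dvd_of_dvd_pow this
    have h5 : (5 : ℕ) ∣ p := by
      have : 5 ∣ p ^ (f : ℕ) := ⟨2, by rw [← hf, e]⟩
      exact (by norm_num : Nat.Prime 5).dvd_of_dvd_pow this
    have := (Nat.prime_dvd_prime_iff_eq Nat.prime_two hp).mp h2
    omega
  have hkone : k = 1 → M = H := fun e => (Subgroup.eq_of_le_of_card_ge hHM (by rw [← hkM, e, mul_one, hHc])).symm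
  have htM : t ∈ M := hHM (hTH ht)
  rcases Arith.lin_cases hq h4 h10 hd hdn hk1 hm1 hkm with e | e | e | e
  · exact Or.inl (hkone e)
  · exact Or.inr (Subgroup.eq_of_le_of_card_ge hMS (by rw [← hmS, e, mul_one]))
  · refine Or.inr (le_antisymm hMS ?_)
    have hdvd : p ^ (3 * (f : ℕ)) ∣ Nat.card M := by
      rw [← hkM, e, hf, ← pow_mul, mul_comm (f : ℕ) 3]
      exact dvd_mul_left _ _
    haveI : Finite M := Finite.of_injective Subtype.val Subtype.val_injective
    obtain ⟨P, hP⟩ := Sylow.exists_subgroup_card_pow_prime p hdvd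
    refine specialLinear_le p hK (M := M) (P := P.map M.subtype) (Subgroup.map_subtype_le P) ?_ ht.1 htM hts
    rw [Subgroup.card_map_of_injective M.subtype_injective, hP, ← hqdef, hf, ← pow_mul, mul_comm]
  · have h3k : 3 * k = (q - 1) ^ 2 * (q + 1) := by
      refine Nat.eq_of_mul_eq_mul_right (show 0 < q ^ 3 by positivity) ?_
      rw [e] at hkm
      rw [hkm]; ring
    rcases (show q = 2 ∨ q = 3 ∨ 3 < q by omega) with e2 | e2 | e2
    · rw [e2] at h3k
      exact Or.inl (hkone (by omega))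
    · rw [e2] at h3k
      omega
    exfalso
    have hMc : Nat.card M = n * ((q - 1) ^ 2 * (q + 1)) := by rw [← hkM, ← h3k]; ring
    have hpq : p ∣ q := hf ▸ dvd_pow_self p (by simp [f.ne_zero])
    have hpM : ¬ p ∣ Nat.card M := by
      rw [hMc]
      intro hdvd
      rcases hp.dvd_mul.mp hdvd with h | h
      · refine hp.one_lt.ne' (Nat.dvd_one.mp ((Nat.dvd_add_right ?_).mp h))
        exact dvd_add (hpq.mul_right _) hpq
      rcases hp.dvd_mul.mp h with h | h
      · refine hp.one_lt.ne' (Nat.dvd_one.mp ?_)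
        have := Nat.dvd_sub hpq (hp.dvd_of_dvd_pow h)
        rwa [show q - (q - 1) = 1 by omega] at this
      · exact hp.one_lt.ne' (Nat.dvd_one.mp ((Nat.dvd_add_right hpq).mp h))
    obtain ⟨h5, g, hg, ψ, hψ, hge⟩ := small_of_card (p := p) hMS hpM (by omega)
      (by
        rw [hMc, ← hqdef, ← hn, show q ^ 2 - 1 = (q + 1) * (q - 1) by
          obtain ⟨r, hr⟩ : ∃ r, q = r + 1 := ⟨q - 1, by omega⟩
          rw [hr, Nat.add_sub_cancel]; exact Nat.sub_eq_of_eq_add (by ring)]
        exact le_of_eq (by ring))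
    exact not_five (by omega) hMS hpM hK (hTH.trans hHM) hg hψ hge

end CfsgLib.ThreeMax
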