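import Cfsg.Agent.Lib.Classical.ThreeMax.SingerPoint
import Cfsg.Agent.Lib.Classical.ThreeMax.SingerOrbit
import Cfsg.Agent.Lib.Classical.UnitaryOrder

/-!
Subgroups of even order of `SU₃` in characteristic two: the stabiliser of an isotropic point fixed by a
Sylow subgroup.
-/

set_option autoImplicit false
set_option linter.unusedSectionVars false

namespace CfsgLib.ThreeMax.SUTwo

open Matrix
open Cfsg.Geo (specialLinear)
open CfsgLib.ClassicalAut (Unitary.Conj Unitary.herm_apply)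
open scoped MatrixGroups

variable {F : Type*} [Field F] [Fintype F] {q : ℕ} (K : Unitary.Conj F q)

local notation "V" => (Fin 3 → F)

/-- The conjugate vector. -/
def cv (v : V) : V := fun i => K.bar (v i)

/-- The standard hermitian product. -/
def hb (x y : V) : F := x ⬝ᵥ cv K y

theorem hb_eq (x y : V) : Cfsg.hermForm 3 F q x y = hb K x y := Unitary.herm_apply K x y

theorem cv_smul (c : F) (v : V) : cv K (c • v) = K.bar c • cv K v := funext fun i => map_mul K.bar c (v i)

theorem cv_cv (v : V) : cv K (cv K v) = v := funext fun i => K.bar_bar (v i)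

theorem cv_zero : cv K (0 : V) = 0 := funext fun _ => map_zero K.bar

theorem hb_swap (x y : V) : hb K y x = K.bar (hb K x y) := by
  simp only [hb, cv, dotProduct, map_sum, map_mul, K.bar_bar, mul_comm]

theorem hb_add_left (x y z : V) : hb K (x + y) z = hb K x z + hb K y z := add_dotProduct _ _ _

theorem hb_sub_left (x y z : V) : hb K (x - y) z = hb K x z - hb K y z := sub_dotProduct _ _ _

theorem hb_smul_left (c : F) (x z : V) : hb K (c • x) z = c * hb K x z := smul_dotProduct _ _ _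

theorem hb_smul_right (c : F) (x z : V) : hb K x (c • z) = K.bar c * hb K x z := by
  rw [hb, cv_smul, dotProduct_smul]; rfl

theorem hb_zero_left (z : V) : hb K 0 z = 0 := zero_dotProduct _

theorem hb_zero_right (x : V) : hb K x 0 = 0 := by rw [hb, cv_zero, dotProduct_zero]

theorem hb_sum_left {ι : Type*} (s : Finset ι) (f : ι → V) (z : V) :
    hb K (∑ i ∈ s, f i) z = ∑ i ∈ s, hb K (f i) z := sum_dotProduct _ _ _

theorem hb_g {g : GL (Fin 3) F} (hg : g ∈ Cfsg.GU 3 F q) (x y : V) :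
    hb K (g.1 *ᵥ x) (g.1 *ᵥ y) = hb K x y := by
  rw [← hb_eq, ← hb_eq]; exact hg x y

theorem exists_smul_of_cross {a b : V} (ha : a ≠ 0) (h : ∀ j, (a ⨯₃ b) j = 0) : ∃ c : F, b = c • a := by
  obtain ⟨i, hi⟩ := Function.ne_iff.mp ha
  refine ⟨b i / a i, funext fun j => ?_⟩
  have h0 := h 0
  have h1 := h 1
  have h2 := h 2
  simp [crossProduct] at h0 h1 h2
  have hpair : a i * b j = a j * b i := by
    fin_cases i <;> fin_cases j <;> simp only [Fin.zero_eta, Fin.mk_one, Fin.reduceFinMk] <;>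
      first
        | ring1
        | linear_combination h0
        | linear_combination h1
        | linear_combination h2
        | linear_combination -h0
        | linear_combination -h1
        | linear_combination -h2
  have hi' : a i ≠ 0 := hi
  rw [Pi.smul_apply, smul_eq_mul]
  field_simp
  linear_combination hpair

/-- Orthogonal isotropic vectors are proportional. -/
theorem totally {v x : V} (hv0 : v ≠ 0) (hv : hb K v v = 0) (hx : hb K x x = 0) (hxv : hb K x v = 0) :
    ∃ c : F, x = c • v := by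
  by_cases hz : ∀ j, (v ⨯₃ x) j = 0
  · exact exists_smul_of_cross hv0 hz
  push Not at hz
  obtain ⟨j, hj⟩ := hz
  have hvx : hb K v x = 0 := by rw [hb_swap, hxv, map_zero]
  have e1 := prop_of_cross (φ := cv K v) (by rw [dotProduct_comm]; exact hv)
    (by rw [dotProduct_comm]; exact hxv) hj
  have e2 := prop_of_cross (φ := cv K x) (by rw [dotProduct_comm]; exact hvx)
    (by rw [dotProduct_comm]; exact hx) hj
  set z := v ⨯₃ x
  set a := cv K v j / z j
  set b := cv K x j / z j
  have ha : a ≠ 0 := fun e => hv0 (by rw [← cv_cv K v, e1, e, zero_smul, cv_zero])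
  have e3 : cv K x = (b / a) • cv K v := by rw [e1, e2, smul_smul, div_mul_cancel₀ _ ha]
  exact ⟨K.bar (b / a), by rw [← cv_cv K x, e3, cv_smul, cv_cv]⟩

/-- The third vector of a frame with a hyperbolic pair. -/
theorem exists_perp {v x : V} (hv0 : v ≠ 0) (hv : hb K v v = 0) (hxv : hb K x v ≠ 0) :
    ∃ y : V, hb K y y ≠ 0 ∧ hb K y v = 0 ∧ hb K y x = 0 ∧
      ∀ w : V, ∃ a b e : F, w = a • v + b • x + e • y := by
  have hvx : hb K v x ≠ 0 := by rw [hb_swap]; exact (map_ne_zero K.bar).2 hxv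
  set y := cv K v ⨯₃ cv K x with hy
  have hy0 : y ≠ 0 := by
    intro e
    obtain ⟨c, hc⟩ := exists_smul_of_cross (a := cv K v) (b := cv K x)
      (fun e' => hv0 (by rw [← cv_cv K v, e', cv_zero])) (fun j => by rw [← hy, e]; rfl)
    refine hxv ?_
    rw [← cv_cv K x, hc, cv_smul, cv_cv, hb_smul_left, hv, mul_zero]
  have hyv : hb K y v = 0 := by rw [hb, dotProduct_comm, hy, dot_self_cross]
  have hyx : hb K y x = 0 := by rw [hb, dotProduct_comm, hy, dot_cross_self]
  have hyy : hb K y y ≠ 0 := by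
    intro e
    obtain ⟨c, hc⟩ := totally K hv0 hv e hyv
    rw [hc, hb_smul_left] at hyx
    rcases mul_eq_zero.mp hyx with h | h
    · exact hy0 (by rw [hc, h, zero_smul])
    · exact hvx h
  refine ⟨y, hyy, hyv, hyx, fun w => ?_⟩
  set b := hb K w v / hb K x v
  set a := (hb K w x - b * hb K x x) / hb K v x
  set w' := w - a • v - b • x with hw'
  have w1 : hb K w' v = 0 := by
    rw [hw', hb_sub_left, hb_sub_left, hb_smul_left, hb_smul_left, hv]
    simp only [b]; field_simp; ring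
  have w2 : hb K w' x = 0 := by
    rw [hw', hb_sub_left, hb_sub_left, hb_smul_left, hb_smul_left]
    simp only [a]; field_simp; ring
  by_cases hz : ∀ j, (y ⨯₃ w') j = 0
  · obtain ⟨e, he⟩ := exists_smul_of_cross hy0 hz
    exact ⟨a, b, e, by rw [← he, hw']; abel⟩
  push Not at hz
  obtain ⟨j, hj⟩ := hz
  exfalso
  have e1 := prop_of_cross (φ := cv K v) (by rw [dotProduct_comm]; exact hyv)
    (by rw [dotProduct_comm]; exact w1) hj
  have e2 := prop_of_cross (φ := cv K x) (by rw [dotProduct_comm]; exact hyx)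
    (by rw [dotProduct_comm]; exact w2) hj
  set z := y ⨯₃ w'
  set c := cv K v j / z j
  have hc : c ≠ 0 := fun e => hv0 (by rw [← cv_cv K v, e1, e, zero_smul, cv_zero])
  set d := cv K x j / z j
  have e3 : cv K x = (d / c) • cv K v := by rw [e1, e2, smul_smul, div_mul_cancel₀ _ hc]
  refine hxv ?_
  rw [← cv_cv K x, e3, cv_smul, cv_cv, hb_smul_left, hv, mul_zero]

/-- An isometry of determinant one fixing a hyperbolic pair is trivial. -/
theorem eq_one_of_fix {g : GL (Fin 3) F} (hg : g ∈ Cfsg.GU 3 F q) (hd : g.1.det = 1) {v x : V} (hv0 : v ≠ 0)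
    (hv : hb K v v = 0) (hxv : hb K x v ≠ 0) (gv : g.1 *ᵥ v = v) (gx : g.1 *ᵥ x = x) : g = 1 := by
  obtain ⟨y, hyy, hyv, hyx, hdec⟩ := exists_perp K hv0 hv hxv
  obtain ⟨a, b, c, hc⟩ := hdec (g.1 *ᵥ y)
  have h1 : hb K (g.1 *ᵥ y) v = 0 := by
    calc _ = hb K (g.1 *ᵥ y) (g.1 *ᵥ v) := by rw [gv]
      _ = 0 := by rw [hb_g K hg, hyv]
  have h2 : hb K (g.1 *ᵥ y) x = 0 := by
    calc _ = hb K (g.1 *ᵥ y) (g.1 *ᵥ x) := by rw [gx]
      _ = 0 := by rw [hb_g K hg, hyx]
  rw [hc, hb_add_left, hb_add_left, hb_smul_left, hb_smul_left, hb_smul_left, hv, hyv] at h1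
  rw [hc, hb_add_left, hb_add_left, hb_smul_left, hb_smul_left, hb_smul_left, hyx] at h2
  have hb0 : b = 0 := by simpa [hxv] using h1
  have hvx : hb K v x ≠ 0 := by rw [hb_swap]; exact (map_ne_zero K.bar).2 hxv
  have ha0 : a = 0 := by simpa [hb0, hvx] using h2
  have gy : g.1 *ᵥ y = c • y := by rw [hc, ha0, hb0]; simp
  have hrank : g.1 = 1 + vecMulVec y (((c - 1) / hb K y y) • cv K y) := by
    refine Matrix.toLin'.injective (LinearMap.ext fun w => ?_)
    obtain ⟨a, b, e, rfl⟩ := hdec w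
    have hvy : hb K v y = 0 := by rw [hb_swap, hyv, map_zero]
    have hxy : hb K x y = 0 := by rw [hb_swap, hyx, map_zero]
    rw [Matrix.toLin'_apply, Matrix.toLin'_apply, add_mulVec, one_mulVec, vecMulVec_mulVec, smul_dotProduct,
      dotProduct_comm, show (a • v + b • x + e • y) ⬝ᵥ cv K y = hb K (a • v + b • x + e • y) y from rfl,
      hb_add_left, hb_add_left, hb_smul_left, hb_smul_left, hb_smul_left, hvy, hxy]
    simp only [mulVec_add, mulVec_smul, gv, gx, gy]
    funext i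
    simp
    field_simp
    ring
  have hc1 : c = 1 := by
    rw [hrank, Matrix.det_fin_three] at hd
    have e : y 0 * cv K y 0 + y 1 * cv K y 1 + y 2 * cv K y 2 = hb K y y := by
      simp [hb, dotProduct, Fin.sum_univ_three]
    simp [vecMulVec] at hd
    field_simp at hd
    have hmul : (c - 1) * hb K y y = 0 := by
      rw [← e] at hd ⊢
      have hyy' : y 0 * cv K y 0 + y 1 * cv K y 1 + y 2 * cv K y 2 ≠ 0 := e ▸ hyy
      refine mul_left_cancel₀ (pow_ne_zero 2 hyy') ?_
      rw [mul_zero]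
      linear_combination hd
    rcases mul_eq_zero.mp hmul with h | h
    · exact sub_eq_zero.mp h
    · exact absurd h hyy
  refine Units.ext (hrank.trans ?_)
  simp [hc1]

theorem exists_partner {v : V} (hv0 : v ≠ 0) : ∃ x : V, hb K x v ≠ 0 := by
  obtain ⟨i, hi⟩ := Function.ne_iff.mp hv0
  refine ⟨Pi.single i 1, ?_⟩
  rw [hb, single_dotProduct, one_mul]
  exact (map_ne_zero K.bar).2 hi

/-- An eigenvector off the orthogonal of a fixed isotropic point. -/
theorem exists_eigen {a : GL (Fin 3) F} (ha : a ∈ Cfsg.GU 3 F q) {v : V} (hv0 : v ≠ 0) {l m : F}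
    (hav : a.1 *ᵥ v = l • v) (hlm : m * K.bar l = 1) {r : ℕ} (har : a ^ r = 1) (hr : (r : F) ≠ 0) :
    ∃ y : V, hb K y v ≠ 0 ∧ a.1 *ᵥ y = m • y := by
  obtain ⟨x, hx⟩ := exists_partner K hv0
  have hl : l ≠ 0 := fun e => by simp [e] at hlm
  have hm : m ≠ 0 := fun e => by simp [e] at hlm
  have step : ∀ z : V, hb K (a.1 *ᵥ z) v = m * hb K z v := by
    intro z
    have h := hb_g K ha z v
    rw [hav, hb_smul_right] at h
    linear_combination m * h - hb K (a.1 *ᵥ z) v * hlm
  have hpow : ∀ i : ℕ, hb K ((a.1 ^ i) *ᵥ x) v = m ^ i * hb K x v := by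
    intro i
    induction i with
    | zero => simp
    | succ i ih => rw [pow_succ', ← mulVec_mulVec, step, ih]; ring
  have har' : a.1 ^ r = 1 := by rw [← Units.val_pow_eq_pow_val, har]; rfl
  have hmr : m ^ r = 1 := by
    have h := hpow r
    rw [har', one_mulVec] at h
    exact (mul_eq_right₀ hx).mp h.symm
  let f : ℕ → V := fun i => (m ^ i)⁻¹ • ((a.1 ^ i) *ᵥ x)
  refine ⟨∑ i ∈ Finset.range r, f i, ?_, ?_⟩
  · rw [hb_sum_left, Finset.sum_congr rfl fun i _ => show hb K (f i) v = hb K x v by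
      rw [hb_smul_left, hpow, ← mul_assoc, inv_mul_cancel₀ (pow_ne_zero i hm), one_mul]]
    simp [hr, hx]
  · have hsucc : ∀ i, a.1 *ᵥ f i = m • f (i + 1) := fun i => by
      simp only [f, mulVec_smul, mulVec_mulVec, smul_smul, ← pow_succ']
      congr 1
      field_simp
      ring
    rw [mulVec_sum, Finset.sum_congr rfl fun i _ => hsucc i, ← Finset.smul_sum]
    congr 1
    have h1 := Finset.sum_range_succ f r
    have h2 := Finset.sum_range_succ' f r
    have e : f r = f 0 := by simp [f, hmr, har']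
    rw [h1, e] at h2
    exact (add_right_cancel h2).symm

theorem det_eq {M : Subgroup (GL (Fin 3) F)} (hM : M ≤ Cfsg.GU 3 F q ⊓ specialLinear (Fin 3) F)
    {g : GL (Fin 3) F} (hg : g ∈ M) : g.1.det = 1 :=
  congrArg Units.val (MonoidHom.mem_ker.mp (hM hg).2)

/-- An element of order prime to the characteristic fixing an isotropic vector is trivial. -/
theorem eq_one_of_pow {g : GL (Fin 3) F} (hg : g ∈ Cfsg.GU 3 F q) (hd : g.1.det = 1) {v : V} (hv0 : v ≠ 0)
    (hv : hb K v v = 0) (gv : g.1 *ᵥ v = v) {r : ℕ} (hgr : g ^ r = 1) (hr : (r : F) ≠ 0) : g = 1 := by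
  obtain ⟨y, hy, gy⟩ := exists_eigen K hg hv0 (l := 1) (m := 1) (by rw [one_smul, gv]) (by simp) hgr hr
  exact eq_one_of_fix K hg hd hv0 hv hy gv (by rw [gy, one_smul])

/-- A non-trivial torus element centralises no unipotent element. -/
theorem eq_one_of_comm {a z : GL (Fin 3) F} (ha : a ∈ Cfsg.GU 3 F q) (hz : z ∈ Cfsg.GU 3 F q)
    (hd : z.1.det = 1) {v : V} (hv0 : v ≠ 0) (hv : hb K v v = 0) {l : F} (hav : a.1 *ᵥ v = l • v)
    (hl : l * K.bar l ≠ 1) (zv : z.1 *ᵥ v = v) (hcomm : z * a = a * z) {r : ℕ} (har : a ^ r = 1)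
    (hr : (r : F) ≠ 0) : z = 1 := by
  have hl0 : l ≠ 0 := by
    intro e
    rw [e, zero_smul] at hav
    exact hv0 (Matrix.mulVec_injective_iff_isUnit.mpr a.isUnit (hav.trans (Matrix.mulVec_zero _).symm))
  have hbl : K.bar l ≠ 0 := (map_ne_zero K.bar).2 hl0
  set m := (K.bar l)⁻¹
  obtain ⟨y, hy, ay⟩ := exists_eigen K ha hv0 hav (inv_mul_cancel₀ hbl : m * K.bar l = 1) har hr
  set w := z.1 *ᵥ y - y with hw
  have hwv : hb K w v = 0 := by
    rw [hw, hb_sub_left]
    nth_rw 1 [← zv]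
    rw [hb_g K hz, sub_self]
  have aw : a.1 *ᵥ w = m • w := by
    rw [hw, mulVec_sub, mulVec_mulVec, ← Units.val_mul, ← hcomm, Units.val_mul, ← mulVec_mulVec, ay,
      mulVec_smul, smul_sub]
  have hmm : m * K.bar m ≠ 1 := by
    simp only [m, map_inv₀, K.bar_bar, ← mul_inv]
    intro e
    rw [inv_eq_one, mul_comm] at e
    exact hl e
  have hww : hb K w w = 0 := by
    have h := hb_g K ha w w
    rw [aw, hb_smul_left, hb_smul_right, ← mul_assoc] at h
    exact (mul_left_eq_self₀.mp h).resolve_left hmm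
  obtain ⟨c, hc⟩ := totally K hv0 hv hww hwv
  have hw0 : w = 0 := by
    rw [hc, mulVec_smul, hav, smul_smul, smul_smul] at aw
    by_cases hc0 : c = 0
    · rw [hc, hc0, zero_smul]
    exfalso
    have hlm : l = m := mul_left_cancel₀ hc0 ((smul_left_injective F hv0 aw).trans (mul_comm _ _))
    refine hl ?_
    rw [hlm]
    nth_rw 2 [← hlm]
    exact inv_mul_cancel₀ hbl
  exact eq_one_of_fix K hz hd hv0 hv hy zv (sub_eq_zero.mp hw0)

/-- A `2`-group fixes an isotropic vector. -/
theorem exists_fixed [CharP F 2] {P : Subgroup (GL (Fin 3) F)} (hP : IsPGroup 2 P)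
    (hPU : P ≤ Cfsg.GU 3 F q) : ∃ v : V, v ≠ 0 ∧ hb K v v = 0 ∧ ∀ g ∈ P, g.1 *ᵥ v = v := by
  classical
  haveI : Fact (Nat.Prime 2) := ⟨Nat.prime_two⟩
  have h2 : ∀ z : V, z + z = 0 := fun z => funext fun i => CharTwo.add_self_eq_zero (z i)
  have heven : ∀ W : Submodule F V, (∃ w ∈ W, w ≠ 0) → 2 ∣ Nat.card W := by
    intro W ⟨w, hw, hw0⟩
    have h : addOrderOf (⟨w, hw⟩ : W) = 2 := addOrderOf_eq_prime
      (by rw [two_nsmul]; exact Subtype.ext (h2 w)) fun e => hw0 (congrArg Subtype.val e)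
    exact h ▸ addOrderOf_dvd_natCard _
  have key : ∀ W : Submodule F V, (∀ g ∈ P, ∀ w ∈ W, g.1 *ᵥ w ∈ W) → (∃ w ∈ W, w ≠ 0) →
      ∃ w ∈ W, w ≠ 0 ∧ ∀ g ∈ P, g.1 *ᵥ w = w := by
    intro W hinv hne
    letI : MulAction P W :=
      { smul := fun g w => ⟨g.1.1 *ᵥ w.1, hinv g g.2 w w.2⟩
        one_smul := fun w => Subtype.ext (one_mulVec w.1)
        mul_smul := fun a b w => Subtype.ext (mulVec_mulVec w.1 a.1.1 b.1.1).symm }
    obtain ⟨w, hw, hw0⟩ := hP.exists_fixed_point_of_prime_dvd_card_of_fixed_point W (heven W hne)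
      (a := 0) (fun g => Subtype.ext (mulVec_zero g.1.1))
    exact ⟨w, w.2, fun e => hw0 (Subtype.ext e.symm), fun g hg => congrArg Subtype.val (hw ⟨g, hg⟩)⟩
  obtain ⟨v, -, hv0, hvfix⟩ := key ⊤ (fun _ _ _ _ => trivial)
    ⟨Pi.single 0 1, trivial, by simp⟩
  by_cases hv : hb K v v = 0
  · exact ⟨v, hv0, hv, hvfix⟩
  let W : Submodule F V :=
    { carrier := {w | hb K w v = 0}
      zero_mem' := hb_zero_left K v
      add_mem' := fun {a b} (ha : hb K a v = 0) (hb' : hb K b v = 0) => by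
        show hb K (a + b) v = 0
        rw [hb_add_left, ha, hb', add_zero]
      smul_mem' := fun c w (hw : hb K w v = 0) => by
        show hb K (c • w) v = 0
        rw [hb_smul_left, hw, mul_zero] }
  obtain ⟨w, hw, hw0, hwfix⟩ := key W (fun g hg w (hw : hb K w v = 0) => by
      show hb K _ v = 0
      rw [← hvfix g hg, hb_g K (hPU hg), hw]) (by
      by_contra hall
      push Not at hall
      have e : ∀ i : Fin 3, cv K v ⨯₃ (Pi.single i 1 : V) = 0 := fun i => hall _ (by
        show hb K _ v = 0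
        rw [hb, dotProduct_comm, dot_self_cross])
      have hcv : cv K v = 0 := by
        funext j
        have a0 := e 0
        have a1 := e 1
        simp [crossProduct, funext_iff, Fin.forall_fin_succ, Pi.single_apply] at a0 a1
        fin_cases j <;> simp [a0, a1]
      exact hv0 (by rw [← cv_cv K v, hcv, cv_zero]))
  by_cases hww : hb K w w = 0
  · exact ⟨w, hw0, hww, hwfix⟩
  have hfix : ∀ z : V, K.bar (hb K z z) = hb K z z := fun z => (hb_swap K z z).symm
  obtain ⟨a, ha⟩ := K.exists_norm (-hb K w w / hb K v v) (by rw [map_div₀, map_neg, hfix, hfix])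
  refine ⟨a • v + w, fun e => hww ?_, ?_, fun g hg => by rw [mulVec_add, mulVec_smul, hvfix g hg, hwfix g hg]⟩
  · have hvw : hb K v w = 0 := by rw [hb_swap, (hw : hb K w v = 0), map_zero]
    have := congrArg (fun z => hb K z w) e
    simpa [hb_add_left, hb_smul_left, hvw, hb_zero_left] using this
  · have hvw : hb K v w = 0 := by rw [hb_swap, (hw : hb K w v = 0), map_zero]
    have e : hb K (a • v + w) (a • v + w) = a * K.bar a * hb K v v + hb K w w := by
      have e1 : ∀ x y : V, hb K x (a • v + y) = K.bar a * hb K x v + hb K x y := fun x y => by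
        rw [hb_swap, hb_add_left, map_add, ← hb_swap, ← hb_swap, hb_smul_right]
      rw [hb_add_left, hb_smul_left, e1, e1, hvw, (hw : hb K w v = 0)]
      ring
    rw [e, ha, div_mul_cancel₀ _ hv, neg_add_cancel]

/-- Orbit count with constant size. -/
theorem dvd_of_orbits {A α : Type*} [Group A] [MulAction A α] [Finite α] {c : ℕ}
    (h : ∀ x : α, Nat.card (MulAction.orbit A x) = c) : c ∣ Nat.card α := by
  haveI := Fintype.ofFinite (MulAction.orbitRel.Quotient A α)
  rw [Nat.card_congr (MulAction.selfEquivSigmaOrbits A α), Nat.card_sigma]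
  exact Finset.dvd_sum fun ω _ => by rw [h]

/-- Orbit count with one fixed point and the other orbits of constant size. -/
theorem mod_of_orbits {A α : Type*} [Group A] [MulAction A α] [Finite α] {c : ℕ} (hc : 2 ≤ c) (x0 : α)
    (h0 : ∀ a : A, a • x0 = x0) (h : ∀ x : α, x ≠ x0 → Nat.card (MulAction.orbit A x) = c) :
    Nat.card α % c = 1 := by
  classical
  haveI := Fintype.ofFinite (MulAction.orbitRel.Quotient A α)
  let ω0 : MulAction.orbitRel.Quotient A α := Quotient.mk'' x0
  have hout : ∀ ω : MulAction.orbitRel.Quotient A α, ω.out = x0 ↔ ω = ω0 := by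
    intro ω
    constructor
    · intro e; rw [← Quotient.out_eq' ω, e]
    · rintro rfl
      obtain ⟨a, ha⟩ := MulAction.orbitRel_apply.mp (Quotient.exact' (Quotient.out_eq' ω0))
      rw [← ha]; exact h0 a
  have hbase : Nat.card (MulAction.orbit A ω0.out) = 1 := by
    rw [(hout ω0).mpr rfl]
    have hs : MulAction.orbit A x0 = {x0} := Set.eq_singleton_iff_unique_mem.mpr
      ⟨MulAction.mem_orbit_self _, fun y ⟨a, ha⟩ => ha ▸ h0 a⟩
    rw [hs]
    exact Nat.card_unique
  rw [Nat.card_congr (MulAction.selfEquivSigmaOrbits A α), Nat.card_sigma,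
    ← Finset.add_sum_erase _ _ (Finset.mem_univ ω0), hbase,
    Finset.sum_congr rfl (fun ω hω => h ω.out fun e => Finset.ne_of_mem_erase hω ((hout ω).mp e)),
    Finset.sum_const, smul_eq_mul, Nat.add_mul_mod_self_right, Nat.mod_eq_of_lt hc]

/-- The point stabiliser. -/
def lineStab (M : Subgroup (GL (Fin 3) F)) {v : V} (hv0 : v ≠ 0) : Subgroup (GL (Fin 3) F) where
  carrier := {g | g ∈ M ∧ ∃ c : F, g.1 *ᵥ v = c • v}
  one_mem' := ⟨one_mem M, 1, by simp⟩
  mul_mem' := by
    rintro a b ⟨ha, c, hc⟩ ⟨hb', d, hd⟩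
    exact ⟨mul_mem ha hb', d * c, by rw [Units.val_mul, ← mulVec_mulVec, hd, mulVec_smul, hc, smul_smul]⟩
  inv_mem' := by
    rintro a ⟨ha, c, hc⟩
    refine ⟨inv_mem ha, c⁻¹, ?_⟩
    have h := congrArg ((a⁻¹ : GL (Fin 3) F).1 *ᵥ ·) hc
    simp only [mulVec_mulVec, Units.inv_mul, one_mulVec, mulVec_smul] at h
    have hc0 : c ≠ 0 := fun e => hv0 (by rw [h, e, zero_smul])
    nth_rw 2 [h]
    rw [smul_smul, inv_mul_cancel₀ hc0, one_smul]

/-- The vector stabiliser. -/
def vecStab (M : Subgroup (GL (Fin 3) F)) (v : V) : Subgroup (GL (Fin 3) F) where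
  carrier := {g | g ∈ M ∧ g.1 *ᵥ v = v}
  one_mem' := ⟨one_mem M, one_mulVec v⟩
  mul_mem' := by
    rintro a b ⟨ha, hc⟩ ⟨hb', hd⟩
    exact ⟨mul_mem ha hb', by rw [Units.val_mul, ← mulVec_mulVec, hd, hc]⟩
  inv_mem' := by
    rintro a ⟨ha, hc⟩
    refine ⟨inv_mem ha, ?_⟩
    nth_rw 1 [← hc]
    rw [mulVec_mulVec, Units.inv_mul, one_mulVec]

include K in
/-- The counting conditions on a subgroup of even order. -/
theorem conditions [CharP F 2] {M T Z : Subgroup (GL (Fin 3) F)}
    (hM : M ≤ Cfsg.GU 3 F q ⊓ specialLinear (Fin 3) F) (hT : T ≤ M) (hZT : Z ≤ T)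
    (hZs : ∀ z ∈ Z, ∃ c : F, z.1 = c • (1 : Matrix (Fin 3) (Fin 3) F))
    (hfree : ∀ t ∈ T, ∀ (w : V) (c : F), w ≠ 0 → t.1 *ᵥ w = c • w → t ∈ Z)
    {e o : ℕ} (hcard : Nat.card M = 2 ^ e * o) (ho : ¬ 2 ∣ o) (he : 1 ≤ e) :
    ∃ s b, o = s * b ∧ Z.relIndex T ∣ s ∧ s % 2 ^ e = 1 ∧ Nat.card Z ∣ 2 ^ e * b ∧
      ∀ r : ℕ, r.Prime → r ∣ b → Nat.Coprime r (q + 1) → 2 ^ e % r = 1 := by
  classical
  haveI : Fact (Nat.Prime 2) := ⟨Nat.prime_two⟩
  haveI : Finite M := Finite.of_injective Subtype.val Subtype.val_injective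
  have hcast : ∀ {r : ℕ}, ¬ 2 ∣ r → (r : F) ≠ 0 := fun h e => h ((CharP.cast_eq_zero_iff F 2 _).mp e)
  obtain ⟨P, hP⟩ := Sylow.exists_subgroup_card_pow_prime 2 (hcard ▸ dvd_mul_right _ o)
  set P' := P.map M.subtype
  have hP'c : Nat.card P' = 2 ^ e := by rw [Subgroup.card_map_of_injective M.subtype_injective, hP]
  have hP'M : P' ≤ M := Subgroup.map_subtype_le P
  obtain ⟨v, hv0, hv, hPv⟩ := exists_fixed K (IsPGroup.of_card hP'c) fun g hg => (hM (hP'M hg)).1
  set L := lineStab M hv0 with hL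
  set X := vecStab M v with hX
  have hXL : X ≤ L := fun g hg => ⟨hg.1, 1, by rw [one_smul]; exact hg.2⟩
  have hLM : L ≤ M := fun g hg => hg.1
  have hXM : X ≤ M := fun g hg => hg.1
  haveI : Finite X := Finite.of_injective Subtype.val Subtype.val_injective
  have hXp : ∀ {r : ℕ}, r.Prime → r ∣ Nat.card X → r = 2 := by
    intro r hr hdvd
    by_contra hne
    haveI : Fact r.Prime := ⟨hr⟩
    obtain ⟨g, hg⟩ := exists_prime_orderOf_dvd_card' r hdvd
    have hgr : g.1 ^ r = 1 := by rw [← Subgroup.coe_pow, ← hg, pow_orderOf_eq_one]; rfl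
    have h1 := eq_one_of_pow K (hM g.2.1).1 (det_eq hM g.2.1) hv0 hv g.2.2 hgr
      (hcast fun h => hne ((Nat.prime_dvd_prime_iff_eq Nat.prime_two hr).mp h).symm)
    rw [show g = 1 from Subtype.ext h1, orderOf_one] at hg
    exact hr.one_lt.ne hg
  have hXc : Nat.card X = 2 ^ e := by
    refine Nat.dvd_antisymm ?_ (hP'c ▸ Subgroup.card_dvd_of_le fun g hg => ⟨hP'M hg, hPv g hg⟩)
    refine Nat.Coprime.dvd_of_dvd_mul_right ?_ (hcard ▸ Subgroup.card_dvd_of_le hXM)
    refine Nat.coprime_of_dvd fun r hr h1 h2 => ho ?_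
    rw [← hXp hr h1]; exact h2
  obtain ⟨b, hb'⟩ : 2 ^ e ∣ Nat.card L := hXc ▸ Subgroup.card_dvd_of_le hXL
  set s := L.relIndex M with hs
  have hsL : Nat.card L * s = Nat.card M := by rw [hs]; exact card_mul_relIndex hLM
  have hob : o = s * b := by
    refine Nat.eq_of_mul_eq_mul_left (show 0 < 2 ^ e by positivity) ?_
    rw [← hcard, ← hsL, hb']; ring
  refine ⟨s, b, hob, ?_, ?_, ?_, ?_⟩
  · letI : MulAction T (M ⧸ L.subgroupOf M) := MulAction.compHom _ (Subgroup.inclusion hT)
    refine dvd_of_orbits (A := T) fun x => ?_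
    obtain ⟨x, rfl⟩ := QuotientGroup.mk_surjective x
    have hst : MulAction.stabilizer T ((x : M) : M ⧸ L.subgroupOf M) = Z.subgroupOf T := by
      ext t
      rw [MulAction.mem_stabilizer_iff, Subgroup.mem_subgroupOf]
      show ((Subgroup.inclusion hT t * x : M) : M ⧸ L.subgroupOf M) = _ ↔ _
      rw [QuotientGroup.eq, Subgroup.mem_subgroupOf]
      constructor
      · intro h
        obtain ⟨-, c, hc⟩ := inv_mem h
        simp only [Subgroup.coe_mul, Subgroup.coe_inv, Subgroup.coe_inclusion, _root_.mul_inv_rev, inv_inv] at hc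
        have h' := congrArg (x.1.1 *ᵥ ·) hc
        simp only [mulVec_mulVec, ← Units.val_mul, mul_inv_cancel_left, mulVec_smul] at h'
        rw [Units.val_mul, ← mulVec_mulVec] at h'
        refine hfree _ t.2 _ c (fun e => hv0 ?_) h'
        exact Matrix.mulVec_injective_iff_isUnit.mpr x.1.isUnit (e.trans (Matrix.mulVec_zero _).symm)
      · intro h
        obtain ⟨c, hc⟩ := hZs _ (inv_mem h)
        refine ⟨Subtype.prop _, c, ?_⟩
        simp only [Subgroup.coe_mul, Subgroup.coe_inv, Subgroup.coe_inclusion, _root_.mul_inv_rev, Units.val_mul,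
          hc, mul_assoc, smul_mul_assoc, one_mul, mul_smul_comm, Units.inv_mul, smul_mulVec, one_mulVec]
    rw [Nat.card_congr (MulAction.orbitEquivQuotientStabilizer T _), hst]
    rfl
  · letI : MulAction X (M ⧸ L.subgroupOf M) := MulAction.compHom _ (Subgroup.inclusion hXM)
    refine mod_of_orbits (A := X) (Nat.one_lt_two_pow (by omega)) ((1 : M) : M ⧸ L.subgroupOf M)
      (fun g => ?_) fun x hx => ?_
    · show ((Subgroup.inclusion hXM g * 1 : M) : M ⧸ L.subgroupOf M) = _
      rw [QuotientGroup.eq, Subgroup.mem_subgroupOf, mul_one, mul_one]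
      exact inv_mem (hXL g.2)
    obtain ⟨x, rfl⟩ := QuotientGroup.mk_surjective x
    have hxL : x.1 ∉ L := fun h => hx (QuotientGroup.eq.mpr (by
      rw [mul_one, inv_mem_iff, Subgroup.mem_subgroupOf]; exact h))
    have hst : MulAction.stabilizer X ((x : M) : M ⧸ L.subgroupOf M) = ⊥ := by
      rw [eq_bot_iff]
      intro g hg
      rw [Subgroup.mem_bot]
      by_contra hg1
      have hdvd : 2 ∣ orderOf g := by
        obtain ⟨i, -, hi⟩ := (Nat.dvd_prime_pow Nat.prime_two).mp (hXc ▸ orderOf_dvd_natCard g)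
        rcases i with _ | i
        · exact absurd (orderOf_eq_one_iff.mp (by simpa using hi)) hg1
        · exact hi ▸ dvd_pow_self 2 (Nat.succ_ne_zero i)
      set z := g ^ (orderOf g / 2) with hz
      have hzo : orderOf z = 2 := orderOf_pow_orderOf_div (orderOf_pos g).ne' hdvd
      have hzmem : z ∈ MulAction.stabilizer X ((x : M) : M ⧸ L.subgroupOf M) := pow_mem hg _
      rw [MulAction.mem_stabilizer_iff] at hzmem
      change ((Subgroup.inclusion hXM z * x : M) : M ⧸ L.subgroupOf M) = _ at hzmem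
      rw [QuotientGroup.eq, Subgroup.mem_subgroupOf] at hzmem
      obtain ⟨-, c, hc⟩ := inv_mem hzmem
      simp only [Subgroup.coe_mul, Subgroup.coe_inv, Subgroup.coe_inclusion, _root_.mul_inv_rev, inv_inv] at hc
      have h' := congrArg (x.1.1 *ᵥ ·) hc
      simp only [mulVec_mulVec, ← Units.val_mul, mul_inv_cancel_left, mulVec_smul] at h'
      rw [Units.val_mul, ← mulVec_mulVec] at h'
      set w := x.1.1 *ᵥ v with hw
      have hw0 : w ≠ 0 := fun e =>
        hv0 (Matrix.mulVec_injective_iff_isUnit.mpr x.1.isUnit (e.trans (Matrix.mulVec_zero _).symm))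
      have hzz : z.1 * z.1 = 1 := by
        rw [← Subgroup.coe_mul, ← sq, ← hzo, pow_orderOf_eq_one]; rfl
      have hc2 : (c - 1) * (c - 1) = 0 := by
        have h2 : w = (c * c) • w := by
          calc w = (z.1 * z.1).1 *ᵥ w := by rw [hzz, Units.val_one, one_mulVec]
            _ = z.1.1 *ᵥ (z.1.1 *ᵥ w) := by simp only [hw, Units.val_mul, mulVec_mulVec, mul_assoc]
            _ = _ := by rw [h', mulVec_smul, h', smul_smul]
        have h3 : c * c = 1 := smul_left_injective F hw0 (h2.symm.trans (one_smul F w).symm)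
        linear_combination h3 - CharTwo.add_self_eq_zero c + CharTwo.add_self_eq_zero (1 : F)
      rw [mul_self_eq_zero, sub_eq_zero] at hc2
      rw [hc2, one_smul] at h'
      have hww : hb K w w = 0 := by rw [hw, hb_g K (hM x.2).1, hv]
      by_cases hwv : hb K w v = 0
      · obtain ⟨d, hd⟩ := totally K hv0 hv hww hwv
        exact hxL ⟨x.2, d, hd⟩
      · have := eq_one_of_fix K (hM z.2.1).1 (det_eq hM z.2.1) hv0 hv hwv z.2.2 h'
        rw [show z = 1 from Subtype.ext this, orderOf_one] at hzo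
        omega
    rw [Nat.card_congr (MulAction.orbitEquivQuotientStabilizer X _), hst]
    exact (Subgroup.index_bot (G := X)).trans hXc
  · rw [← hb']
    refine Subgroup.card_dvd_of_le fun z hz => ⟨hT (hZT hz), ?_⟩
    obtain ⟨c, hc⟩ := hZs z hz
    exact ⟨c, by rw [hc, smul_mulVec, one_mulVec]⟩
  intro r hr hrb hrq
  haveI : Fact r.Prime := ⟨hr⟩
  have hr2 : r ≠ 2 := fun e => ho (hob ▸ (e ▸ hrb).mul_left s)
  haveI : Finite L := Finite.of_injective Subtype.val Subtype.val_injective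
  obtain ⟨a, ha⟩ := exists_prime_orderOf_dvd_card' (G := L) r (hb' ▸ hrb.mul_left _)
  obtain ⟨haM, l, hal⟩ := a.2
  have har : a.1 ^ r = 1 := by rw [← Subgroup.coe_pow, ← ha, pow_orderOf_eq_one]; rfl
  have hlr : l ^ r = 1 := by
    have hp : ∀ i : ℕ, (a.1.1 ^ i) *ᵥ v = l ^ i • v := by
      intro i
      induction i with
      | zero => simp
      | succ i ih => rw [pow_succ', ← mulVec_mulVec, ih, mulVec_smul, hal, smul_smul, pow_succ]
    have h := hp r
    rw [← Units.val_pow_eq_pow_val, har, Units.val_one, one_mulVec] at h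
    exact smul_left_injective F hv0 (h.symm.trans (one_smul F v).symm)
  have hl : l * K.bar l ≠ 1 := by
    intro h
    rw [K.bar_apply, ← pow_succ'] at h
    have h1 : l = 1 := orderOf_eq_one_iff.mp (Nat.eq_one_of_dvd_coprimes hrq
      (orderOf_dvd_of_pow_eq_one hlr) (orderOf_dvd_of_pow_eq_one h))
    have haX : a.1 ∈ X := ⟨haM, by rw [hal, h1, one_smul]⟩
    refine hr2 (hXp hr ?_)
    rw [← ha, ← Subgroup.orderOf_coe, ← Subgroup.orderOf_mk _ haX]
    exact orderOf_dvd_natCard _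
  -- the torus element acts without fixed points
  let A := Subgroup.zpowers a.1
  have hAL : A ≤ L := Subgroup.zpowers_le.mpr a.2
  have hAc : Nat.card A = r ^ 1 := by rw [Nat.card_zpowers, Subgroup.orderOf_coe, ha, pow_one]
  have hnorm : ∀ g ∈ L, ∀ x ∈ X, g * x * g⁻¹ ∈ X := by
    rintro g hg x ⟨hxM, hxv⟩
    refine ⟨mul_mem (mul_mem hg.1 hxM) (inv_mem hg.1), ?_⟩
    obtain ⟨-, c, hc⟩ := inv_mem hg
    rw [Units.val_mul, Units.val_mul, ← mulVec_mulVec, hc, mulVec_smul, ← mulVec_mulVec, hxv, ← mulVec_smul,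
      ← hc, mulVec_mulVec, Units.mul_inv, one_mulVec]
  letI : MulAction A X :=
    { smul := fun g x => ⟨g.1 * x.1 * g.1⁻¹, hnorm _ (hAL g.2) _ x.2⟩
      one_smul := fun x => Subtype.ext (by show (1 : GL (Fin 3) F) * x.1 * (1 : GL (Fin 3) F)⁻¹ = x.1; simp)
      mul_smul := fun g g' x => Subtype.ext (by
        show (g.1 * g'.1) * x.1 * (g.1 * g'.1)⁻¹ = g.1 * (g'.1 * x.1 * g'.1⁻¹) * g.1⁻¹
        simp [mul_assoc]) }
  have hfixed : MulAction.fixedPoints A X = {1} := by
    refine Set.eq_singleton_iff_unique_mem.mpr ⟨fun g => Subtype.ext (by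
      show g.1 * (1 : GL (Fin 3) F) * g.1⁻¹ = 1; simp), fun z hz => Subtype.ext ?_⟩
    have h := congrArg Subtype.val (hz ⟨a.1, Subgroup.mem_zpowers _⟩)
    change a.1 * z.1 * a.1⁻¹ = z.1 at h
    exact eq_one_of_comm K (hM haM).1 (hM z.2.1).1 (det_eq hM z.2.1) hv0 hv hal hl z.2.2
      (mul_inv_eq_iff_eq_mul.mp h).symm har (hcast fun h2 => hr2 ((Nat.prime_dvd_prime_iff_eq Nat.prime_two hr).mp h2).symm)
  have hmod := (IsPGroup.of_card hAc).card_modEq_card_fixedPoints (α := X)
  rw [hfixed, hXc, Nat.card_coe_set_eq, Set.ncard_singleton] at hmod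
  have := hmod
  rw [Nat.ModEq, Nat.mod_eq_of_lt hr.one_lt] at this
  exact this

end CfsgLib.ThreeMax.SUTwo
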