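import Cfsg.Agent.Lib.Classical.ThreeMax.SingerField
import Cfsg.Agent.Lib.Classical.ThreeMax.SingerOrbit
import Cfsg.Agent.Lib.Classical.ThreeMax.SingerSUTwo

/-!
A cubic field closed under adjoints: the adjoint is the automorphism of order two, and the normaliser in
`SU₃` induces an automorphism of order three.
-/

set_option autoImplicit false
set_option linter.unusedSectionVars false

namespace CfsgLib.ThreeMax.SUField

open Matrix Module
open Cfsg.Geo (IsFieldSubalgebra IsAdjointClosedFor subalgebraNormalizer specialLinear scalars)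
open CfsgLib.ClassicalAut (Unitary.Conj)
open CfsgLib.Derange (isField_sub exists_regular)
open CfsgLib.ThreeMax.SUTwo
open scoped MatrixGroups

universe u

variable {F : Type u} [Field F] [Fintype F] {q : ℕ} (J : Unitary.Conj F q)
variable {K : Subalgebra F (Matrix (Fin 3) (Fin 3) F)}

include J in
theorem card_eq : Fintype.card F = q ^ 2 := by rw [← Nat.card_eq_fintype_card, J.card]

theorem hb_ext {a b : Fin 3 → F} (h : ∀ u, hb J u a = hb J u b) : a = b := by
  funext i
  have := h (Pi.single i 1)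
  simp only [hb, single_dotProduct, one_mul, cv] at this
  exact J.bar.injective this

theorem mat_ext {X Y : Matrix (Fin 3) (Fin 3) F} (h : ∀ u v, hb J u (X *ᵥ v) = hb J u (Y *ᵥ v)) : X = Y :=
  Matrix.toLin'.injective (LinearMap.ext fun v => hb_ext J fun u => h u v)

include J in
theorem bound {L : Type*} [Field L] [Finite L] (hL : Nat.card L = q ^ 6) {p g i : ℕ} (hp : 1 < p)
    (hq : q = p ^ g) (hi : i < 6 * g) (h : ∀ x : L, x ^ p ^ i = x) : i = 0 := by
  by_contra hi0
  obtain ⟨a, ha⟩ := IsCyclic.exists_ofOrder_eq_natCard (α := Lˣ)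
  have h1 : a ^ (p ^ i - 1) = 1 := by
    have h2 : a ^ (p ^ i - 1) * a = 1 * a := by
      rw [← pow_succ, Nat.sub_add_cancel (Nat.one_le_pow _ _ (by omega)), one_mul]
      exact Units.ext (by rw [Units.val_pow_eq_pow_val, h])
    exact mul_right_cancel h2
  have h3 : 1 < p ^ i := Nat.one_lt_pow hi0 hp
  have h4 := Nat.le_of_dvd (by omega) (orderOf_dvd_of_pow_eq_one h1)
  rw [ha, Nat.card_units, hL, hq, ← pow_mul, mul_comm g 6] at h4
  have h5 := Nat.pow_lt_pow_right hp hi
  omega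

/-- The adjoint of an element of the field is its `q³`-th power. -/
theorem adj_pow (hK : IsFieldSubalgebra 3 K) (hac : IsAdjointClosedFor (Cfsg.hermForm 3 F q) K)
    {k : Matrix (Fin 3) (Fin 3) F} (hk : k ∈ K) (u v : Fin 3 → F) :
    hb J (k *ᵥ u) v = hb J u (k ^ q ^ 3 *ᵥ v) := by
  classical
  haveI : Nonempty (Fin 3) := ⟨0⟩
  letI := (isField_sub (by norm_num) hK).toField
  haveI : Finite K := Finite.of_injective Subtype.val Subtype.val_injective
  obtain ⟨p, hchar⟩ := CharP.exists F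
  haveI := hchar
  obtain ⟨f, hp, hf⟩ := FiniteField.card F p
  haveI : Fact p.Prime := ⟨hp⟩
  obtain ⟨g, -, hg⟩ := (Nat.dvd_prime_pow hp).mp
    (show q ∣ p ^ (f : ℕ) from hf ▸ card_eq J ▸ dvd_pow_self q two_ne_zero)
  haveI : CharP K p := charP_of_injective_algebraMap (algebraMap F K).injective p
  letI : Algebra (ZMod p) K := ZMod.algebra K p
  haveI : Module.Finite (ZMod p) K := Module.Finite.of_finite
  have hcK : Nat.card K = q ^ 6 := by rw [card_field hK, card_eq J, ← pow_mul]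
  simp only [IsAdjointClosedFor, hb_eq J] at hac
  choose adj hadjK hadj using hac
  have huniq : ∀ {a : Matrix (Fin 3) (Fin 3) F} (ha : a ∈ K) {b : Matrix (Fin 3) (Fin 3) F},
      (∀ u v, hb J (a *ᵥ u) v = hb J u (b *ᵥ v)) → adj a ha = b := fun ha b h =>
    mat_ext J fun u v => (hadj _ ha u v).symm.trans (h u v)
  let φ : K →+* K :=
    { toFun := fun a => ⟨adj a.1 a.2, hadjK _ _⟩
      map_one' := Subtype.ext (huniq _ fun u v => by simp)
      map_mul' := fun a b => Subtype.ext (by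
        refine huniq _ fun u v => ?_
        show hb J ((a.1 * b.1) *ᵥ u) v = hb J u ((adj a.1 a.2 * adj b.1 b.2) *ᵥ v)
        rw [hK.comm _ (hadjK _ a.2) _ (hadjK _ b.2), ← mulVec_mulVec, hadj _ a.2, hadj _ b.2, mulVec_mulVec])
      map_zero' := Subtype.ext (huniq _ fun u v => by simp [hb_zero_left, hb_zero_right])
      map_add' := fun a b => Subtype.ext (by
        refine huniq _ fun u v => ?_
        show hb J ((a.1 + b.1) *ᵥ u) v = hb J u ((adj a.1 a.2 + adj b.1 b.2) *ᵥ v)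
        rw [add_mulVec, add_mulVec, hb_add_left, hadj _ a.2, hadj _ b.2]
        simp only [hb, cv, dotProduct, Pi.add_apply, map_add, mul_add, Finset.sum_add_distrib]) }
  have hinv : ∀ a : K, φ (φ a) = a := fun a => Subtype.ext (huniq _ fun u v => by
    show hb J (adj a.1 a.2 *ᵥ u) v = hb J u (a.1 *ᵥ v)
    rw [hb_swap, ← hadj _ a.2, ← hb_swap])
  let e : K ≃+* K := RingEquiv.ofBijective φ (Finite.injective_iff_bijective.mp φ.injective)
  let σ : K ≃ₐ[ZMod p] K := AlgEquiv.ofRingEquiv (f := e) fun x => RingHom.congr_fun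
    (Subsingleton.elim ((e : K →+* K).comp (algebraMap (ZMod p) K)) (algebraMap (ZMod p) K)) x
  obtain ⟨⟨n, hn⟩, hσ⟩ := (FiniteField.bijective_frobeniusAlgEquivOfAlgebraic_pow (ZMod p) K).2 σ
  have hD : Module.finrank (ZMod p) K = 6 * g := by
    have h := Module.natCard_eq_pow_finrank (K := ZMod p) (V := K)
    rw [hcK, Nat.card_zmod, hg, ← pow_mul, mul_comm g 6] at h
    exact (Nat.pow_right_injective hp.two_le h).symm
  rw [hD] at hn
  have hφ : ∀ x : K, φ x = x ^ p ^ n := by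
    intro x
    have key : ∀ m : ℕ, (FiniteField.frobeniusAlgEquivOfAlgebraic (ZMod p) K ^ m) x = x ^ p ^ m := by
      intro m
      induction m with
      | zero => simp
      | succ m ih =>
        rw [pow_succ', AlgEquiv.mul_apply, ih, FiniteField.frobeniusAlgEquivOfAlgebraic_apply, ZMod.card,
          ← pow_mul, pow_succ]
    rw [← key]
    exact (AlgEquiv.congr_fun hσ x).symm
  have h2n : ∀ x : K, x ^ p ^ (2 * n) = x := fun x => by
    conv_rhs => rw [← hinv x, hφ, hφ, ← pow_mul, ← pow_add, ← two_mul]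
  have hsix : ∀ x : K, x ^ p ^ (6 * g) = x := fun x => by
    haveI := Fintype.ofFinite K
    conv_rhs => rw [← FiniteField.pow_card x, ← Nat.card_eq_fintype_card, hcK, hg, ← pow_mul, mul_comm g 6]
  have hn3 : n = 3 * g := by
    rcases lt_trichotomy (2 * n) (6 * g) with h | h | h
    · have h0 := bound J hcK hp.one_lt hg h h2n
      exfalso
      obtain ⟨y, hy⟩ := J.exists_moved
      refine hy ?_
      have he : n = 0 := by omega
      have h1 := hφ (algebraMap F K y)
      rw [he, pow_zero, pow_one] at h1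
      have h2 : adj _ (algebraMap F K y).2 = (algebraMap F K y).1 := congrArg Subtype.val h1
      have h3 := hadj _ (algebraMap F K y).2 (Pi.single 0 1) (Pi.single 0 1)
      rw [h2] at h3
      have e1 : (algebraMap F K y).1 *ᵥ Pi.single (0 : Fin 3) (1 : F) = y • Pi.single (0 : Fin 3) (1 : F) := by
        rw [show (algebraMap F K y).1 = algebraMap F (Matrix (Fin 3) (Fin 3) F) y from rfl,
          Algebra.algebraMap_eq_smul_one, smul_mulVec, one_mulVec]
      rw [e1, hb_smul_left, hb_smul_right] at h3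
      simp [hb, cv] at h3
      exact h3.symm
    · omega
    · exfalso
      obtain ⟨j, hj⟩ : ∃ j, 2 * n = 6 * g + j := ⟨2 * n - 6 * g, by omega⟩
      have hjj : ∀ x : K, x ^ p ^ j = x := fun x => by
        have h1 := h2n x
        rwa [hj, pow_add, pow_mul, hsix] at h1
      have := bound J hcK hp.one_lt hg (by omega) hjj
      omega
  have hval := congrArg Subtype.val (hφ ⟨k, hk⟩)
  change adj k hk = k ^ p ^ n at hval
  rw [hadj _ hk, hval, hn3, show q ^ 3 = p ^ (3 * g) by rw [hg, ← pow_mul, mul_comm 3 g]]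

include J in
/-- Units of the field preserving the form. -/
theorem mem_GU_iff (hK : IsFieldSubalgebra 3 K) (hac : IsAdjointClosedFor (Cfsg.hermForm 3 F q) K)
    {x : GL (Fin 3) F} (hx : x ∈ unitsK K) : x ∈ Cfsg.GU 3 F q ↔ x ^ (q ^ 3 + 1) = 1 := by
  have key : ∀ u v, hb J (x.1 *ᵥ u) (x.1 *ᵥ v) = hb J u ((x.1 ^ (q ^ 3 + 1)) *ᵥ v) := fun u v => by
    rw [adj_pow J hK hac (val_mem hx), mulVec_mulVec, ← pow_succ]
  constructor
  · intro h
    refine Units.ext (mat_ext J fun u v => ?_)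
    rw [Units.val_pow_eq_pow_val, ← key, hb_g J h, Units.val_one, one_mulVec]
  · intro h u v
    show Cfsg.hermForm 3 F q (x.1 *ᵥ u) (x.1 *ᵥ v) = Cfsg.hermForm 3 F q u v
    rw [hb_eq J, hb_eq J, key, ← Units.val_pow_eq_pow_val, h, Units.val_one, one_mulVec]

/-- A cyclic group contains all roots allowed by orders. -/
theorem exists_root {A : Type*} [Group A] [IsCyclic A] [Finite A] {n : ℕ} (hn : n ∣ Nat.card A) {c : A}
    (hc : c ^ (Nat.card A / n) = 1) : ∃ u : A, u ^ n = c := by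
  obtain ⟨a, ha⟩ := IsCyclic.exists_generator (α := A)
  obtain ⟨i, rfl⟩ := (mem_powers_iff_mem_zpowers (x := a) (y := c)).mpr (ha c)
  dsimp only at hc ⊢
  rw [← pow_mul] at hc
  have h := orderOf_dvd_of_pow_eq_one hc
  rw [orderOf_eq_card_of_forall_mem_zpowers ha] at h
  obtain ⟨m, hm⟩ := hn
  rw [hm] at h
  have hn0 : 0 < n := Nat.pos_of_ne_zero fun e => Nat.card_pos.ne' (by rw [hm, e, zero_mul])
  have hm0 : 0 < m := Nat.pos_of_ne_zero fun e => Nat.card_pos.ne' (by rw [hm, e, mul_zero])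
  rw [Nat.mul_div_cancel_left _ hn0] at h
  obtain ⟨l, rfl⟩ := Nat.dvd_of_mul_dvd_mul_right hm0 h
  exact ⟨a ^ l, by rw [← pow_mul, mul_comm]⟩

theorem isCyclic_units (hK : IsFieldSubalgebra 3 K) : IsCyclic (unitsK K) := by
  letI := (isField_sub (by norm_num) hK).toField
  haveI : Finite K := Finite.of_injective Subtype.val Subtype.val_injective
  exact isCyclic_of_surjective (Units.map (K.val.toRingHom : K →* Matrix (Fin 3) (Fin 3) F)).rangeRestrict
    (MonoidHom.rangeRestrict_surjective _)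

/-- Roots inside the units of the field. -/
theorem exists_root_units (hK : IsFieldSubalgebra 3 K) {c : GL (Fin 3) F} (hc : c ∈ unitsK K) {n m : ℕ}
    (hnm : Fintype.card F ^ 3 - 1 = n * m) (hcm : c ^ m = 1) : ∃ u ∈ unitsK K, u ^ n = c := by
  haveI := isCyclic_units hK
  haveI : Finite (unitsK K) := Finite.of_injective Subtype.val Subtype.val_injective
  have hn0 : n ≠ 0 := fun e => by
    have := card_unitsK hK
    rw [hnm, e, zero_mul] at this
    exact Nat.card_pos.ne' this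
  obtain ⟨u, hu⟩ := exists_root (A := unitsK K) (n := n) (c := ⟨c, hc⟩) (by rw [card_unitsK hK, hnm]; exact dvd_mul_right _ _)
    (Subtype.ext (by rw [Subgroup.coe_pow, card_unitsK hK, hnm, Nat.mul_div_cancel_left _ (Nat.pos_of_ne_zero hn0)]; exact hcm))
  exact ⟨u.1, u.2, by rw [← Subgroup.coe_pow, hu]⟩

include J in
/-- The arithmetic of `q² - q + 1`. -/
theorem arith : ∃ n : ℕ, n + q = q * q + 1 ∧ q ^ 3 + 1 = (q + 1) * n ∧ q ^ 4 + q ^ 2 + 1 = n * (q * q + q + 1) ∧
    Fintype.card F ^ 3 - 1 = n * ((q + 1) * (q ^ 3 - 1)) ∧ Nat.Coprime (q + 1) (q * q + q + 1) := by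
  have hq := J.two_le
  obtain ⟨r, rfl⟩ : ∃ r, q = r + 1 := ⟨q - 1, by omega⟩
  refine ⟨r * r + r + 1, by ring, by ring, by ring, ?_, ?_⟩
  · rw [card_eq J]
    obtain ⟨t, ht⟩ : ∃ t, (r + 1) ^ 3 = t + 1 := ⟨r * r * r + 3 * r * r + 3 * r, by ring⟩
    rw [← pow_mul, show 2 * 3 = 3 * 2 from rfl, pow_mul, ht, Nat.add_sub_cancel]
    refine Nat.sub_eq_of_eq_add ?_
    have h2 : (r * r + r + 1) * (r + 1 + 1) = t + 2 := by linarith [ht, show (r * r + r + 1) * (r + 1 + 1) = (r + 1) ^ 3 + 1 by ring]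
    rw [← mul_assoc, h2]; ring
  · rw [Nat.coprime_comm, show (r + 1) * (r + 1) + (r + 1) + 1 = 1 + (r + 1) * (r + 1 + 1) by ring,
      Nat.coprime_add_mul_right_left]
    exact Nat.coprime_one_left _

include J in
theorem det_pow (hK : IsFieldSubalgebra 3 K) {k : Matrix (Fin 3) (Fin 3) F} (hk : k ∈ K) :
    k.det • (1 : Matrix (Fin 3) (Fin 3) F) = k ^ (q ^ 4 + q ^ 2 + 1) := by
  haveI : Nonempty (Fin 3) := ⟨0⟩
  letI := (isField_sub (by norm_num) hK).toField
  haveI : Finite K := Finite.of_injective Subtype.val Subtype.val_injective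
  obtain ⟨Φ, hΦ⟩ := exists_regular (by norm_num) hK (e := Pi.single (0 : Fin 3) 1) (by simp)
  have hdet : k.det = Algebra.norm F (⟨k, hk⟩ : K) := by
    rw [Algebra.norm_apply, ← LinearMap.det_toLin', ← LinearMap.det_conj (Algebra.lmul F K ⟨k, hk⟩) Φ]
    congr 1
    refine LinearMap.ext fun v => ?_
    obtain ⟨a, rfl⟩ := Φ.surjective v
    simp only [Matrix.toLin'_apply, LinearMap.coe_comp, LinearEquiv.coe_coe, Function.comp_apply,
      LinearEquiv.symm_apply_apply, Algebra.coe_lmul_eq_mul, LinearMap.mul_apply']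
    rw [hΦ, hΦ, Matrix.mulVec_mulVec]
    rfl
  have h := congrArg Subtype.val (FiniteField.algebraMap_norm_eq_pow (K := F) (x := (⟨k, hk⟩ : K)))
  rw [card_field hK, card_eq J, J.card, ← hdet] at h
  have hE : ((q ^ 2) ^ 3 - 1) / (q ^ 2 - 1) = q ^ 4 + q ^ 2 + 1 := by
    have hq : 2 ≤ q := J.two_le
    have h4 : 2 ^ 2 ≤ q ^ 2 := Nat.pow_le_pow_left hq 2
    obtain ⟨r, hr⟩ : ∃ r, q ^ 2 = r + 1 := ⟨q ^ 2 - 1, by omega⟩
    rw [show q ^ 4 = (q ^ 2) * (q ^ 2) by ring, hr, Nat.add_sub_cancel,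
      show (r + 1) ^ 3 - 1 = r * ((r + 1) * (r + 1) + (r + 1) + 1) from Nat.sub_eq_of_eq_add (by ring),
      Nat.mul_div_cancel_left _ (by omega)]
  rw [hE] at h
  rw [← Algebra.algebraMap_eq_smul_one]
  exact h

include J in
theorem mem_spec_iff (hK : IsFieldSubalgebra 3 K) (hac : IsAdjointClosedFor (Cfsg.hermForm 3 F q) K)
    {n : ℕ} (hn : n + q = q * q + 1) {x : GL (Fin 3) F} (hx : x ∈ unitsK K) :
    x ∈ Cfsg.GU 3 F q ⊓ specialLinear (Fin 3) F ↔ x ^ n = 1 := by
  obtain ⟨n', hn', h3, h4, -, hco⟩ := arith J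
  obtain rfl : n = n' := by omega
  have hdet : x ∈ specialLinear (Fin 3) F ↔ x ^ (q ^ 4 + q ^ 2 + 1) = 1 := by
    rw [specialLinear, MonoidHom.mem_ker]
    have h := det_pow J hK (val_mem hx)
    constructor
    · intro hd
      have hd' : x.1.det = 1 := congrArg Units.val hd
      refine Units.ext ?_
      rw [Units.val_pow_eq_pow_val, ← h, hd', one_smul, Units.val_one]
    · intro hd
      refine Units.ext ?_
      rw [← Units.val_pow_eq_pow_val, hd, Units.val_one] at h
      have := congrFun (congrFun h 0) 0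
      simpa using this
  rw [Subgroup.mem_inf, mem_GU_iff J hK hac hx, hdet, h3, h4, mul_comm (q + 1) n]
  constructor
  · rintro ⟨h1, h2⟩
    have := pow_gcd_eq_one.mpr ⟨h1, h2⟩
    rwa [Nat.gcd_mul_left, hco.gcd_eq_one, mul_one] at this
  · intro h
    exact ⟨by rw [pow_mul, h, one_pow], by rw [pow_mul, h, one_pow]⟩

include J in
/-- The order of the torus. -/
theorem card_torus (hK : IsFieldSubalgebra 3 K) (hac : IsAdjointClosedFor (Cfsg.hermForm 3 F q) K)
    {n : ℕ} (hn : n + q = q * q + 1) :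
    Nat.card (unitsK K ⊓ (Cfsg.GU 3 F q ⊓ specialLinear (Fin 3) F) : Subgroup (GL (Fin 3) F)) = n := by
  obtain ⟨n', hn', h3, h4, h6, -⟩ := arith J
  obtain rfl : n = n' := by omega
  letI := (isField_sub (by norm_num) hK).toField
  haveI : Finite K := Finite.of_injective Subtype.val Subtype.val_injective
  set f : Kˣ →* GL (Fin 3) F := Units.map (K.val.toRingHom : K →* Matrix (Fin 3) (Fin 3) F)
  have hinj : Function.Injective f := Units.map_injective Subtype.val_injective
  have e : (unitsK K ⊓ (Cfsg.GU 3 F q ⊓ specialLinear (Fin 3) F) : Subgroup (GL (Fin 3) F)) =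
      (powMonoidHom n : Kˣ →* Kˣ).ker.map f := by
    ext x
    constructor
    · rintro ⟨⟨k, rfl⟩, hx⟩
      refine ⟨k, ?_, rfl⟩
      show k ^ n = 1
      refine hinj ?_
      rw [map_pow, map_one]
      exact (mem_spec_iff J hK hac hn ⟨k, rfl⟩).mp hx
    · rintro ⟨k, hk, rfl⟩
      refine ⟨⟨k, rfl⟩, (mem_spec_iff J hK hac hn ⟨k, rfl⟩).mpr ?_⟩
      rw [← map_pow, show k ^ n = 1 from hk, map_one]
  rw [e, Subgroup.card_map_of_injective hinj, IsCyclic.card_powMonoidHom_ker, Nat.card_units, card_field hK, h6]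
  exact Nat.gcd_eq_right (dvd_mul_right _ _)

include J in
/-- An element of the normaliser in `SU₃` outside the field. -/
theorem exists_outer (hK : IsFieldSubalgebra 3 K) (hac : IsAdjointClosedFor (Cfsg.hermForm 3 F q) K) :
    ∃ g : GL (Fin 3) F, g ∈ subalgebraNormalizer K ⊓ (Cfsg.GU 3 F q ⊓ specialLinear (Fin 3) F) ∧ g ∉ unitsK K := by
  classical
  obtain ⟨n, hn, h3, h4, h6, hco⟩ := arith J
  haveI : Finite (subalgebraNormalizer K) := Finite.of_injective Subtype.val Subtype.val_injective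
  obtain ⟨g₀, hg₀, hg₀u⟩ : ∃ g₀ ∈ subalgebraNormalizer K, g₀ ∉ unitsK K := by
    by_contra hall
    push Not at hall
    have h := Subgroup.card_le_of_le (show subalgebraNormalizer K ≤ unitsK K from hall)
    haveI : Finite (unitsK K) := Finite.of_injective Subtype.val Subtype.val_injective
    have : 0 < Nat.card (unitsK K) := Nat.card_pos
    rw [(card_normalizer hK).1] at h
    rw [card_unitsK hK] at h this
    omega
  set W : Matrix (Fin 3) (Fin 3) F := (g₀.1.map J.bar)ᵀ * g₀.1 with hW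
  have hWh : ∀ x y, hb J (W *ᵥ x) y = hb J (g₀.1 *ᵥ x) (g₀.1 *ᵥ y) := by
    intro x y
    rw [hW, ← mulVec_mulVec, hb, hb, mulVec_transpose, ← dotProduct_mulVec]
    congr 1
    funext i
    exact (RingHom.map_mulVec (J.bar : F →+* F) g₀.1 y i).symm
  have hleft : ∀ {X Y : Matrix (Fin 3) (Fin 3) F}, (∀ u v, hb J (X *ᵥ u) v = hb J (Y *ᵥ u) v) → X = Y := by
    intro X Y h
    refine mat_ext J fun u v => ?_
    rw [hb_swap J (X *ᵥ v) u, hb_swap J (Y *ᵥ v) u, h]
  have hWK : W ∈ K := by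
    refine mem_of_comm hK fun k hk => hleft fun x y => ?_
    set c := g₀.1 * k * (g₀⁻¹ : GL (Fin 3) F).1 with hc
    have hcK : c ∈ K := (hg₀ k).mp hk
    have hgk : g₀.1 * k = c * g₀.1 := by rw [hc, mul_assoc, Units.inv_mul, mul_one]
    have hpow : c ^ q ^ 3 * g₀.1 = g₀.1 * k ^ q ^ 3 := by
      rw [hc, Units.conj_pow, mul_assoc, Units.inv_mul, mul_one]
    rw [← mulVec_mulVec x W k, hWh, mulVec_mulVec, hgk, ← mulVec_mulVec, adj_pow J hK hac hcK, mulVec_mulVec,
      hpow, ← mulVec_mulVec, ← hWh, ← adj_pow J hK hac hk, mulVec_mulVec]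
  have hWu : IsUnit W := by
    refine IsUnit.mul ?_ g₀.isUnit
    rw [Matrix.isUnit_iff_isUnit_det, Matrix.det_transpose]
    have := (RingHom.map_det (J.bar : F →+* F) g₀.1)
    rw [RingHom.mapMatrix_apply] at this
    exact this ▸ ((Matrix.isUnit_iff_isUnit_det _).mp g₀.isUnit).map (J.bar : F →+* F)
  set w : GL (Fin 3) F := hWu.unit with hw
  have hwK : w ∈ unitsK K := (mem_unitsK hK).mpr hWK
  have hsa : W ^ q ^ 3 = W := mat_ext J fun x y => by
    rw [← adj_pow J hK hac hWK, hWh, hb_swap J (g₀.1 *ᵥ y), ← hWh, ← hb_swap]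
  have hwq : w⁻¹ ^ (q ^ 3 - 1) = 1 := by
    have h1 : w ^ (q ^ 3 - 1) * w = 1 * w := by
      rw [← pow_succ, Nat.sub_add_cancel (Nat.one_le_pow _ _ (by have := J.two_le; omega)), one_mul]
      exact Units.ext (by rw [Units.val_pow_eq_pow_val]; exact hsa)
    rw [inv_pow, mul_right_cancel h1, inv_one]
  obtain ⟨k, hkK, hk⟩ := exists_root_units hK (inv_mem hwK) (n := q ^ 3 + 1) (m := q ^ 3 - 1)
    (by rw [h6, h3]; ring) hwq
  have hg1 : g₀ * k ∈ Cfsg.GU 3 F q := by
    intro x y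
    show Cfsg.hermForm 3 F q ((g₀ * k).1 *ᵥ x) ((g₀ * k).1 *ᵥ y) = Cfsg.hermForm 3 F q x y
    have hWk : W * k.1 ∈ K := K.mul_mem hWK (val_mem hkK)
    have e : (W * k.1) ^ q ^ 3 * k.1 = 1 := by
      rw [(show Commute W k.1 from hK.comm _ hWK _ (val_mem hkK)).mul_pow, hsa, mul_assoc, ← pow_succ]
      have := congrArg (fun z : GL (Fin 3) F => (w * z).1) hk
      simpa [hw] using this
    rw [hb_eq J, hb_eq J, Units.val_mul, ← mulVec_mulVec, ← mulVec_mulVec, ← hWh, mulVec_mulVec,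
      adj_pow J hK hac hWk, mulVec_mulVec, e, one_mulVec]
  set g1 := g₀ * k
  set δ := Matrix.GeneralLinearGroup.det g1 with hδ
  have hδq : δ ^ (q + 1) = 1 := by
    have h1 : (g1.1.map J.bar)ᵀ * g1.1 = 1 := by
      refine hleft fun x y => ?_
      rw [one_mulVec, ← mulVec_mulVec, hb, mulVec_transpose, ← dotProduct_mulVec]
      refine Eq.trans ?_ (hb_g J hg1 x y)
      rw [hb]
      congr 1
      funext i
      exact (RingHom.map_mulVec (J.bar : F →+* F) g1.1 y i).symm
    have h2 := congrArg Matrix.det h1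
    rw [Matrix.det_mul, Matrix.det_transpose, Matrix.det_one] at h2
    have h5 := RingHom.map_det (J.bar : F →+* F) g1.1
    rw [RingHom.mapMatrix_apply] at h5
    change J.bar g1.1.det = (g1.1.map J.bar).det at h5
    rw [← h5, J.bar_apply, ← pow_succ] at h2
    exact Units.ext (by rw [Units.val_pow_eq_pow_val]; exact h2)
  set c : GL (Fin 3) F := Units.map (Matrix.scalar (Fin 3) : F →+* Matrix (Fin 3) (Fin 3) F).toMonoidHom δ⁻¹ with hc
  have hcK : c ∈ unitsK K := scalars_le hK ⟨δ⁻¹, rfl⟩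
  have hcq : c ^ (q + 1) = 1 := by rw [hc, ← map_pow, inv_pow, hδq, inv_one, map_one]
  obtain ⟨u, huK, hu⟩ := exists_root_units hK hcK h6 (by rw [pow_mul, hcq, one_pow])
  have huU : u ∈ Cfsg.GU 3 F q :=
    (mem_GU_iff J hK hac huK).mpr (by rw [h3, mul_comm, pow_mul, hu, hcq])
  refine ⟨g1 * u, ⟨mul_mem (mul_mem hg₀ (units_le_normalizer hK hkK)) (units_le_normalizer hK huK),
    mul_mem hg1 huU, ?_⟩, fun h => hg₀u ?_⟩
  · refine MonoidHom.mem_ker.mpr ?_
    rw [map_mul, ← hδ, mul_eq_one_iff_inv_eq]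
    refine Units.ext ?_
    have h7 := det_pow J hK (val_mem huK)
    have e2 : u ^ (q ^ 4 + q ^ 2 + 1) = c := by
      rw [h4, pow_mul, hu, show q * q + q + 1 = (q + 1) * q + 1 by ring, pow_add, pow_mul, hcq, one_pow, one_mul, pow_one]
    rw [← Units.val_pow_eq_pow_val, e2] at h7
    have h8 := congrFun (congrFun h7 0) 0
    simp [hc] at h8
    simpa using h8.symm
  · have := mul_mem h (inv_mem (mul_mem hkK huK))
    simpa [g1, mul_assoc] using this

end CfsgLib.ThreeMax.SUField
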