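import Cfsg.Agent.Lib.Classical.ThreeMax.SingerArith
import Cfsg.Agent.Lib.Classical.ThreeMax.SingerSUField
import Cfsg.Agent.Lib.Classical.UnitaryThreeInvol

/-!
The normaliser of an adjoint closed Singer field is maximal in `SU₃(q)` for `q ≠ 3, 5`.
-/

set_option autoImplicit false
set_option linter.unusedSectionVars false

namespace CfsgLib.ThreeMax

open Matrix
open Cfsg.Geo (IsFieldSubalgebra IsAdjointClosedFor subalgebraNormalizer specialLinear scalars IsMaximalIn mem_scalars_iff)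
open CfsgLib.ClassicalAut (Unitary.Conj)
open scoped MatrixGroups

universe u

variable {F : Type u} [Field F] [Fintype F] {q : ℕ}

theorem card_SUGL (J : Unitary.Conj F q) :
    Nat.card (Cfsg.GU 3 F q ⊓ specialLinear (Fin 3) F : Subgroup (GL (Fin 3) F)) =
      q ^ 3 * (q ^ 2 - 1) * (q ^ 3 + 1) := by
  rw [← CfsgLib.Classical.SU3Invol.card_SU_three J]
  refine Nat.card_congr
    { toFun := fun g => ⟨⟨g.1.1, congrArg Units.val (MonoidHom.mem_ker.mp g.2.2)⟩, fun u v => g.2.1 u v⟩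
      invFun := fun s => ⟨SpecialLinearGroup.toGL s.1, fun u v => s.2 u v, MonoidHom.mem_ker.mpr (Units.ext s.1.2)⟩
      left_inv := fun g => Subtype.ext (Units.ext rfl)
      right_inv := fun s => rfl }

theorem card_scalars_torus (J : Unitary.Conj F q) {K : Subalgebra F (Matrix (Fin 3) (Fin 3) F)}
    (hK : IsFieldSubalgebra 3 K) (hac : IsAdjointClosedFor (Cfsg.hermForm 3 F q) K) {n : ℕ}
    (hn : n + q = q * q + 1) :
    Nat.card (scalars (Fin 3) F ⊓ (Cfsg.GU 3 F q ⊓ specialLinear (Fin 3) F) : Subgroup (GL (Fin 3) F)) =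
      if q % 3 = 2 then 3 else 1 := by
  classical
  let f : Fˣ →* GL (Fin 3) F := Units.map (Matrix.scalar (Fin 3) : F →+* Matrix (Fin 3) (Fin 3) F).toMonoidHom
  have hinj : Function.Injective f := fun a b h =>
    Units.ext (Matrix.scalar_inj.mp (congrArg Units.val h))
  have hmem : ∀ c : Fˣ, f c ∈ unitsK K := fun c => scalars_le hK ⟨c, rfl⟩
  have e : (scalars (Fin 3) F ⊓ (Cfsg.GU 3 F q ⊓ specialLinear (Fin 3) F) : Subgroup (GL (Fin 3) F)) =
      (powMonoidHom n : Fˣ →* Fˣ).ker.map f := by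
    ext g
    constructor
    · rintro ⟨⟨c, rfl⟩, hg⟩
      refine ⟨c, ?_, rfl⟩
      show c ^ n = 1
      refine hinj ?_
      rw [map_pow, map_one]
      exact (SUField.mem_spec_iff J hK hac hn (hmem c)).mp hg
    · rintro ⟨c, hc, rfl⟩
      refine ⟨⟨c, rfl⟩, (SUField.mem_spec_iff J hK hac hn (hmem c)).mpr ?_⟩
      rw [← map_pow, show c ^ n = 1 from hc, map_one]
  rw [e, Subgroup.card_map_of_injective hinj, IsCyclic.card_powMonoidHom_ker, Nat.card_units, J.card]
  have hq := J.two_le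
  obtain ⟨r, rfl⟩ : ∃ r, q = r + 2 := ⟨q - 2, by omega⟩
  have hn' : n = r * (r + 3) + 3 := by
    have : (r + 2) * (r + 2) + 1 = r * (r + 3) + 3 + (r + 2) := by ring
    omega
  have hq' : (r + 2) ^ 2 - 1 = (r + 1) * (r + 3) := Nat.sub_eq_of_eq_add (by ring)
  rw [hq', hn']
  have h3 : Nat.gcd ((r + 1) * (r + 3)) (r * (r + 3) + 3) ∣ 3 := by
    set G := Nat.gcd ((r + 1) * (r + 3)) (r * (r + 3) + 3)
    have h1 : G ∣ (r + 1) * (r + 3) := Nat.gcd_dvd_left _ _
    have h2 : G ∣ r * (r + 3) + 3 := Nat.gcd_dvd_right _ _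
    have hr : G ∣ r := by
      have := Nat.dvd_sub h1 h2
      rwa [show (r + 1) * (r + 3) - (r * (r + 3) + 3) = r from Nat.sub_eq_of_eq_add (by ring)] at this
    exact (Nat.dvd_add_right (hr.mul_right _)).mp h2
  rcases (Nat.dvd_prime (by norm_num)).mp h3 with h | h
  · rw [h, if_neg]
    intro hmod
    have hr3 : 3 ∣ r := by omega
    have : 3 ∣ Nat.gcd ((r + 1) * (r + 3)) (r * (r + 3) + 3) :=
      Nat.dvd_gcd (Dvd.dvd.mul_left (by omega) _) (dvd_add (hr3.mul_right _) dvd_rfl)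
    omega
  · rw [h, if_pos]
    have h2 : 3 ∣ r * (r + 3) + 3 := by
      have := Nat.gcd_dvd_right ((r + 1) * (r + 3)) (r * (r + 3) + 3)
      rwa [h] at this
    have h4 : 3 ∣ r * (r + 3) := (Nat.dvd_add_left dvd_rfl).mp h2
    rcases (Nat.prime_three.dvd_mul).mp h4 with h5 | h5 <;> omega

set_option maxHeartbeats 1000000 in
/-- The Singer normaliser is maximal in `SU₃(q)`. -/
theorem singer_SU_maximal {F : Type u} [Field F] [Fintype F] (q : ℕ) (hF : Fintype.card F = q ^ 2) (hq : 3 ≤ q) :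
    q ≠ 3 → q ≠ 5 → ∀ K : Subalgebra F (Matrix (Fin 3) (Fin 3) F), Cfsg.Geo.IsFieldSubalgebra 3 K →
      Cfsg.Geo.IsAdjointClosedFor (Cfsg.hermForm 3 F q) K →
      Cfsg.Geo.IsMaximalIn (Cfsg.GU 3 F q ⊓ Cfsg.Geo.specialLinear (Fin 3) F)
        (Cfsg.Geo.subalgebraNormalizer K ⊓ (Cfsg.GU 3 F q ⊓ Cfsg.Geo.specialLinear (Fin 3) F)) := by
  classical
  intro h3q h5 K hK hac
  obtain ⟨J⟩ := CfsgLib.Classical.Herm.exists_conj_of_card hF
  obtain ⟨p, hchar⟩ := CharP.exists F
  haveI := hchar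
  obtain ⟨f, hp, hf⟩ := FiniteField.card F p
  haveI : Fact p.Prime := ⟨hp⟩
  obtain ⟨g, -, hg⟩ := (Nat.dvd_prime_pow hp).mp
    (show q ∣ p ^ (f : ℕ) from hf ▸ hF ▸ dvd_pow_self q two_ne_zero)
  have hg0 : g ≠ 0 := fun e => by rw [e, pow_zero] at hg; omega
  have hpp : IsPrimePow q := (isPrimePow_nat_iff q).mpr ⟨p, g, hp, Nat.pos_of_ne_zero hg0, hg.symm⟩
  obtain ⟨n, hn, hn3, -, -, -⟩ := SUField.arith J
  set S := Cfsg.GU 3 F q ⊓ specialLinear (Fin 3) F with hS
  set T := unitsK K ⊓ S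
  set H := subalgebraNormalizer K ⊓ S with hH
  set Z := scalars (Fin 3) F ⊓ S
  set d := if q % 3 = 2 then 3 else 1 with hd
  have hn7 : 7 ≤ n := by
    have : 4 * q ≤ q * q := Nat.mul_le_mul_right q (by omega)
    omega
  have hTc : Nat.card T = n := SUField.card_torus J hK hac hn
  have hTH : T ≤ H := inf_le_inf_right _ (units_le_normalizer hK)
  have hcube : ∀ h ∈ H, h ^ 3 ∈ T := fun h hh => ⟨(card_normalizer hK).2 h hh.1, pow_mem hh.2 3⟩
  have hHc : Nat.card H = 3 * n := by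
    have e : T.relIndex H = (unitsK K).relIndex H := by
      rw [← Subgroup.inf_relIndex_right (unitsK K) H]
      congr 1
      exact le_antisymm (le_inf inf_le_left hTH) fun x hx => ⟨hx.1, hx.2.2⟩
    have hN : (unitsK K).relIndex (subalgebraNormalizer K) = 3 := by
      have h := card_mul_relIndex (units_le_normalizer hK)
      rw [(card_normalizer hK).1, card_unitsK hK, mul_comm 3] at h
      refine Nat.eq_of_mul_eq_mul_left ?_ h
      have : 2 ^ 3 ≤ Fintype.card F ^ 3 := Nat.pow_le_pow_left Fintype.one_lt_card 3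
      omega
    have hle : (unitsK K).relIndex H ≤ 3 := by
      have hHN : H ≤ subalgebraNormalizer K := fun x hx => hx.1
      have := Subgroup.relIndex_le_of_le_right (H := unitsK K) hHN (by rw [hN]; norm_num)
      rwa [hN] at this
    have h0 : (unitsK K).relIndex H ≠ 0 := by
      rw [← e]
      intro h
      have h' := card_mul_relIndex hTH
      rw [h, mul_zero] at h'
      haveI : Finite H := Finite.of_injective Subtype.val Subtype.val_injective
      exact Nat.card_pos.ne h'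
    obtain ⟨x, hxH, hxu⟩ := SUField.exists_outer J hK hac
    have h1 : T.relIndex H ≠ 1 := fun h => hxu ((Subgroup.relIndex_eq_one.mp h) hxH).1
    have h2 : T.relIndex H ≠ 2 := by
      intro h
      have hsq := Subgroup.mul_self_mem_of_index_two (H := T.subgroupOf H) h ⟨x, hxH⟩
      rw [Subgroup.mem_subgroupOf] at hsq
      have hx3 := hcube x hxH
      have : x ∈ T := by
        have h' := mul_mem (inv_mem hsq) hx3
        simp only [Subgroup.coe_mul, pow_succ, pow_zero, one_mul] at h'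
        simpa [mul_assoc] using h'
      exact hxu this.1
    rw [← card_mul_relIndex hTH, hTc, show T.relIndex H = 3 by omega, mul_comm]
  have hZc : Nat.card Z = d := card_scalars_torus J hK hac hn
  have hZT : Z ≤ T := inf_le_inf_right _ (scalars_le hK)
  set nb := Z.relIndex T with hnb
  have hdn : d * nb = n := by rw [← hZc, hnb, card_mul_relIndex hZT, hTc]
  have h3 : Nat.Coprime nb 3 ∧ 2 ≤ nb := by
    obtain ⟨t, r, ht, hr⟩ : ∃ t r, q = 3 * t + r ∧ r < 3 := ⟨q / 3, q % 3, by omega, Nat.mod_lt _ (by norm_num)⟩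
    have hnum : n + 3 * t + r = 9 * (t * t) + 6 * (t * r) + r * r + 1 := by
      rw [ht] at hn; linarith
    have hco : ¬ 3 ∣ nb := by
      intro hdvd
      interval_cases r
      · rw [hd, if_neg (by omega)] at hdn; omega
      · rw [hd, if_neg (by omega)] at hdn; omega
      · rw [hd, if_pos (by omega)] at hdn; omega
    refine ⟨((Nat.prime_three.coprime_iff_not_dvd).mpr hco).symm, ?_⟩
    rw [hd] at hdn
    split_ifs at hdn <;> omega
  have hZs : ∀ z ∈ Z, ∃ c : F, z.1 = c • (1 : Matrix (Fin 3) (Fin 3) F) := fun z hz => by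
    obtain ⟨c, hc⟩ := (mem_scalars_iff z).mp hz.1
    exact ⟨c, hc⟩
  have hscal : ∀ t ∈ T, ∀ c : F, t.1 = c • 1 → t ∈ Z := fun t ht c hc =>
    ⟨(mem_scalars_iff t).mpr ⟨Units.mk0 c (fun hc0 => t.isUnit.ne_zero (by rw [hc, hc0, zero_smul])), hc⟩, ht.2⟩
  have hfree : ∀ t ∈ T, ∀ (w : Fin 3 → F) (c : F), w ≠ 0 → t.1 *ᵥ w = c • w → t ∈ Z := by
    intro t ht w c hw htw
    refine hscal t ht c ?_
    by_contra hne
    obtain ⟨b, hb, hbb⟩ := hK.inv (t.1 - c • 1) (K.sub_mem (val_mem ht.1) (K.smul_mem K.one_mem c)) (sub_ne_zero.mpr hne)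
    have h : (t.1 - c • 1) *ᵥ w = 0 := by rw [sub_mulVec, htw, smul_mulVec, one_mulVec, sub_self]
    have h' := congrArg (b *ᵥ ·) h
    simp only [mulVec_mulVec, mulVec_zero] at h'
    rw [hK.comm _ hb _ (K.sub_mem (val_mem ht.1) (K.smul_mem K.one_mem c)), hbb, one_mulVec] at h'
    exact hw h'
  have hcardS : Nat.card S = q ^ 3 * ((q + 1) ^ 2 * (q - 1)) * n := by
    rw [hS, card_SUGL J, hn3]
    obtain ⟨r, hr⟩ : ∃ r, q = r + 1 := ⟨q - 1, by omega⟩
    rw [hr, Nat.add_sub_cancel, show (r + 1) ^ 2 - 1 = r * (r + 2) from Nat.sub_eq_of_eq_add (by ring)]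
    ring
  refine ⟨lt_of_le_of_ne inf_le_right fun e => ?_, fun M hHM hMS => ?_⟩
  · have h1 : Nat.card H = Nat.card S := by rw [e]
    rw [hHc, hcardS] at h1
    have h2 : 3 = q ^ 3 * ((q + 1) ^ 2 * (q - 1)) := Nat.eq_of_mul_eq_mul_right (by omega) h1
    have : 3 ^ 3 ≤ q ^ 3 := Nat.pow_le_pow_left hq 3
    have : 1 ≤ (q + 1) ^ 2 * (q - 1) := Nat.one_le_iff_ne_zero.mpr
      (mul_ne_zero (pow_ne_zero _ (by omega)) (by omega))
    nlinarith
  set k := H.relIndex M with hk
  set m := M.relIndex S with hm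
  have hkM : 3 * n * k = Nat.card M := by rw [← hHc]; exact card_mul_relIndex hHM
  have hmS : Nat.card M * m = Nat.card S := card_mul_relIndex hMS
  have hkm : 3 * k * m = q ^ 3 * (q + 1) ^ 2 * (q - 1) := by
    refine Nat.eq_of_mul_eq_mul_right (show 0 < n by omega) ?_
    calc 3 * k * m * n = 3 * n * k * m := by ring
      _ = Nat.card S := by rw [hkM, hmS]
      _ = _ := by rw [hcardS]; ring
  have hk1 : k % nb = 1 := relIndex_mod hTH hHM hZT
    (fun z hz g => by
      obtain ⟨c, hc⟩ := hZs z hz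
      exact Units.ext (by rw [Units.val_mul, Units.val_mul, hc, mul_smul_comm, smul_mul_assoc, mul_one, one_mul]))
    hcube
    (fun x hx t ht htx => by
      by_cases hsc : ∀ c : F, t.1 ≠ c • 1
      · left
        refine ⟨?_, hMS hx⟩
        have := mem_normalizer_of_conj hK ht.1 hsc (g := x⁻¹) (by simpa using htx.1)
        simpa using inv_mem this
      · push Not at hsc
        obtain ⟨c, hc⟩ := hsc
        exact Or.inr (hscal t ht c hc))
    rfl h3.1 h3.2
  have hm1 : m % nb = 1 := by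
    have hR : (0 : ℤ) ≤ (d : ℤ) * ((q : ℤ) ^ 4 + 2 * (q : ℤ) ^ 3 - 3 * q - 3) := by
      have : (3 : ℤ) ≤ q := by exact_mod_cast hq
      refine mul_nonneg (by positivity) ?_
      nlinarith [pow_nonneg (show (0 : ℤ) ≤ q by linarith) 3]
    refine Arith.cofactor_mod h3.2 h3.1 hk1
      (R := ((d : ℤ) * ((q : ℤ) ^ 4 + 2 * (q : ℤ) ^ 3 - 3 * q - 3)).toNat) (Or.inl ?_)
    rw [Int.toNat_of_nonneg hR]
    have e : (3 * k * m : ℤ) = (q : ℤ) ^ 3 * ((q : ℤ) + 1) ^ 2 * ((q : ℤ) - 1) := by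
      have := congrArg (fun x : ℕ => (x : ℤ)) hkm
      push_cast [Nat.cast_sub (show 1 ≤ q by omega)] at this
      exact this
    have e2 : (d : ℤ) * nb + q = (q : ℤ) * q + 1 := by exact_mod_cast (show d * nb + q = q * q + 1 by rw [hdn, hn])
    rw [e]
    linear_combination (-((q : ℤ) ^ 4 + 2 * (q : ℤ) ^ 3 - 3 * q - 3)) * e2
  have hdn' : d * nb + q = q * q + 1 := by rw [hdn, hn]
  have hTM : T ≤ M := hTH.trans hHM
  have htwo : ∀ {a : ℕ}, q = 2 ^ a → 1 ≤ a → CharP F 2 := fun {a} ha ha1 => by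
    have h2 : 2 ∣ p := Nat.prime_two.dvd_of_dvd_pow (hg ▸ ha ▸ dvd_pow_self 2 (by omega) : 2 ∣ p ^ g)
    obtain rfl : p = 2 := ((Nat.prime_dvd_prime_iff_eq Nat.prime_two hp).mp h2).symm
    infer_instance
  rcases Arith.uni_cases (by omega) h5 hpp hd hdn' hk1 hm1 hkm with e | e | ⟨rfl, e⟩ | ⟨rfl, e⟩
  · exact Or.inl (Subgroup.eq_of_le_of_card_ge hHM (by rw [← hkM, e, mul_one, hHc])).symm
  · exact Or.inr (Subgroup.eq_of_le_of_card_ge hMS (by rw [← hmS, e, mul_one]))
  · exfalso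
    haveI := htwo (a := 2) rfl (by norm_num)
    obtain rfl : n = 13 := by omega
    obtain ⟨s, b, hsb, hns, hs8, -, hr⟩ := SUTwo.conditions J hMS hTM hZT hZs hfree (e := 3) (o := 195)
      (by rw [← hkM, e]; norm_num) (by norm_num) (by norm_num)
    have hnb13 : nb = 13 := by rw [hd] at hdn; norm_num at hdn; exact hdn
    rw [← hnb, hnb13] at hns
    have hs : s ∈ Nat.divisors 195 := Nat.mem_divisors.mpr ⟨⟨b, hsb⟩, by norm_num⟩
    have hs65 : s = 65 := by
      have key : ∀ s ∈ Nat.divisors 195, 13 ∣ s → s % 2 ^ 3 = 1 → s = 65 := by decide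
      exact key s hs hns hs8
    have hb : b = 3 := by rw [hs65] at hsb; omega
    have := hr 3 Nat.prime_three (by rw [hb]) (by norm_num)
    norm_num at this
  · exfalso
    haveI := htwo (a := 3) rfl (by norm_num)
    obtain rfl : n = 57 := by omega
    have hd3 : d = 3 := by rw [hd]; norm_num
    have hnb19 : nb = 19 := by rw [hd3] at hdn; omega
    rcases e with e | e
    · obtain ⟨s, b, hsb, hns, hs8, hZb, -⟩ := SUTwo.conditions J hMS hTM hZT hZs hfree (e := 5) (o := 513)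
        (by rw [← hkM, e]; norm_num) (by norm_num) (by norm_num)
      rw [← hnb, hnb19] at hns
      have hs : s ∈ Nat.divisors 513 := Nat.mem_divisors.mpr ⟨⟨b, hsb⟩, by norm_num⟩
      have key : ∀ s ∈ Nat.divisors 513, 19 ∣ s → s % 2 ^ 5 = 1 → s = 513 := by decide +kernel
      rw [key s hs hns hs8] at hsb
      rw [hZc, hd3, show b = 1 by omega] at hZb
      norm_num at hZb
    · obtain ⟨s, b, hsb, hns, hs8, -, hr⟩ := SUTwo.conditions J hMS hTM hZT hZs hfree (e := 4) (o := 10773)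
        (by rw [← hkM, e]; norm_num) (by norm_num) (by norm_num)
      rw [← hnb, hnb19] at hns
      obtain ⟨t, rfl⟩ := hns
      have ht : t ∣ 567 := ⟨b, by nlinarith⟩
      have hs : t ∈ Nat.divisors 567 := Nat.mem_divisors.mpr ⟨ht, by norm_num⟩
      have key : ∀ t ∈ Nat.divisors 567, (19 * t) % 2 ^ 4 = 1 → t = 27 := by decide +kernel
      have ht27 := key t hs hs8
      have hb : b = 21 := by rw [ht27] at hsb; omega
      have := hr 7 (by norm_num) (by rw [hb]; norm_num) (by norm_num)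
      norm_num at this

end CfsgLib.ThreeMax
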