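import Cfsg.Agent.Lib.Classical.LinearSubfield

/-!
Subfield subgroups of `SL_3` are maximal.
-/

set_option autoImplicit false
set_option linter.unusedSectionVars false

namespace CfsgLib.Classical.ThreeMax.Subfield

open Matrix CfsgLib.Classical.MinIndex CfsgLib.Classical.MinIndex.Subfield
open scoped MatrixGroups

variable {F : Type*} [Field F] [Finite F] {n : ℕ} {F₀ : Subfield F}

local notation "V" => Fin n → F
local notation "SLn" => SpecialLinearGroup (Fin n) F

variable {M : Subgroup (SpecialLinearGroup (Fin n) F)}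
variable (hM : ∀ s : SpecialLinearGroup (Fin n) F, (∀ i j, s.1 i j ∈ F₀) → s ∈ M)
variable {r : ℕ} (hr : r.Prime) (hcard : Nat.card F = Nat.card F₀ ^ r)

include hM hr hcard

/-- A transvection cannot have a centre in general position. -/
theorem exists_perp (hn : 3 ≤ n) (hne : M ≠ ⊤) {a ψ : V} (hψ0 : ψ ≠ 0) (h : T M a ψ) :
    ∃ φ : V, φ ≠ 0 ∧ Rat F₀ φ ∧ φ ⬝ᵥ a = 0 := by
  classical
  by_contra hall
  push Not at hall
  obtain ⟨i, hi⟩ := exists_ne_zero' hψ0
  set v : V := Pi.single i 1 with hvdef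
  set μ := ψ i
  have haj : ∀ j, a j ≠ 0 := fun j e => hall _ (Pi.single_ne_zero_iff.2 one_ne_zero) (rat_single j)
    (by simp [e])
  have hψv : ψ ⬝ᵥ v = μ := by simp [hvdef, μ]
  obtain ⟨j₀, hj₀⟩ : ∃ j : Fin n, j ≠ i := by
    by_cases h0 : (i : ℕ) = 0
    · exact ⟨⟨1, by omega⟩, fun e => by rw [← e] at h0; simp at h0⟩
    · exact ⟨⟨0, by omega⟩, fun e => by rw [← e] at h0; simp at h0⟩
  let W : AddSubgroup F :=
    { carrier := {x | ∃ φ : V, Rat F₀ φ ∧ φ i = 0 ∧ φ ⬝ᵥ a = x}
      zero_mem' := ⟨0, fun _ => F₀.zero_mem, rfl, zero_dotProduct _⟩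
      add_mem' := by
        rintro x y ⟨φ, h1, h2, rfl⟩ ⟨φ', h1', h2', rfl⟩
        exact ⟨φ + φ', fun k => F₀.add_mem (h1 k) (h1' k),
          by rw [Pi.add_apply, h2, h2', add_zero], add_dotProduct _ _ _⟩
      neg_mem' := by
        rintro x ⟨φ, h1, h2, rfl⟩
        exact ⟨-φ, fun k => F₀.neg_mem (h1 k), by rw [Pi.neg_apply, h2, neg_zero],
          neg_dotProduct _ _⟩ }
  -- the group induced on the plane
  let L := Submodule.span F ({v, a} : Set V)
  let P : Set SL(2, F) := {S | ∃ x ∈ M, app x v = S.1 0 0 • v + S.1 1 0 • a ∧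
      app x a = S.1 0 1 • v + S.1 1 1 • a ∧ ∀ u, app x u - u ∈ L}
  have hPmul : ∀ S ∈ P, ∀ S' ∈ P, S * S' ∈ P := by
    rintro S ⟨x, hx, h1, h2, h3⟩ S' ⟨x', hx', h1', h2', h3'⟩
    refine ⟨x * x', M.mul_mem hx hx', ?_, ?_, fun u => ?_⟩
    · rw [app_mul, h1', app_add, app_smul, app_smul, h1, h2, Matrix.SpecialLinearGroup.coe_mul,
        Matrix.mul_apply, Matrix.mul_apply, Fin.sum_univ_two, Fin.sum_univ_two]
      module
    · rw [app_mul, h2', app_add, app_smul, app_smul, h1, h2, Matrix.SpecialLinearGroup.coe_mul,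
        Matrix.mul_apply, Matrix.mul_apply, Fin.sum_univ_two, Fin.sum_univ_two]
      module
    · rw [app_mul, show app x (app x' u) - u = (app x (app x' u) - app x' u) + (app x' u - u) by abel]
      exact L.add_mem (h3 _) (h3' u)
  have hP1 : (1 : SL(2, F)) ∈ P :=
    ⟨1, M.one_mem, by simp [app_one], by simp [app_one], fun u => by simp [app_one]⟩
  have hPpow : ∀ S ∈ P, ∀ k : ℕ, S ^ k ∈ P := fun S hS k => by
    induction k with
    | zero => exact hP1
    | succ k ih => rw [pow_succ]; exact hPmul _ ih _ hS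
  let G : Subgroup SL(2, F) :=
    { carrier := P
      one_mem' := hP1
      mul_mem' := fun {x y} hx hy => hPmul x hx y hy
      inv_mem' := fun {x} hx => by
        rw [show x⁻¹ = x ^ (orderOf x - 1) from inv_eq_of_mul_eq_one_right (by
          rw [← pow_succ', Nat.sub_add_cancel (orderOf_pos x), pow_orderOf_eq_one])]
        exact hPpow _ hx _ }
  have hG : G = ⊤ := by
    refine CfsgLib.SL2.eq_top_of_up_lo' W ?_ (μ := μ) hi ?_ ?_ fun K hK => ?_
    · rintro _ ⟨φ, hφ, hφi, rfl⟩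
      obtain ⟨e, hm⟩ := T_rat hM (rat_single i) hφ (by simp [hφi])
      refine ⟨_, hm, ?_, ?_, fun u => ?_⟩
      · simp [app_tv, CfsgLib.SL2.up_coe, hφi, hvdef]
      · simp [app_tv, CfsgLib.SL2.up_coe, add_comm, hvdef]
      · rw [app_tv, add_sub_cancel_left]
        exact L.smul_mem _ (Submodule.subset_span (Set.mem_insert _ _))
    · obtain ⟨e, hm⟩ := h
      refine ⟨_, hm, ?_, ?_, fun u => ?_⟩
      · simp [app_tv, CfsgLib.SL2.lo_coe, hψv]
      · simp [app_tv, CfsgLib.SL2.lo_coe, e]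
      · rw [app_tv, add_sub_cancel_left]
        exact L.smul_mem _ (Submodule.subset_span (Set.mem_insert_of_mem _ rfl))
    · let emb : ({j : Fin n // j ≠ i} → F₀) → W := fun g =>
        ⟨(fun j => if hj : j = i then 0 else (g ⟨j, hj⟩ : F)) ⬝ᵥ a,
          fun j => if hj : j = i then 0 else (g ⟨j, hj⟩ : F),
          fun j => by dsimp only; split; exacts [F₀.zero_mem, (g _).2], dif_pos rfl, rfl⟩
      have hinj : Function.Injective emb := by
        intro g g' hg
        have he := congrArg Subtype.val hg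
        simp only [emb] at he
        rw [← sub_eq_zero, ← sub_dotProduct] at he
        by_contra hgg
        obtain ⟨⟨j, hj⟩, hj'⟩ := Function.ne_iff.1 hgg
        refine hall _ (fun e => hj' ?_) (fun k => ?_) he
        · have := congrFun e j
          simp [hj, sub_eq_zero] at this
          exact this
        · simp only [Pi.sub_apply]
          split
          · simp
          · exact F₀.sub_mem (g _).2 (g' _).2
      have h1 := Nat.card_le_card_of_injective emb hinj
      rw [Nat.card_fun, Nat.card_eq_fintype_card (α := {j : Fin n // j ≠ i}),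
        Fintype.card_subtype_compl, Fintype.card_fin, Fintype.card_subtype_eq] at h1
      have h2 : Nat.card F₀ ^ 2 ≤ Nat.card F₀ ^ (n - 1) := Nat.pow_le_pow_right Finite.card_pos (by omega)
      rcases Nat.lt_or_ge 5 (Nat.card W) with h5 | h5
      · exact Or.inl h5
      have h0 : Nat.card F₀ = 2 := by
        by_contra hne0
        have h30 : 3 ≤ Nat.card F₀ := by have := Finite.one_lt_card (α := F₀); omega
        have := Nat.pow_le_pow_left h30 2
        omega
      haveI : Fintype F₀ := Fintype.ofFinite F₀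
      have h2F : (2 : F) = 0 := by
        have h20 : ((2 : ℕ) : F₀) = 0 := by
          rw [← h0, Nat.card_eq_fintype_card]; exact FiniteField.cast_card_eq_zero F₀
        have := congrArg F₀.subtype h20
        rw [map_natCast, map_zero] at this
        exact_mod_cast this
      rw [h0] at h1 h2
      refine Or.inr ⟨?_, h2F⟩
      haveI : CharP F 2 := CharTwo.of_one_ne_zero_of_two_eq_zero one_ne_zero h2F
      haveI := Fintype.ofFinite F
      obtain ⟨f₁, -, hcardF⟩ := FiniteField.card F 2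
      obtain ⟨k, -, hWp⟩ := (Nat.dvd_prime_pow Nat.prime_two).1
        (hcardF ▸ Nat.card_eq_fintype_card (α := F) ▸ AddSubgroup.card_addSubgroup_dvd_card W)
      have h4 : 4 ≤ Nat.card W := le_trans (le_trans (by norm_num) h2) h1
      have hk2 : k = 2 := by
        rcases Nat.lt_trichotomy k 2 with hk | hk | hk
        · have : 2 ^ k ≤ 2 ^ 1 := Nat.pow_le_pow_right (by norm_num) (by omega)
          omega
        · exact hk
        · have : 2 ^ 3 ≤ 2 ^ k := Nat.pow_le_pow_right (by norm_num) (by omega)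
          omega
      rw [hWp, hk2]; norm_num
    · have hF₀ : ∀ t ∈ F₀, t ∈ K := fun t ht => by
        have h1 := hK _ ⟨Pi.single j₀ 1, rat_single _, Pi.single_eq_of_ne hj₀.symm _, rfl⟩
        have h2 := hK _ ⟨t • Pi.single j₀ 1, rat_smul ht (rat_single _),
          by simp [Pi.single_eq_of_ne hj₀.symm], rfl⟩
        have := K.div_mem h2 h1
        simp only [smul_dotProduct, single_dotProduct, one_mul, smul_eq_mul] at this
        rwa [show μ * (t * a j₀) / (μ * a j₀) = t by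
          have := haj j₀; field_simp] at this
      by_contra hKt
      have hsub : ∀ w ∈ W, μ * w ∈ F₀ := fun w hw => by_contra fun hwn => hKt (by
        rw [eq_top_iff]
        intro x _
        exact eq_univ_of_closed (S := (K : Set F)) hr hcard hF₀ (fun _ ha _ hb => K.add_mem ha hb)
          (fun _ ha _ hb => K.mul_mem ha hb) (hK w hw) hwn x)
      obtain ⟨k₀, hk₀, hk₀'⟩ : ∃ k : Fin n, k ≠ i ∧ k ≠ j₀ := by
        by_contra hc
        push Not at hc
        have : (Finset.univ : Finset (Fin n)) ⊆ {i, j₀} := fun k _ => by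
          by_cases hk : k = i
          · simp [hk]
          · simp [hc k hk]
        have := (Finset.card_le_card this).trans Finset.card_le_two
        simp at this
        omega
      have m1 := hsub _ ⟨Pi.single j₀ 1, rat_single _, Pi.single_eq_of_ne hj₀.symm _, rfl⟩
      have m2 := hsub _ ⟨Pi.single k₀ 1, rat_single _, Pi.single_eq_of_ne hk₀.symm _, rfl⟩
      simp only [single_dotProduct, one_mul] at m1 m2
      refine hall ((μ * a k₀) • Pi.single j₀ 1 - (μ * a j₀) • Pi.single k₀ 1) (fun e => ?_)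
        (fun k => F₀.sub_mem (F₀.mul_mem m2 (rat_single j₀ k)) (F₀.mul_mem m1 (rat_single k₀ k))) ?_
      · have := congrFun e j₀
        simp [hk₀'.symm, hi, haj] at this
      · simp only [sub_dotProduct, smul_dotProduct, single_dotProduct, one_mul, smul_eq_mul]
        ring
  -- a torus of the plane
  obtain ⟨u₀, hu₀⟩ := IsCyclic.exists_generator (α := Fˣ)
  set c₀ : F := (u₀ : F)
  have hc₀0 : c₀ ≠ 0 := u₀.ne_zero
  have hpow : ∀ c : F, c ≠ 0 → ∃ k : ℕ, c₀ ^ k = c := fun c hc => by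
    obtain ⟨k, hk⟩ := (IsOfFinOrder.mem_powers_iff_mem_zpowers (isOfFinOrder_of_finite u₀)).2
      (hu₀ (Units.mk0 c hc))
    exact ⟨k, by simpa [c₀] using congrArg Units.val hk⟩
  have hc₀1 : c₀ ≠ 1 := by
    intro e
    have hsub : ∀ x : F, x = 0 ∨ x = 1 := fun x => by
      by_cases hx : x = 0
      · exact Or.inl hx
      · obtain ⟨k, hk⟩ := hpow x hx
        rw [e, one_pow] at hk
        exact Or.inr hk.symm
    rcases hsub (a j₀ / μ) with hh | hh
    · exact div_ne_zero (haj j₀) hi hh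
    · have hq : Nat.card F ≤ 2 := by
        refine (Nat.card_le_card_of_surjective (fun b : Fin 2 => if b = 0 then (0 : F) else 1)
          fun x => ?_).trans (by simp)
        rcases hsub x with rfl | rfl
        · exact ⟨0, rfl⟩
        · exact ⟨1, rfl⟩
      have : 2 ^ 2 ≤ Nat.card F₀ ^ r :=
        (Nat.pow_le_pow_left Finite.one_lt_card 2).trans (Nat.pow_le_pow_right Finite.card_pos hr.two_le)
      omega
  obtain ⟨y₀, hy₀, hyv, hya, hyL⟩ : ∃ y ∈ M, app y v = c₀⁻¹ • v ∧ app y a = c₀ • a ∧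
      ∀ u, app y u - u ∈ L := by
    obtain ⟨D, hD⟩ : ∃ D : SL(2, F), D.1 = !![c₀⁻¹, 0; 0, c₀] := ⟨⟨!![c₀⁻¹, 0; 0, c₀], by simp [hc₀0]⟩, rfl⟩
    have : D ∈ G := hG ▸ Subgroup.mem_top D
    obtain ⟨y, hy, e1, e2, e3⟩ := this
    exact ⟨y, hy, by simpa [hD] using e1, by simpa [hD] using e2, e3⟩
  have hav : a ∉ Submodule.span F {v} := fun hm => by
    obtain ⟨s, hs⟩ := Submodule.mem_span_singleton.1 hm
    exact haj j₀ (by rw [← hs]; simp [hvdef, Pi.single_eq_of_ne hj₀])
  obtain ⟨ψ₂, hψ₂, hψ₂a⟩ := exists_sep _ hav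
  have hψ₂v : ψ₂ ⬝ᵥ v = 0 := hψ₂ _ (Submodule.mem_span_singleton_self v)
  obtain ⟨fs, hfs⟩ : ∃ fs : V, fs = (c₀ - 1)⁻¹ • (ψ₂ ᵥ* y₀.1 - ψ₂) := ⟨_, rfl⟩
  have hfsu : ∀ u, fs ⬝ᵥ u = (c₀ - 1)⁻¹ * (ψ₂ ⬝ᵥ (app y₀ u - u)) := fun u => by
    rw [hfs, smul_dotProduct, sub_dotProduct, ← dotProduct_mulVec, dotProduct_sub, smul_eq_mul]
    rfl
  have hc1 : c₀ - 1 ≠ 0 := sub_ne_zero.2 hc₀1
  have hfsv : fs ⬝ᵥ v = 0 := by
    rw [hfsu, hyv, dotProduct_sub, dotProduct_smul, hψ₂v, smul_zero, sub_zero, mul_zero]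
  have hfsa : fs ⬝ᵥ a = 1 := by
    rw [hfsu, hya, dotProduct_sub, dotProduct_smul, hψ₂a, smul_eq_mul, mul_one, inv_mul_cancel₀ hc1]
  have hfsy : ∀ u, fs ⬝ᵥ app y₀ u = c₀ * (fs ⬝ᵥ u) := fun u => by
    obtain ⟨s, t, hst⟩ := Submodule.mem_span_pair.1 (hyL u)
    rw [hfsu, hfsu, ← hst]
    have e : app y₀ (app y₀ u) - app y₀ u = app y₀ (s • v + t • a) := by
      rw [hst, app, app, app, mulVec_sub]
    rw [e, app_add, app_smul, app_smul, hyv, hya]
    simp only [dotProduct_add, dotProduct_smul, hψ₂v, hψ₂a, smul_eq_mul]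
    ring
  -- the functionals of transvections with centre `v`
  have hconj : ∀ f : V, T M v f → ∀ c : F, c ≠ 0 →
      T M v (((f ⬝ᵥ a) * c * c) • fs + c • (f - (f ⬝ᵥ a) • fs)) := by
    intro f hf c hc
    obtain ⟨k, hk⟩ := hpow c hc
    have hykv : ∀ k : ℕ, app (y₀ ^ k) v = (c₀ ^ k)⁻¹ • v := fun k => by
      induction k with
      | zero => simp [app_one]
      | succ k ih => rw [pow_succ', app_mul, ih, app_smul, hyv, smul_smul, pow_succ, mul_inv]
    have hf0 : ∀ u, (f - (f ⬝ᵥ a) • fs) ⬝ᵥ app y₀ u = (f - (f ⬝ᵥ a) • fs) ⬝ᵥ u := fun u => by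
      obtain ⟨s, t, hst⟩ := Submodule.mem_span_pair.1 (hyL u)
      rw [← sub_eq_zero, ← dotProduct_sub, ← hst]
      simp only [dotProduct_add, dotProduct_smul, sub_dotProduct, smul_dotProduct, hf.1, hfsv, hfsa,
        smul_eq_mul]
      ring
    have hfk : ∀ (k : ℕ) u, f ⬝ᵥ app (y₀ ^ k) u =
        (f ⬝ᵥ a) * c₀ ^ k * (fs ⬝ᵥ u) + (f - (f ⬝ᵥ a) • fs) ⬝ᵥ u := fun k => by
      induction k with
      | zero =>
        intro u
        rw [pow_zero, pow_zero, app_one, sub_dotProduct, smul_dotProduct, smul_eq_mul]; ring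
      | succ k ih => intro u; rw [pow_succ, app_mul, ih, hfsy, hf0, pow_succ]; ring
    have := mem_of_conj hM (M.pow_mem hy₀ k) (hykv k) (hk ▸ hc) hf
    convert this using 1
    refine dotProduct_eq _ _ fun u => ?_
    rw [smul_dotProduct (c₀ ^ k), ← dotProduct_mulVec]
    show _ = (c₀ ^ k) • (f ⬝ᵥ app (y₀ ^ k) u)
    rw [hfk, hk, add_dotProduct, smul_dotProduct, smul_dotProduct, smul_eq_mul, smul_eq_mul,
      smul_eq_mul]
    ring
  -- two rational functionals
  obtain ⟨j₂, hj₂i, hj₂0⟩ : ∃ k : Fin n, k ≠ i ∧ k ≠ j₀ := by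
    by_contra hc
    push Not at hc
    have : (Finset.univ : Finset (Fin n)) ⊆ {i, j₀} := fun k _ => by
      by_cases hk : k = i
      · simp [hk]
      · simp [hc k hk]
    have := (Finset.card_le_card this).trans Finset.card_le_two
    simp at this
    omega
  have hf₁ : T M v (Pi.single j₀ 1) := T_rat hM (rat_single i) (rat_single j₀) (by simp [hvdef, hj₀])
  set σ := fs j₀
  have hq : ∀ c : F, c ≠ 0 → (a j₀ * σ) * c ^ 2 + (1 - a j₀ * σ) * c ∈ F₀ := fun c hc => by
    have h1 := T_comm (hconj _ hf₁ c hc)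
      (T_rat hM (rat_single j₀) (rat_single j₂) (by simp [hj₂0.symm])) (by simp [hvdef, hj₂i])
    have := mem_of_T hM hr hcard hn hne (rat_single i) (Pi.single_ne_zero_iff.2 one_ne_zero)
      (rat_single j₂) (Pi.single_ne_zero_iff.2 one_ne_zero) h1
    convert this using 1
    simp [σ]
    ring
  have hne' : ¬ (a j₀ * σ = 0 ∧ 1 - a j₀ * σ = 0) := fun ⟨h1, h2⟩ => by
    rw [h1, sub_zero] at h2; exact one_ne_zero h2
  -- each value of the quadratic is taken at most twice
  haveI := Fintype.ofFinite F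
  haveI := Fintype.ofFinite F₀
  set f : F → F := fun c => (a j₀ * σ) * c ^ 2 + (1 - a j₀ * σ) * c with hf
  have hfib : ∀ y ∈ (Finset.univ.filter fun c : F => c ≠ 0).image f,
      ((Finset.univ.filter fun c : F => c ≠ 0).filter fun c => f c = y).card ≤ 2 := by
    intro y _
    set p : Polynomial F := Polynomial.C (a j₀ * σ) * Polynomial.X ^ 2 +
      Polynomial.C (1 - a j₀ * σ) * Polynomial.X + Polynomial.C (-y) with hp
    have hp0 : p ≠ 0 := fun e => hne'
      ⟨by simpa [hp, Polynomial.coeff_add, Polynomial.coeff_C_mul, Polynomial.coeff_X_pow, Polynomial.coeff_X,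
          Polynomial.coeff_C, -map_mul, -map_sub] using congrArg (fun r : Polynomial F => r.coeff 2) e,
       by simpa [hp, Polynomial.coeff_add, Polynomial.coeff_C_mul, Polynomial.coeff_X_pow, Polynomial.coeff_X,
          Polynomial.coeff_C, -map_mul, -map_sub] using congrArg (fun r : Polynomial F => r.coeff 1) e⟩
    refine le_trans (Finset.card_le_card (t := p.roots.toFinset) fun c hc => ?_)
      ((Multiset.toFinset_card_le _).trans ((Polynomial.card_roots' p).trans ?_))
    · simp only [Finset.mem_filter] at hc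
      rw [Multiset.mem_toFinset, Polynomial.mem_roots hp0, Polynomial.IsRoot.def]
      simp only [hp, Polynomial.eval_add, Polynomial.eval_mul, Polynomial.eval_C, Polynomial.eval_pow,
        Polynomial.eval_X]
      simp only [hf] at hc
      linear_combination hc.2
    · rw [hp]; compute_degree
  have h1 := Finset.card_le_mul_card_image _ 2 hfib
  have h2 : ((Finset.univ.filter fun c : F => c ≠ 0).image f).card ≤ Fintype.card F₀ := by
    refine (Finset.card_le_card (t := Finset.univ.map (Function.Embedding.subtype (· ∈ F₀))) ?_).trans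
      (by simp)
    intro y hy
    simp only [Finset.mem_image, Finset.mem_filter] at hy
    obtain ⟨c, ⟨-, hc⟩, rfl⟩ := hy
    simpa using hq c hc
  have h3 : Nat.card F₀ ^ n ≤ Nat.card F := by
    let e : (Fin n → F₀) → F := fun g => (fun j => (g j : F)) ⬝ᵥ a
    refine le_of_eq_of_le (by rw [Nat.card_fun, Nat.card_fin]) (Nat.card_le_card_of_injective e fun g g' hg => ?_)
    by_contra hgg
    refine hall ((fun j => (g j : F)) - fun j => (g' j : F)) (fun e0 => hgg ?_)
      (fun k => F₀.sub_mem (g k).2 (g' k).2) (by rw [sub_dotProduct]; exact sub_eq_zero.2 hg)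
    funext j
    exact Subtype.ext (sub_eq_zero.1 (congrFun e0 j))
  have h4 : Nat.card F₀ ^ 3 ≤ Nat.card F₀ ^ n := Nat.pow_le_pow_right Finite.card_pos hn
  rw [Finset.filter_ne'] at h1 h2
  rw [Finset.card_erase_of_mem (Finset.mem_univ _), Finset.card_univ,
    ← Nat.card_eq_fintype_card] at h1
  rw [← Nat.card_eq_fintype_card] at h2
  have h5 : 2 ≤ Nat.card F₀ := Finite.one_lt_card
  have h6 : 4 * Nat.card F₀ ≤ Nat.card F₀ ^ 3 := by
    rw [pow_succ, pow_two]; exact Nat.mul_le_mul_right _ (Nat.mul_le_mul h5 h5)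
  have h7 := le_trans h1 (Nat.mul_le_mul_left 2 (h2))
  omega

/-- Every element of a proper overgroup is a scalar multiple of a rational matrix. -/
theorem exists_scalar (hn : 3 ≤ n) (hne : M ≠ ⊤) {g : SLn} (hg : g ∈ M) :
    ∃ c : F, c ≠ 0 ∧ ∀ i j, g.1 i j / c ∈ F₀ := by
  have hn0 : 0 < n := by omega
  obtain ⟨j₀, hj₀⟩ := exists_ne_zero' (app_ne_zero g
    (Pi.single_ne_zero_iff.2 one_ne_zero : (Pi.single (⟨0, hn0⟩ : Fin n) (1 : F) : V) ≠ 0))
  have happ : ∀ i j, app g (Pi.single i 1) j = g.1 j i := fun i j => by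
    simp [app, mulVec_single_one, Matrix.col_apply]
  rw [happ] at hj₀
  refine ⟨g.1 j₀ ⟨0, hn0⟩, hj₀, fun j i => ?_⟩
  obtain ⟨χ, hχ0, hχ, h1, h2⟩ := exists_rat_perp (by omega : 3 ≤ n) (rat_single (⟨0, hn0⟩ : Fin n))
    (rat_single (F₀ := F₀) i)
  have key : ∀ k : Fin n, χ ⬝ᵥ Pi.single k 1 = 0 → ∀ l m, g.1 l k * (χ ᵥ* (g⁻¹).1) m ∈ F₀ := by
    intro k hk l m
    obtain ⟨e, hm⟩ := T_rat hM (rat_single k) hχ hk
    have hT : T M (app g (Pi.single k 1)) (χ ᵥ* (g⁻¹).1) :=
      ⟨by rw [← dotProduct_mulVec]; show χ ⬝ᵥ app g⁻¹ (app g _) = 0; rw [app_inv, hk],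
        conj_tv g e ▸ M.mul_mem (M.mul_mem hg hm) (M.inv_mem hg)⟩
    have hψ0 : χ ᵥ* (g⁻¹).1 ≠ 0 := fun h0 => hχ0 (by
      refine dotProduct_eq_zero _ fun v => ?_
      rw [← app_inv g v, app, dotProduct_mulVec, h0, zero_dotProduct])
    obtain ⟨φ, hφ0, hφ, hφa⟩ := exists_perp hM hr hcard hn hne hψ0 hT
    have := rational_of_perp hM hr hcard (by omega) hne
      (app_ne_zero g (Pi.single_ne_zero_iff.2 one_ne_zero)) hψ0 hT hφ hφ0 hφa l m
    rwa [happ] at this
  obtain ⟨m, hm⟩ := exists_ne_zero' (show χ ᵥ* (g⁻¹).1 ≠ 0 from fun h0 => hχ0 (by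
      refine dotProduct_eq_zero _ fun v => ?_
      rw [← app_inv g v, app, dotProduct_mulVec, h0, zero_dotProduct]))
  have := F₀.div_mem (key i h2 j m) (key ⟨0, hn0⟩ h1 j₀ m)
  rwa [mul_div_mul_right _ _ hm] at this

omit hM



theorem isMaximalIn_subfield (hn : 3 ≤ n) (P : GL (Fin n) F) :
    Cfsg.Geo.IsMaximalIn (Cfsg.Geo.specialLinear (Fin n) F)
      (Cfsg.Geo.subfieldSubgroup F₀ P ⊓ Cfsg.Geo.specialLinear (Fin n) F) := by
  have hK : (Cfsg.Geo.specialLinear (Fin n) F).map (MulAut.conj P).toMonoidHom =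
      Cfsg.Geo.specialLinear (Fin n) F := by
    refine le_antisymm ?_ fun g hg => ⟨P⁻¹ * g * P, ?_, by simp [mul_assoc]⟩
    · rintro _ ⟨g, hg, rfl⟩
      exact (MonoidHom.normal_ker _).conj_mem g hg P
    · have h := (MonoidHom.normal_ker (Matrix.GeneralLinearGroup.det : GL (Fin n) F →* Fˣ)).conj_mem g hg P⁻¹
      rwa [inv_inv] at h
  have hP : Cfsg.Geo.subfieldSubgroup F₀ P ⊓ Cfsg.Geo.specialLinear (Fin n) F =
      (Cfsg.Geo.subfieldSubgroup F₀ 1 ⊓ Cfsg.Geo.specialLinear (Fin n) F).map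
        (MulAut.conj P).toMonoidHom := by
    rw [Subgroup.map_inf _ _ _ (MulAut.conj P).injective, hK]
    congr 1
    rw [Cfsg.Geo.subfieldSubgroup, Cfsg.Geo.subfieldSubgroup, Subgroup.map_map]
    congr 1
    ext g; simp
  rw [hP]
  suffices main : Cfsg.Geo.IsMaximalIn (Cfsg.Geo.specialLinear (Fin n) F)
      (Cfsg.Geo.subfieldSubgroup F₀ 1 ⊓ Cfsg.Geo.specialLinear (Fin n) F) by
    have h2 := isMaximalIn_map main (MulAut.conj P)
    rwa [hK] at h2
  let i₀ : Fin n := ⟨0, by omega⟩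
  let i₁ : Fin n := ⟨1, by omega⟩
  have hi : i₀ ≠ i₁ := by simp [i₀, i₁]
  obtain ⟨t, ht⟩ : ∃ t : F, t ∉ F₀ := by
    by_contra hall
    push Not at hall
    have hle : Nat.card F ≤ Nat.card F₀ :=
      Nat.card_le_card_of_injective (fun x => (⟨x, hall x⟩ : F₀)) fun x y e => congrArg Subtype.val e
    have h1 : 1 < Nat.card F₀ := Finite.one_lt_card
    have : Nat.card F₀ ^ 1 < Nat.card F₀ ^ r := Nat.pow_lt_pow_right h1 hr.one_lt
    rw [pow_one] at this
    omega
  refine ⟨lt_of_le_not_ge inf_le_right fun h => ?_, fun M hM hM' => ?_⟩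
  · obtain ⟨c, hc, hh⟩ := mem_subfield_one.1
      (h (mem_specialLinear.2 ⟨SpecialLinearGroup.transvection hi t, rfl⟩)).1
    have h0 := hh i₀ i₀
    have h1 := hh i₀ i₁
    simp only [SpecialLinearGroup.toGL] at h0 h1
    simp [SpecialLinearGroup.transvection_coe, Matrix.add_apply, hi, hi.symm, Matrix.single_apply] at h0 h1
    refine ht ?_
    have := F₀.mul_mem h1 h0
    simpa [hc] using this
  have hM₁ : ∀ s : SLn, (∀ i j, s.1 i j ∈ F₀) → s ∈ M.comap SpecialLinearGroup.toGL := fun s hs =>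
    hM ⟨mem_subfield_one.2 ⟨1, one_ne_zero, fun i j => by rw [div_one]; exact hs i j⟩,
      mem_specialLinear.2 ⟨s, rfl⟩⟩
  by_cases htop : M.comap SpecialLinearGroup.toGL = ⊤
  · refine Or.inr (le_antisymm hM' fun g hg => ?_)
    obtain ⟨s, rfl⟩ := mem_specialLinear.1 hg
    exact (show s ∈ M.comap SpecialLinearGroup.toGL from htop ▸ Subgroup.mem_top s)
  · refine Or.inl (le_antisymm (fun g hg => ?_) hM)
    obtain ⟨s, rfl⟩ := mem_specialLinear.1 (hM' hg)
    exact ⟨mem_subfield_one.2 (exists_scalar hM₁ hr hcard hn htop hg), mem_specialLinear.2 ⟨s, rfl⟩⟩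

end CfsgLib.Classical.ThreeMax.Subfield
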